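import Cfsg.Agent.H73.Conway.NonConj

/-!
A group of Conway type has exactly three classes of involutions.
-/

set_option autoImplicit false
set_option linter.unusedSectionVars false

namespace Cfsg.Agent.H73.Conway

open QuadraticMap Cfsg.Agent.Orthogonal Cfsg.Agent.H92.ExtraForm

variable {G : Type*} [Group G] [Finite G] {z : G} {Q : Subgroup G}

namespace Pair

variable {h : Setup z Q} {s w : G} (P : Pair h s w)
include P

/-- Building a standard involution from its residues. -/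
theorem mk_std {q0 b0 : G} (hq : InA Q s q0) (hb : InB z Q w b0) {a u a1 : U6}
    (ha : alpha h q0 = a) (hu : theta h b0 = u) (ha0 : a ≠ 0) (hu0 : u ≠ 0) (hau : a ≠ u)
    (hqa : qU a = fU a u) (hqu : qU u = fU a u)
    (haux : qU a1 = 1 ∧ fU a1 a = 0 ∧ fU a1 u = 0)
    (hconj : ∀ q b, InA Q s q → InB z Q w b → qU (alpha h q) = fU a u →
      qU (theta h b) = fU a u → fU (alpha h q) (theta h b) = fU a u → alpha h q ≠ 0 →
      theta h b ≠ 0 → alpha h q ≠ theta h b →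
      ∃ c, c * z = z * c ∧ c * s = s * c ∧ c * (q * b) * c⁻¹ = q0 * b0) :
    Std h s w q0 b0 := by
  refine ⟨hq, hb, ha ▸ ha0, hu ▸ hu0, by rw [ha, hu]; exact hau, ?_, ?_,
    ⟨a1, haux.1, by rw [ha]; exact haux.2.1, by rw [hu]; exact haux.2.2⟩⟩
  · rw [P.sq_AB hq hb, ha, hu, hqa, hqu, CharTwo.add_self_eq_zero]
    simp [tt, zp]
  · obtain ⟨r, hr, hπr, hrs⟩ := h.exists_flip P.hs P.hπ
    obtain ⟨q', hq', hα, he⟩ := P.flip_W hr hπr hrs hq hb
    rw [ha, hu] at hα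
    obtain ⟨c, hc, hcs, hce⟩ := hconj q' b0 hq' hb
      (by rw [hα, qU_add, hqa, hqu, CharTwo.add_self_eq_zero, zero_add]) (by rw [hu, hqu])
      (by rw [hα, hu, fU_add_left, fU_self, add_zero])
      (by rw [hα]; exact fun e => hau (eq_of_add_zero_U e)) (by rw [hu]; exact hu0)
      (by rw [hα, hu]; exact fun e => ha0 (add_eq_right.mp e))
    refine ⟨c * r, h.mul_comm' hc (h.le r hr), ?_, ?_⟩
    · calc c * r * s * (c * r)⁻¹ = c * (r * s * r⁻¹) * c⁻¹ := by group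
        _ = s * z := by
          rw [hrs, ← conj_mul, mul_inv_eq_iff_eq_mul.mpr hcs, mul_inv_eq_iff_eq_mul.mpr hc]
    · rw [← mul_inv_eq_iff_eq_mul]
      calc c * r * (q0 * b0) * (c * r)⁻¹ = c * (r * (q0 * b0) * r⁻¹) * c⁻¹ := by group
        _ = q0 * b0 := by rw [he, hce]

end Pair

/-- Three classes of involutions. -/
theorem three_classes (h : Setup z Q) :
    ∃ a b c : G, orderOf a = 2 ∧ orderOf b = 2 ∧ orderOf c = 2 ∧
      ¬ IsConj a b ∧ ¬ IsConj a c ∧ ¬ IsConj b c ∧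
      ∀ x : G, orderOf x = 2 → IsConj x a ∨ IsConj x b ∨ IsConj x c := by
  obtain ⟨s, w, P⟩ := exists_setup_pair h
  obtain ⟨qa, hqa, hqaα⟩ := P.exists_A' a0
  obtain ⟨bu, hbu, hbuθ⟩ := P.exists_B u0
  obtain ⟨qe, hqe, hqeα⟩ := P.exists_A' e1
  obtain ⟨be, hbe, hbeθ⟩ := P.exists_B e2
  have f2 : qU a0 = fU a0 u0 ∧ qU u0 = fU a0 u0 ∧ fU a0 u0 = 1 := by decide
  have f3 : qU e1 = fU e1 e2 ∧ qU e2 = fU e1 e2 ∧ fU e1 e2 = 0 := by decide
  have X : Std h s w qa bu := P.mk_std hqa hbu (a1 := ((1, 1), (0, 0), 0, 0)) hqaα hbuθ (by decide)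
    (by decide) (by decide) f2.1 f2.2.1 (by decide) fun q b hq hb h1 h2 h3 _ _ _ =>
      P.conj_two hq hb hqa hbu hqaα hbuθ (h1.trans f2.2.2) (h2.trans f2.2.2) (h3.trans f2.2.2)
  have Y : Std h s w qe be := P.mk_std hqe hbe (a1 := ((0, 0), (0, 0), 1, 1)) hqeα hbeθ (by decide)
    (by decide) (by decide) f3.1 f3.2.1 (by decide) fun q b hq hb h1 h2 h3 h4 h5 h6 =>
      P.conj_three hq hb hqe hbe hqeα hbeθ (h1.trans f3.2.2) (h2.trans f3.2.2) (h3.trans f3.2.2)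
        h4 h5 h6
  have hord : ∀ {q b : G}, Std h s w q b → orderOf (q * b) = 2 := fun {q b} Z => by
    haveI : Fact (Nat.Prime 2) := ⟨Nat.prime_two⟩
    exact orderOf_eq_prime (by rw [pow_two, Z.sq]) fun e => P.x_not_mem Z (e ▸ one_mem Q)
  refine ⟨z, qa * bu, qe * be, h.hzo, hord X, hord Y, fun e => P.not_conj_z X e.symm,
    fun e => P.not_conj_z Y e.symm, fun e => ?_, fun x hx => ?_⟩
  · obtain ⟨c, hc, hce⟩ := P.conj_in_cent X Y e
    have hsY : SingularRange h (c * (qa * bu) * c⁻¹) := by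
      intro y
      rw [hce, h.ρ_mul _ _ (P.zc hqe) hbe.2, h.ρ_Q hqe.1, one_mul, P.rho_B hbe, hbeθ, E_app,
        phi_apply]
      simp only [Prod.fst_add, Prod.snd_add]
      rw [show y.2 + y.1.2 • e2 + y.2 = y.1.2 • e2 by
        rw [add_comm y.2, add_assoc, U6_add_self, add_zero], CharTwo.add_self_eq_zero, mul_zero,
        qU_smul, show qU e2 = 0 by decide, mul_zero, add_zero]
    have hsX := singularRange_conj h hc (P.x_comm X).1 hsY f0
    rw [h.ρ_mul _ _ (P.zc hqa) hbu.2, h.ρ_Q hqa.1, one_mul, P.rho_B hbu, hbuθ, E_f0,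
      phi_apply] at hsX
    revert hsX
    decide
  · have hxx : x * x = 1 := by rw [← pow_two, ← hx, pow_orderOf_eq_one]
    have hx1 : x ≠ 1 := fun e => by rw [e, orderOf_one] at hx; omega
    obtain ⟨g1, hg1⟩ := h.exists_conj_cent hxx
    set x1 := g1 * x * g1⁻¹ with hx1'
    have hx1x : x1 * x1 = 1 := by rw [hx1', conj_mul, hxx, mul_one, mul_inv_cancel]
    obtain ⟨g2, hg2, hrk⟩ := P.reduce hg1 hx1x
    set x2 := g2 * x1 * g2⁻¹ with hx2'
    have hx2x : x2 * x2 = 1 := by rw [hx2', conj_mul, hx1x, mul_one, mul_inv_cancel]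
    have hx21 : x2 ≠ 1 := fun e => hx1 (conj_eq_one_iff.mp (conj_eq_one_iff.mp e))
    have hc12 : IsConj x x2 := isConj_iff.mpr ⟨g2 * g1, by rw [hx2', hx1']; group⟩
    suffices hmain : IsConj x2 z ∨ IsConj x2 (qa * bu) ∨ IsConj x2 (qe * be) by
      rcases hmain with e | e | e
      · exact Or.inl (hc12.trans e)
      · exact Or.inr (Or.inl (hc12.trans e))
      · exact Or.inr (Or.inr (hc12.trans e))
    by_cases hQ : x2 ∈ Q
    · exact Or.inl (P.conj_Q hQ hx2x hx21)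
    have hρ2 : h.ρ x2 * h.ρ x2 = 1 := by rw [← h.ρ_mul _ _ hg2 hg2, hx2x, h.ρ_one]
    have hρ1 : h.ρ x2 ≠ 1 := fun e => hQ ((h.ρ_ker _ hg2).mp e)
    have hfin := (range_cases (h.ρ_mem _ hg2) hρ2 hρ1).resolve_right hrk
    obtain ⟨c, q, b, hc, hq, hb, hθ, hcx⟩ := P.conj_into_W hg2 hx2x hQ hfin
    have hqb : q * b * (q * b) = 1 := by
      rw [← hcx, conj_mul, hx2x, mul_one, mul_inv_cancel]
    have hc3 : IsConj x2 (q * b) := isConj_iff.mpr ⟨c, hcx⟩
    rcases P.W_cases hq hb hθ hqb with ⟨v, -, -, -, hv⟩ | ⟨e1', e2', e3'⟩ |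
      ⟨e1', e2', e3', e4', e5'⟩
    · refine Or.inl (hc3.trans ((isConj_iff.mpr ⟨v⁻¹, by rw [inv_inv]⟩).trans
        (P.conj_Q hv ?_ ?_)))
      · calc v⁻¹ * (q * b) * v * (v⁻¹ * (q * b) * v) = v⁻¹ * (q * b * (q * b)) * v := by group
          _ = 1 := by rw [hqb, mul_one, inv_mul_cancel]
      · intro e
        apply hx21
        have hqb1 : q * b = 1 := by
          calc q * b = v * (v⁻¹ * (q * b) * v) * v⁻¹ := by group
            _ = 1 := by rw [e, mul_one, mul_inv_cancel]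
        exact conj_eq_one_iff.mp (hcx.trans hqb1)
    · obtain ⟨d, -, -, hd⟩ := P.conj_two hq hb hqa hbu hqaα hbuθ e1' e2' e3'
      exact Or.inr (Or.inl (hc3.trans (isConj_iff.mpr ⟨d, hd⟩)))
    · obtain ⟨d, -, -, hd⟩ := P.conj_three hq hb hqe hbe hqeα hbeθ e1' e2' e3' e4' hθ e5'
      exact Or.inr (Or.inr (hc3.trans (isConj_iff.mpr ⟨d, hd⟩)))

end Cfsg.Agent.H73.Conway
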