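import Cfsg.Agent.H73.Conway.UFacts

/-!
Forms on the six-dimensional hyperbolic space invariant under the even orthogonal group.
-/

set_option autoImplicit false

namespace Cfsg.Agent.H73.Conway

/-- An invariant bilinear form that is not zero is the polar form. -/
theorem invariant_form (β : U6 → U6 → ZMod 2)
    (h1 : ∀ a a' u, β (a + a') u = β a u + β a' u)
    (h2 : ∀ a u u', β a (u + u') = β a u + β a u')
    (hinv : ∀ r t, qU r = 1 → qU t = 1 → ∀ a u, β (tU r (tU t a)) (tU r (tU t u)) = β a u)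
    (hne : ∃ a u, β a u ≠ 0) : ∀ a u, β a u = fU a u := by
  have hex : ∀ u, ∃ w, ∀ a, β a u = fU w a := fun u =>
    exists_repr (fun a => β a u) (fun a a' => h1 a a' u)
  choose lam hlam using hex
  have hadd : ∀ u u', lam (u + u') = lam u + lam u' := fun u u' => fU_inj _ _ fun a => by
    rw [fU_add_left, ← hlam, ← hlam, ← hlam, h2]
  have hequiv : ∀ r t, qU r = 1 → qU t = 1 → ∀ u,
      lam (tU r (tU t u)) = tU r (tU t (lam u)) := fun r t hr ht u => fU_inj _ _ fun b => by
    obtain ⟨a, rfl⟩ : ∃ a, tU r (tU t a) = b := ⟨tU t (tU r b), by rw [tU_tU, tU_tU]⟩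
    rw [← hlam, hinv r t hr ht, hlam, tU_form _ _ _ hr, tU_form _ _ _ ht]
  have hcases : ∀ u, lam u = 0 ∨ lam u = u := fun u =>
    fixed_by_stab u (lam u) fun r t hr ht hx => by rw [← hequiv r t hr ht, hx]
  by_cases hall : ∀ u, lam u = u
  · intro a u
    rw [hlam, hall, fU_comm]
  · exfalso
    push Not at hall
    obtain ⟨u₂, hu₂⟩ := hall
    have hz : lam u₂ = 0 := (hcases u₂).resolve_right hu₂
    have h20 : u₂ ≠ 0 := fun e => hu₂ (hz.trans e.symm)
    have hzero : ∀ u, lam u = 0 := fun u => by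
      rcases hcases u with e | e
      · exact e
      · rcases hcases (u + u₂) with e' | e'
        · rwa [hadd, hz, add_zero] at e'
        · rw [hadd, hz, add_zero, e] at e'
          exact absurd (left_eq_add.mp e') h20
    obtain ⟨a, u, hau⟩ := hne
    exact hau (by rw [hlam, hzero, fU_zero_left])

/-- A quadratic map with polar form `fU` invariant under the even orthogonal group is `qU`. -/
theorem invariant_quad (σ : U6 → ZMod 2) (hσ : ∀ u u', σ (u + u') = σ u + σ u' + fU u u')
    (hinv : ∀ r t, qU r = 1 → qU t = 1 → ∀ u, σ (tU r (tU t u)) = σ u) :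
    ∀ u, σ u = qU u := by
  obtain ⟨w, hw⟩ := exists_repr (fun u => σ u + qU u) (fun u u' => by
    show σ (u + u') + qU (u + u') = _
    rw [hσ, qU_add]
    generalize σ u = a, qU u = b, σ u' = c, qU u' = d, fU u u' = e
    revert a b c d e
    decide)
  have hw' : ∀ u, σ u + qU u = fU w u := hw
  have hw0 : w = 0 := by
    rcases fixed_by_stab 0 w (fun r t hr ht _ => fU_inj _ _ fun b => by
      obtain ⟨a, rfl⟩ : ∃ a, tU r (tU t a) = b := ⟨tU t (tU r b), by rw [tU_tU, tU_tU]⟩
      rw [tU_form _ _ _ hr, tU_form _ _ _ ht, ← hw', ← hw', hinv r t hr ht, qU_tU _ _ hr,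
        qU_tU _ _ ht]) with e | e <;> exact e
  intro u
  have := hw' u
  rw [hw0, fU_zero_left] at this
  exact CharTwo.add_eq_zero.mp this

end Cfsg.Agent.H73.Conway
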