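import Cfsg.Agent.H73.Conway.Basic
import Cfsg.Agent.H73.Conway.Forms

/-!
The group `W = C_Q(s) C_{Q_s}(z)` of a swapped pair `(z, s)`: its multiplication is described by
the hyperbolic form on `U6`.
-/

set_option autoImplicit false
set_option linter.unusedSectionVars false

namespace Cfsg.Agent.H73.Conway

open QuadraticMap Cfsg.Agent.Orthogonal Cfsg.Agent.H92.ExtraForm

variable {G : Type*} [Group G] [Finite G] {z : G} {Q : Subgroup G}

/-- The residue of an element of `Q`. -/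
def alpha (h : Setup z Q) (q : G) : U6 := (h.π q).2

/-- The residue of an element acting as a transvection along `v0`. -/
def theta (h : Setup z Q) (b : G) : U6 := ((h.ρ b : V8 ≃ₗ[ZMod 2] V8) f0).2

/-- A commuting pair of conjugates with an element swapping it. -/
structure Pair (h : Setup z Q) (s w : G) : Prop where
  hs : s ∈ Q
  hπ : h.π s = v0
  hw1 : w * z * w⁻¹ = s
  hw2 : w * s * w⁻¹ = z

/-- The centraliser of `s` in `Q`. -/
def InA (Q : Subgroup G) (s q : G) : Prop := q ∈ Q ∧ q * s = s * q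

/-- The centraliser of `z` in the core of `s`. -/
def InB (z : G) (Q : Subgroup G) (w b : G) : Prop := w⁻¹ * b * w ∈ Q ∧ b * z = z * b

/-- The elements of `⟨z, s⟩`. -/
def tt (z s : G) (i j : ZMod 2) : G := zp z i * zp s j

theorem zp_zero {E : Type*} [Group E] (x : E) : zp x 0 = 1 := by simp [zp]

theorem zp_one {E : Type*} [Group E] (x : E) : zp x 1 = x := by simp [zp]

theorem exists_setup_pair (h : Setup z Q) : ∃ s w, Pair h s w := by
  obtain ⟨s, hs, hπ, g, hg⟩ := h.exists_s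
  obtain ⟨w, hw1, hw2⟩ := h.exists_swap hs hπ hg
  exact ⟨s, w, hs, hπ, hw1, hw2⟩

theorem E_add (u u' : U6) : E u * E u' = E (u + u') := by
  rw [E, E, E, sie_mul]
  exact sie_congr _ _ _ _ rfl (by simp [emb])

theorem comm_central {a b t t' : G} (h1 : Commute t a) (h2 : Commute t b) (h3 : Commute t t')
    (h4 : Commute t' a) (h5 : Commute t' b) :
    a * t * (b * t') * (a * t)⁻¹ * (b * t')⁻¹ = a * b * a⁻¹ * b⁻¹ := by
  calc a * t * (b * t') * (a * t)⁻¹ * (b * t')⁻¹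
      = a * (t * b) * t' * t⁻¹ * a⁻¹ * t'⁻¹ * b⁻¹ := by group
    _ = a * b * (t * t') * t⁻¹ * a⁻¹ * t'⁻¹ * b⁻¹ := by rw [h2.eq]; group
    _ = a * b * (t' * a⁻¹) * t'⁻¹ * b⁻¹ := by rw [h3.eq]; group
    _ = a * b * a⁻¹ * b⁻¹ := by rw [h4.inv_right.eq]; group

namespace Pair

variable {h : Setup z Q} {s w : G} (P : Pair h s w)
include P

theorem sz : s * z = z * s := h.le s P.hs

theorem ss : s * s = 1 := by rw [h.sq_one_iff P.hs, P.hπ, phi_v0]

theorem s_ne : s ≠ 1 := fun e => v0_ne (by rw [← P.hπ, e, h.π_one])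

theorem s_ne_z : s ≠ z := fun e => v0_ne (by rw [← P.hπ, e, h.π_z])

theorem w_z : w⁻¹ * z * w = s := by rw [← P.hw2]; group

theorem w_s : w⁻¹ * s * w = z := by rw [← P.hw1]; group

theorem commA {q : G} (hq : q ∈ Q) : q * s = s * q ↔ (h.π q).1.2 = 0 := by
  rw [h.commute_iff hq P.hs, P.hπ, polar_comm, polar_v0]

theorem perpA {q : G} (hq : InA Q s q) : polar (⇑phi) v0 (h.π q) = 0 := by
  rw [polar_v0]; exact (P.commA hq.1).mp hq.2

theorem zc {q : G} (hq : InA Q s q) : q * z = z * q := h.le q hq.1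

theorem sB {b : G} (hb : InB z Q w b) : b * s = s * b := by
  have e := h.le _ hb.1
  calc b * s = w * (w⁻¹ * b * w * (w⁻¹ * s * w)) * w⁻¹ := by group
    _ = w * ((w⁻¹ * s * w) * (w⁻¹ * b * w)) * w⁻¹ := by rw [P.w_s, e]
    _ = s * b := by group

theorem InA_mul {a b : G} (ha : InA Q s a) (hb : InA Q s b) : InA Q s (a * b) :=
  ⟨mul_mem ha.1 hb.1, ((show Commute a s from ha.2).mul_left hb.2).eq⟩

theorem InA_inv {a : G} (ha : InA Q s a) : InA Q s a⁻¹ :=
  ⟨inv_mem ha.1, ((show Commute a s from ha.2).inv_left).eq⟩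

theorem InB_mul {a b : G} (ha : InB z Q w a) (hb : InB z Q w b) : InB z Q w (a * b) :=
  ⟨by rw [show w⁻¹ * (a * b) * w = (w⁻¹ * a * w) * (w⁻¹ * b * w) by group]
      exact mul_mem ha.1 hb.1, h.mul_comm' ha.2 hb.2⟩

theorem InB_inv {a : G} (ha : InB z Q w a) : InB z Q w a⁻¹ :=
  ⟨by rw [show w⁻¹ * a⁻¹ * w = (w⁻¹ * a * w)⁻¹ by group]; exact inv_mem ha.1, h.inv_comm ha.2⟩

theorem InB_of_A {q : G} (hq : InA Q s q) : InB z Q w (w * q * w⁻¹) := by
  refine ⟨by rw [show w⁻¹ * (w * q * w⁻¹) * w = q by group]; exact hq.1, ?_⟩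
  rw [← P.hw2]
  calc w * q * w⁻¹ * (w * s * w⁻¹) = w * (q * s) * w⁻¹ := by group
    _ = w * s * w⁻¹ * (w * q * w⁻¹) := by rw [hq.2]; group

theorem InA_of_B {b : G} (hb : InB z Q w b) : InA Q s (w⁻¹ * b * w) := by
  refine ⟨hb.1, ?_⟩
  rw [← P.w_z]
  calc w⁻¹ * b * w * (w⁻¹ * z * w) = w⁻¹ * (b * z) * w := by group
    _ = w⁻¹ * z * w * (w⁻¹ * b * w) := by rw [hb.2]; group

theorem w2_z : w * w * z = z * (w * w) := by
  calc w * w * z = w * (w * z * w⁻¹) * w⁻¹ * (w * w) := by group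
    _ = z * (w * w) := by rw [P.hw1, P.hw2]

theorem swap_InA {b : G} (hb : InB z Q w b) : InA Q s (w * b * w⁻¹) := by
  refine ⟨?_, ?_⟩
  · rw [show w * b * w⁻¹ = (w * w) * (w⁻¹ * b * w) * (w * w)⁻¹ by group]
    exact h.norm _ P.w2_z _ hb.1
  · rw [← P.hw1]
    calc w * b * w⁻¹ * (w * z * w⁻¹) = w * (b * z) * w⁻¹ := by group
      _ = w * z * w⁻¹ * (w * b * w⁻¹) := by rw [hb.2]; group

theorem conj_w_C {c : G} (hc : c * z = z * c) (hcs : c * s = s * c) :
    (w⁻¹ * c * w) * z = z * (w⁻¹ * c * w) := by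
  calc w⁻¹ * c * w * z = w⁻¹ * c * (w * z * w⁻¹) * w := by group
    _ = w⁻¹ * (c * s) * w := by rw [P.hw1]; group
    _ = w⁻¹ * (w * z * w⁻¹ * c) * w := by rw [hcs, P.hw1]
    _ = z * (w⁻¹ * c * w) := by group

theorem InA_conj {c q : G} (hc : c * z = z * c) (hcs : c * s = s * c) (hq : InA Q s q) :
    InA Q s (c * q * c⁻¹) :=
  ⟨h.norm c hc q hq.1,
    (((show Commute c s from hcs).mul_left hq.2).mul_left (show Commute c s from hcs).inv_left).eq⟩

theorem InB_conj {c b : G} (hc : c * z = z * c) (hcs : c * s = s * c) (hb : InB z Q w b) :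
    InB z Q w (c * b * c⁻¹) := by
  refine ⟨?_, h.conj_comm hc hb.2⟩
  rw [show w⁻¹ * (c * b * c⁻¹) * w = (w⁻¹ * c * w) * (w⁻¹ * b * w) * (w⁻¹ * c * w)⁻¹ by group]
  exact h.norm _ (P.conj_w_C hc hcs) _ hb.1

/-- The intersection of the two cores is `⟨z, s⟩`. -/
theorem inter {x : G} (hx : x ∈ Q) (hx' : w⁻¹ * x * w ∈ Q) : ∃ i j, x = tt z s i j := by
  have hsingle : ∀ y, y ∈ Q → w⁻¹ * y * w ∈ Q → phi (h.π y) = 0 ∧ (h.π y).1.2 = 0 := by
    intro y hy hy'
    refine ⟨?_, ?_⟩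
    · rcases two_cases' (phi (h.π y)) with e | e
      · exact e
      · exfalso
        have e1 := h.sq y hy
        rw [e, zp_one] at e1
        have e2 := h.sq _ hy'
        rw [show w⁻¹ * y * w * (w⁻¹ * y * w) = w⁻¹ * (y * y) * w by group, e1, P.w_z] at e2
        rcases two_cases' (phi (h.π (w⁻¹ * y * w))) with e' | e' <;> rw [e'] at e2
        · exact P.s_ne (e2.trans (zp_zero z))
        · exact P.s_ne_z (e2.trans (zp_one z))
    · exact (P.commA hy).mp (P.sB ⟨hy', h.le y hy⟩)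
  have h2 : alpha h x = 0 := by
    by_contra hne
    obtain ⟨r, hr, t, ht, hrt⟩ := not_orth_image _ hne
    obtain ⟨c, hc, hcs, hρc⟩ :=
      h.exists_lift P.hs P.hπ (pairO_mem (nsList_spec r hr) (nsList_spec t ht))
        (pairO_v0 (nsList_spec r hr) (nsList_spec t ht))
    set y := c * x * c⁻¹ with hy
    have hyQ : y ∈ Q := h.norm c hc x hx
    have hyQ' : w⁻¹ * y * w ∈ Q := (P.InB_conj hc hcs ⟨hx', h.le x hx⟩).1
    obtain ⟨hx0, hxd⟩ := hsingle x hx hx'
    obtain ⟨hy0, hyd⟩ := hsingle y hyQ hyQ'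
    have hxy : w⁻¹ * (x * y) * w ∈ Q := by
      rw [show w⁻¹ * (x * y) * w = (w⁻¹ * x * w) * (w⁻¹ * y * w) by group]
      exact mul_mem hx' hyQ'
    obtain ⟨hxy0, -⟩ := hsingle _ (mul_mem hx hyQ) hxy
    rw [h.π_mul _ hx _ hyQ, map_add_polar, hx0, hy0, zero_add, zero_add,
      polar_of_perp (by rwa [polar_v0]) (by rwa [polar_v0])] at hxy0
    have hπy : (h.π y).2 = tU r (tU t (h.π x).2) := by
      rw [hy, h.ρ_π c hc x hx, hρc, pairO_app (nsList_spec r hr) (nsList_spec t ht)]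
    rw [hπy] at hxy0
    exact one_ne_zero (hrt.symm.trans hxy0)
  obtain ⟨c, hc⟩ := eq_emb_add (y := h.π x) (by rw [polar_v0]; exact (hsingle x hx hx').2)
  rw [show (h.π x).2 = 0 from h2, show emb 0 = (0 : V8) from rfl, zero_add] at hc
  rcases two_cases' c with rfl | rfl
  · rw [zero_smul] at hc
    rcases (h.π_zero x hx).mp hc with e | e
    · exact ⟨0, 0, by rw [e]; simp [tt, zp]⟩
    · exact ⟨1, 0, by rw [e]; simp [tt, zp]⟩
  · rw [one_smul, ← P.hπ] at hc
    rcases h.π_eq P.hs hx hc.symm with e | e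
    · exact ⟨0, 1, by rw [e]; simp [tt, zp]⟩
    · exact ⟨1, 1, by rw [e, h.le s P.hs]; simp [tt, zp]⟩

theorem tt_Q (i j : ZMod 2) : tt z s i j ∈ Q := by
  refine mul_mem ?_ ?_ <;> unfold zp <;> split_ifs
  exacts [one_mem Q, h.hzQ, one_mem Q, P.hs]

theorem π_tt (i j : ZMod 2) : h.π (tt z s i j) = j • v0 := by
  rcases two_cases' i with rfl | rfl <;> rcases two_cases' j with rfl | rfl <;>
    simp [tt, zp_zero, zp_one, h.π_one, h.π_z, P.hπ, h.π_mul _ h.hzQ _ P.hs]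

theorem tt_w (i j : ZMod 2) : w⁻¹ * tt z s i j * w = tt z s j i := by
  rcases two_cases' i with rfl | rfl <;> rcases two_cases' j with rfl | rfl <;>
    simp only [tt, zp_zero, zp_one, mul_one, one_mul]
  · group
  · exact P.w_s
  · exact P.w_z
  · rw [show w⁻¹ * (z * s) * w = (w⁻¹ * z * w) * (w⁻¹ * s * w) by group, P.w_z, P.w_s, P.sz]

theorem w_tt (i j : ZMod 2) : w * tt z s i j * w⁻¹ = tt z s j i := by
  rw [← P.tt_w j i]; group

theorem tt_InA (i j : ZMod 2) : InA Q s (tt z s i j) :=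
  ⟨P.tt_Q i j, (P.commA (P.tt_Q i j)).mpr (by rw [P.π_tt]; simp [v0])⟩

theorem tt_InB (i j : ZMod 2) : InB z Q w (tt z s i j) :=
  ⟨by rw [P.tt_w]; exact P.tt_Q j i, h.le _ (P.tt_Q i j)⟩

theorem tt_inj {i j i' j' : ZMod 2} (e : tt z s i j = tt z s i' j') : i = i' ∧ j = j' := by
  have ej : j • v0 = j' • v0 := by rw [← P.π_tt i j, e, P.π_tt]
  have hj : j = j' := by simpa [v0] using congrArg (fun v : V8 => v.1.1) ej
  subst hj
  exact ⟨zp_inj h.z_ne (mul_right_cancel e), rfl⟩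

theorem tt_mul (i j i' j' : ZMod 2) : tt z s i j * tt z s i' j' = tt z s (i + i') (j + j') := by
  have hc : Commute (zp s j) (zp z i') := by
    unfold zp; split_ifs
    exacts [Commute.one_left _, Commute.one_left _, Commute.one_right _, P.sz]
  unfold tt
  rw [zp_add h.zz, zp_add P.ss, mul_assoc (zp z i), ← mul_assoc (zp s j), hc.eq]
  group

theorem tt_comm_A {q : G} (hq : InA Q s q) (i j : ZMod 2) : q * tt z s i j = tt z s i j * q := by
  refine ((show Commute q (zp z i) from ?_).mul_right (show Commute q (zp s j) from ?_)).eq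
  · unfold zp; split_ifs
    exacts [Commute.one_right _, P.zc hq]
  · unfold zp; split_ifs
    exacts [Commute.one_right _, hq.2]

theorem tt_comm_B {b : G} (hb : InB z Q w b) (i j : ZMod 2) :
    b * tt z s i j = tt z s i j * b := by
  refine ((show Commute b (zp z i) from ?_).mul_right (show Commute b (zp s j) from ?_)).eq
  · unfold zp; split_ifs
    exacts [Commute.one_right _, hb.2]
  · unfold zp; split_ifs
    exacts [Commute.one_right _, P.sB hb]

theorem alpha_mul {a b : G} (ha : a ∈ Q) (hb : b ∈ Q) :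
    alpha h (a * b) = alpha h a + alpha h b := by
  simp [alpha, h.π_mul a ha b hb]

theorem alpha_inv {a : G} (ha : a ∈ Q) : alpha h a⁻¹ = alpha h a := by
  simp [alpha, h.π_inv ha]

theorem alpha_tt (i j : ZMod 2) : alpha h (tt z s i j) = 0 := by
  simp [alpha, P.π_tt, v0]

theorem rho_fix {c : G} (hc : c * z = z * c) (hcs : c * s = s * c) :
    (h.ρ c : V8 ≃ₗ[ZMod 2] V8) v0 = v0 := by
  rw [← P.hπ, ← h.ρ_π c hc s P.hs, mul_inv_eq_iff_eq_mul.mpr hcs]

theorem comm_mem {b q : G} (hb : InB z Q w b) (hq : InA Q s q) :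
    ∃ i j, b * q * b⁻¹ * q⁻¹ = tt z s i j := by
  refine P.inter (mul_mem (h.norm b hb.2 q hq.1) (inv_mem hq.1)) ?_
  have hq' : (w⁻¹ * q * w) * z = z * (w⁻¹ * q * w) := P.conj_w_C (P.zc hq) hq.2
  rw [show w⁻¹ * (b * q * b⁻¹ * q⁻¹) * w =
    (w⁻¹ * b * w) * ((w⁻¹ * q * w) * (w⁻¹ * b * w)⁻¹ * (w⁻¹ * q * w)⁻¹) by group]
  exact mul_mem hb.1 (h.norm _ hq' _ (inv_mem hb.1))

theorem exists_A (a : U6) : ∃ q, InA Q s q ∧ h.π q = emb a := by
  obtain ⟨q, hq, hqa⟩ := h.π_surj (emb a)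
  exact ⟨q, ⟨hq, (P.commA hq).mpr (by rw [hqa]; rfl)⟩, hqa⟩

theorem rho_B {b : G} (hb : InB z Q w b) : h.ρ b = E (theta h b) := by
  have hv := P.rho_fix hb.2 (P.sB hb)
  obtain ⟨u, hu⟩ := eq_E hv fun y hy => by
    obtain ⟨q, hq, rfl⟩ := h.π_surj y
    have hqA : InA Q s q := ⟨hq, (P.commA hq).mpr (by rwa [polar_v0] at hy)⟩
    obtain ⟨i, j, he⟩ := P.comm_mem hb hqA
    rw [← h.ρ_π b hb.2 q hq, show b * q * b⁻¹ = tt z s i j * q by rw [← he]; group,
      h.π_mul _ (P.tt_Q i j) _ hq, P.π_tt]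
    simp [v0]
  rw [hu, show theta h b = u by simp [theta, hu, E_f0]]

theorem theta_mul {b b' : G} (hb : InB z Q w b) (hb' : InB z Q w b') :
    theta h (b * b') = theta h b + theta h b' :=
  E_injective (by rw [← P.rho_B (P.InB_mul hb hb'), h.ρ_mul _ _ hb.2 hb'.2, P.rho_B hb,
    P.rho_B hb', E_add])

theorem theta_tt (i j : ZMod 2) : theta h (tt z s i j) = 0 := by
  rw [theta, h.ρ_Q (P.tt_Q i j)]
  rfl

theorem eq_mul_tt_A {q q' : G} (hq : InA Q s q) (hq' : InA Q s q') (e : alpha h q = alpha h q') :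
    ∃ i j, q' = q * tt z s i j := by
  have hx := P.InA_mul (P.InA_inv hq) hq'
  have h2 : (h.π (q⁻¹ * q')).2 = 0 := by
    rw [h.π_mul _ (inv_mem hq.1) _ hq'.1, h.π_inv hq.1, Prod.snd_add]
    change alpha h q + alpha h q' = 0
    rw [e]
    exact congrArg Prod.snd (add_self' ((0, 0), alpha h q'))
  have key : ∀ i j, h.π (q⁻¹ * q') = h.π (tt z s i j) → ∃ i j, q' = q * tt z s i j := by
    intro i j e'
    rcases h.π_eq (P.tt_Q i j) hx.1 e'.symm with r | r
    · exact ⟨i, j, eq_mul_of_inv_mul_eq r⟩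
    · refine ⟨i + 1, j, eq_mul_of_inv_mul_eq ?_⟩
      calc q⁻¹ * q' = tt z s i j * tt z s 1 0 := by rw [r]; simp [tt, zp]
        _ = tt z s (i + 1) j := by rw [P.tt_mul, add_zero]
  rcases cases_of_snd (P.perpA hx) h2 with e' | e'
  · exact key 0 0 (by rw [e', P.π_tt, zero_smul])
  · exact key 0 1 (by rw [e', P.π_tt, one_smul])

theorem eq_mul_tt_B {b b' : G} (hb : InB z Q w b) (hb' : InB z Q w b')
    (e : theta h b = theta h b') : ∃ i j, b' = b * tt z s i j := by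
  have hx := P.InB_mul (P.InB_inv hb) hb'
  have hQ : b⁻¹ * b' ∈ Q := (h.ρ_ker _ hx.2).mp (by
    rw [h.ρ_mul _ _ (h.inv_comm hb.2) hb'.2, h.ρ_inv hb.2, P.rho_B hb, P.rho_B hb', e,
      inv_mul_cancel])
  obtain ⟨i, j, he⟩ := P.inter hQ hx.1
  exact ⟨i, j, eq_mul_of_inv_mul_eq he⟩

theorem exists_B (u : U6) : ∃ b, InB z Q w b ∧ theta h b = u := by
  classical
  choose f hf hfπ using P.exists_A
  have hinj : Function.Injective (fun a => theta h (w * f a * w⁻¹)) := by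
    intro a a' e
    obtain ⟨i, j, he⟩ := P.eq_mul_tt_B (P.InB_of_A (hf a)) (P.InB_of_A (hf a')) e
    have h2 : f a' = f a * tt z s j i := by
      calc f a' = w⁻¹ * (w * f a' * w⁻¹) * w := by group
        _ = f a * (w⁻¹ * tt z s i j * w) := by rw [he]; group
        _ = _ := by rw [P.tt_w]
    have h3 := congrArg (alpha h) h2
    rw [P.alpha_mul (hf a).1 (P.tt_Q j i), P.alpha_tt, add_zero] at h3
    simp only [alpha, hfπ, emb_snd] at h3
    exact h3.symm
  obtain ⟨a, ha⟩ := Finite.injective_iff_surjective.mp hinj u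
  exact ⟨_, P.InB_of_A (hf a), ha⟩

/-- The residue of a conjugate by an element of `C(z) ∩ C(s)`. -/
theorem res_spec {c : G} (hc : c * z = z * c) (hcs : c * s = s * c) {y : V8}
    (hy : polar (⇑phi) v0 y = 0) :
    ((h.ρ c : V8 ≃ₗ[ZMod 2] V8) y).2 = res (h.ρ c) y.2 := by
  obtain ⟨k, hk⟩ := eq_emb_add hy
  conv_lhs => rw [hk]
  rw [map_add, map_smul, P.rho_fix hc hcs]
  simp [res, v0]

theorem alpha_conj {c q : G} (hc : c * z = z * c) (hcs : c * s = s * c) (hq : InA Q s q) :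
    alpha h (c * q * c⁻¹) = res (h.ρ c) (alpha h q) := by
  rw [alpha, h.ρ_π c hc q hq.1, P.res_spec hc hcs (P.perpA hq)]
  rfl

theorem theta_conj {c b : G} (hc : c * z = z * c) (hcs : c * s = s * c) (hb : InB z Q w b) :
    theta h (c * b * c⁻¹) = res (h.ρ c) (theta h b) := by
  apply E_injective
  rw [← P.rho_B (P.InB_conj hc hcs hb), h.ρ_conj hc hb.2, P.rho_B hb]
  set u := theta h b
  obtain ⟨k, hk⟩ := eq_emb_add (y := (h.ρ c : V8 ≃ₗ[ZMod 2] V8) (emb u)) (by
    rw [polar_fixed (P.rho_fix hc hcs), polar_v0]; rfl)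
  rw [E, sie_conj]
  unfold E
  rw [← sie_add_smul (w := emb (res (h.ρ c) u)) phi_v0 (by rw [polar_v0]; rfl) k]
  exact sie_congr _ _ _ _ (P.rho_fix hc hcs) (by rw [hk]; rfl)

theorem exists_M {r t : U6} (hr : qU r = 1) (ht : qU t = 1) :
    ∃ c, c * z = z * c ∧ c * s = s * c ∧ ∀ a, res (h.ρ c) a = tU r (tU t a) := by
  obtain ⟨c, hc, hcs, hρ⟩ := h.exists_lift P.hs P.hπ (pairO_mem hr ht) (pairO_v0 hr ht)
  exact ⟨c, hc, hcs, fun a => by rw [res, hρ, pairO_app hr ht, emb_snd]⟩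

/-- The commutator of `A` and `B`. -/
theorem comm_pre {q b : G} (hq : InA Q s q) (hb : InB z Q w b) :
    ∃ i, q * b * q⁻¹ * b⁻¹ = tt z s i (fU (theta h b) (alpha h q)) := by
  obtain ⟨i, j, he⟩ := P.comm_mem hb hq
  have hπ : h.π (b * q * b⁻¹ * q⁻¹) = (fU (theta h b) (alpha h q)) • v0 := by
    rw [h.π_mul _ (h.norm b hb.2 q hq.1) _ (inv_mem hq.1), h.π_inv hq.1, h.ρ_π b hb.2 q hq.1,
      P.rho_B hb, E_app, alpha]
    have hd := (P.commA hq.1).mp hq.2
    generalize h.π q = y at hd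
    obtain ⟨⟨c, d⟩, u⟩ := y
    simp only at hd ⊢
    subst hd
    simp only [v0, Prod.smul_mk, Prod.mk_add_mk, smul_eq_mul, mul_one, mul_zero, add_zero,
      smul_zero, zero_smul]
    refine Prod.ext (Prod.ext ?_ rfl) ?_
    · show c + fU (theta h b) u + c = fU (theta h b) u
      rw [add_comm c, add_assoc, CharTwo.add_self_eq_zero, add_zero]
    · show u + u = 0
      exact congrArg Prod.snd (add_self' ((0, 0), u))
  have hj : j = fU (theta h b) (alpha h q) := by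
    rw [he, P.π_tt] at hπ
    simpa [v0] using congrArg (fun v : V8 => v.1.1) hπ
  refine ⟨i, ?_⟩
  rw [show q * b * q⁻¹ * b⁻¹ = (b * q * b⁻¹ * q⁻¹)⁻¹ by group, he, ← hj]
  refine inv_eq_of_mul_eq_one_left ?_
  rw [P.tt_mul, CharTwo.add_self_eq_zero, CharTwo.add_self_eq_zero]
  simp [tt, zp]

/-- Commutators of `A` and `B` follow the polar form in both coordinates. -/
theorem comm_AB {q b : G} (hq : InA Q s q) (hb : InB z Q w b) :
    q * b * q⁻¹ * b⁻¹ = tt z s (fU (alpha h q) (theta h b)) (fU (alpha h q) (theta h b)) := by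
  classical
  choose fA hfA hfAπ using P.exists_A
  choose fB hfB hfBθ using P.exists_B
  have hfAa : ∀ a, alpha h (fA a) = a := fun a => by simp [alpha, hfAπ]
  have hex : ∀ a u, ∃ i, fA a * fB u * (fA a)⁻¹ * (fB u)⁻¹ = tt z s i (fU u a) := fun a u => by
    obtain ⟨i, hi⟩ := P.comm_pre (hfA a) (hfB u)
    rw [hfBθ, hfAa] at hi
    exact ⟨i, hi⟩
  choose β hβ using hex
  have general : ∀ q b, InA Q s q → InB z Q w b →
      q * b * q⁻¹ * b⁻¹ = tt z s (β (alpha h q) (theta h b)) (fU (theta h b) (alpha h q)) := by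
    intro q b hq hb
    obtain ⟨i, j, he⟩ := P.eq_mul_tt_A (hfA (alpha h q)) hq (hfAa _)
    obtain ⟨k, l, he'⟩ := P.eq_mul_tt_B (hfB (theta h b)) hb (hfBθ _)
    conv_lhs => rw [he, he']
    rw [comm_central (P.tt_comm_A (hfA _) i j).symm (P.tt_comm_B (hfB _) i j).symm
      (P.tt_comm_A (P.tt_InA i j) k l) (P.tt_comm_A (hfA _) k l).symm
      (P.tt_comm_B (hfB _) k l).symm]
    exact hβ _ _
  have hβeq : ∀ a u, β a u = fU a u := by
    refine invariant_form β (fun a a' u => ?_) (fun a u u' => ?_) (fun r t hr ht a u => ?_) ?_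
    · have e := general (fA a * fA a') (fB u) (P.InA_mul (hfA a) (hfA a')) (hfB u)
      rw [P.alpha_mul (hfA a).1 (hfA a').1, hfAa, hfAa, hfBθ,
        show fA a * fA a' * fB u * (fA a * fA a')⁻¹ * (fB u)⁻¹ =
          fA a * (fA a' * fB u * (fA a')⁻¹ * (fB u)⁻¹) * (fA a)⁻¹ *
            (fA a * fB u * (fA a)⁻¹ * (fB u)⁻¹) by group, hβ, hβ,
        P.tt_comm_A (hfA a), mul_inv_cancel_right, P.tt_mul] at e
      rw [← (P.tt_inj e).1, add_comm]
    · have e := general (fA a) (fB u * fB u') (hfA a) (P.InB_mul (hfB u) (hfB u'))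
      rw [P.theta_mul (hfB u) (hfB u'), hfBθ, hfBθ, hfAa,
        show fA a * (fB u * fB u') * (fA a)⁻¹ * (fB u * fB u')⁻¹ =
          fA a * fB u * (fA a)⁻¹ * (fB u)⁻¹ *
            (fB u * (fA a * fB u' * (fA a)⁻¹ * (fB u')⁻¹) * (fB u)⁻¹) by group, hβ, hβ,
        P.tt_comm_B (hfB u), mul_inv_cancel_right, P.tt_mul] at e
      exact (P.tt_inj e).1.symm
    · obtain ⟨c, hc, hcs, hres⟩ := P.exists_M hr ht
      have e := general (c * fA a * c⁻¹) (c * fB u * c⁻¹) (P.InA_conj hc hcs (hfA a))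
        (P.InB_conj hc hcs (hfB u))
      rw [P.alpha_conj hc hcs (hfA a), P.theta_conj hc hcs (hfB u), hfAa, hfBθ, hres, hres,
        show c * fA a * c⁻¹ * (c * fB u * c⁻¹) * (c * fA a * c⁻¹)⁻¹ * (c * fB u * c⁻¹)⁻¹ =
          c * (fA a * fB u * (fA a)⁻¹ * (fB u)⁻¹) * c⁻¹ by group, hβ] at e
      have hfix : c * tt z s (β a u) (fU u a) * c⁻¹ = tt z s (β a u) (fU u a) := by
        have hcm : Commute c (tt z s (β a u) (fU u a)) := by
          refine (show Commute c (zp z _) from ?_).mul_right (show Commute c (zp s _) from ?_) <;>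
            unfold zp <;> split_ifs
          exacts [Commute.one_right _, hc, Commute.one_right _, hcs]
        rw [hcm.eq, mul_inv_cancel_right]
      rw [hfix] at e
      exact (P.tt_inj e).1.symm
    · by_contra hno
      push Not at hno
      set x := fA a0 * fB u0 * (fA a0)⁻¹ * (fB u0)⁻¹ with hx
      have hx' : x = tt z s 0 1 := by rw [hx, hβ, hno]; rfl
      have e := general _ _ (P.swap_InA (hfB u0)) (P.InB_of_A (hfA a0))
      rw [hno, show w * fB u0 * w⁻¹ * (w * fA a0 * w⁻¹) * (w * fB u0 * w⁻¹)⁻¹ *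
          (w * fA a0 * w⁻¹)⁻¹ = w * x⁻¹ * w⁻¹ by rw [hx]; group, hx',
        show (tt z s 0 1)⁻¹ = tt z s 0 1 from inv_eq_of_mul_eq_one_left
          (by rw [P.tt_mul]; simp [tt, zp, show (1 + 1 : ZMod 2) = 0 from rfl]), P.w_tt] at e
      exact one_ne_zero (P.tt_inj e).1
  rw [general q b hq hb, hβeq, fU_comm (theta h b)]

/-- Squares in `A`. -/
theorem sq_A {q : G} (hq : InA Q s q) : q * q = tt z s (qU (alpha h q)) 0 := by
  rw [h.sq q hq.1, phi_of_perp (P.perpA hq)]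
  simp [tt, zp_zero, alpha]

/-- Commutators in `A`. -/
theorem comm_AA {q r : G} (hq : InA Q s q) (hr : InA Q s r) :
    r * q = q * r * tt z s (fU (alpha h q) (alpha h r)) 0 := by
  rw [h.comm q hq.1 r hr.1, polar_of_perp (P.perpA hq) (P.perpA hr)]
  simp [tt, zp_zero, alpha]

/-- Squares in `B`. -/
theorem sq_B {b : G} (hb : InB z Q w b) : b * b = tt z s 0 (qU (theta h b)) := by
  classical
  choose fB hfB hfBθ using P.exists_B
  set κ : U6 → U6 := fun u => alpha h (w⁻¹ * fB u * w) with hκ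
  have hval : ∀ b, InB z Q w b → alpha h (w⁻¹ * b * w) = κ (theta h b) := by
    intro b hb
    obtain ⟨k, l, he⟩ := P.eq_mul_tt_B (hfB (theta h b)) hb (hfBθ _)
    conv_lhs => rw [he]
    rw [show w⁻¹ * (fB (theta h b) * tt z s k l) * w =
      (w⁻¹ * fB (theta h b) * w) * (w⁻¹ * tt z s k l * w) by group, P.tt_w,
      P.alpha_mul (hfB _).1 (P.tt_Q _ _), P.alpha_tt, add_zero]
  have hsq : ∀ b, InB z Q w b → b * b = tt z s 0 (qU (κ (theta h b))) := by
    intro b hb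
    rw [← hval b hb, ← P.w_tt, ← P.sq_A (P.InA_of_B hb)]
    group
  have hκadd : ∀ u u', κ (u + u') = κ u + κ u' := fun u u' => by
    have e := hval _ (P.InB_mul (hfB u) (hfB u'))
    rw [P.theta_mul (hfB u) (hfB u'), hfBθ, hfBθ,
      show w⁻¹ * (fB u * fB u') * w = (w⁻¹ * fB u * w) * (w⁻¹ * fB u' * w) by group,
      P.alpha_mul (hfB u).1 (hfB u').1] at e
    exact e.symm
  have hσinv : ∀ r t, qU r = 1 → qU t = 1 → ∀ u,
      qU (κ (tU r (tU t u))) = qU (κ u) := by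
    intro r t hr ht u
    obtain ⟨c, hc, hcs, hres⟩ := P.exists_M hr ht
    have hB := P.InB_conj hc hcs (hfB u)
    have e := hsq _ hB
    rw [P.theta_conj hc hcs (hfB u), hfBθ, hres, conj_mul, hsq _ (hfB u), hfBθ] at e
    have hcm : Commute c (tt z s 0 (qU (κ u))) := by
      refine (show Commute c (zp z _) from ?_).mul_right (show Commute c (zp s _) from ?_) <;>
        unfold zp <;> split_ifs
      exacts [Commute.one_right _, hc, Commute.one_right _, hcs]
    rw [hcm.eq, mul_inv_cancel_right] at e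
    exact (P.tt_inj e).2.symm
  have hγ : ∀ u u', fU (κ u) (κ u') = fU u u' := by
    refine invariant_form (fun u u' => fU (κ u) (κ u')) (fun a a' u => ?_) (fun a u u' => ?_)
      (fun r t hr ht a u => ?_) ?_
    · rw [hκadd, fU_add_left]
    · rw [hκadd, fU_comm, fU_add_left, fU_comm (κ u), fU_comm (κ u')]
    · have e := qU_add (κ (tU r (tU t a))) (κ (tU r (tU t u)))
      rw [← hκadd, ← tU_add, ← tU_add, hσinv r t hr ht, hσinv r t hr ht, hσinv r t hr ht, hκadd,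
        qU_add] at e
      exact (add_left_cancel e).symm
    · obtain ⟨qa, hqa, hqaπ⟩ := P.exists_A a0
      obtain ⟨qu, hqu, hquπ⟩ := P.exists_A u0
      refine ⟨theta h (w * qa * w⁻¹), theta h (w * qu * w⁻¹), ?_⟩
      rw [← hval _ (P.InB_of_A hqa), ← hval _ (P.InB_of_A hqu),
        show w⁻¹ * (w * qa * w⁻¹) * w = qa by group, show w⁻¹ * (w * qu * w⁻¹) * w = qu by group]
      simp only [alpha, hqaπ, hquπ, emb_snd]
      decide
  have hσ := invariant_quad (fun u => qU (κ u)) (fun u u' => by rw [hκadd, qU_add, hγ]) hσinv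
  rw [hsq b hb, hσ]

/-- The squares in `A B`. -/
theorem sq_AB {q b : G} (hq : InA Q s q) (hb : InB z Q w b) :
    q * b * (q * b) = tt z s (qU (alpha h q) + fU (alpha h q) (theta h b))
      (fU (alpha h q) (theta h b) + qU (theta h b)) := by
  have e := P.comm_AB (P.InA_inv hq) hb
  rw [P.alpha_inv hq.1, inv_inv] at e
  calc q * b * (q * b) = (q * q) * ((q⁻¹ * b * q * b⁻¹) * (b * b)) := by group
    _ = _ := by rw [e, P.sq_A hq, P.sq_B hb, P.tt_mul, P.tt_mul]; simp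

end Pair

end Cfsg.Agent.H73.Conway
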