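import Cfsg.Agent.H73.Conway.Setup

/-!
First consequences: lifting of isometries, transitivity on the involutions of `Q`, elements of
order seven and the swap of a pair of commuting conjugates.
-/

set_option autoImplicit false
set_option linter.unusedSectionVars false

namespace Cfsg.Agent.H73.Conway

open QuadraticMap Cfsg.Agent.Orthogonal Cfsg.Agent.H92.ExtraForm

variable {G : Type*} [Group G] [Finite G]

/-- The action induced on `U6` by an isometry fixing `v0`. -/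
def res (k : O phi) (a : U6) : U6 := ((k : V8 ≃ₗ[ZMod 2] V8) (emb a)).2

theorem rO_emb_app {r : U6} (hr : qU r = 1) (y : V8) :
    (rO phi (emb r) : V8 ≃ₗ[ZMod 2] V8) y = (y.1, tU r y.2) := by
  rw [rO_app, phi_emb, hr, inv_one, one_mul, polar_emb, sub_eq_add']
  obtain ⟨⟨c, d⟩, u⟩ := y
  simp [emb, tU]

/-- A product of two reflections of `U6`. -/
noncomputable def pairO (r t : U6) : O phi := rO phi (emb r) * rO phi (emb t)

theorem pairO_app {r t : U6} (hr : qU r = 1) (ht : qU t = 1) (y : V8) :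
    (pairO r t : V8 ≃ₗ[ZMod 2] V8) y = (y.1, tU r (tU t y.2)) := by
  rw [pairO, Subgroup.coe_mul, mul_app, rO_emb_app ht, rO_emb_app hr]

theorem pairO_mem {r t : U6} (hr : qU r = 1) (ht : qU t = 1) :
    pairO r t ∈ commutator (O phi) :=
  rO_mul_mem_K (by rw [phi_emb, hr]; exact one_ne_zero) (by rw [phi_emb, ht]; exact one_ne_zero)

theorem pairO_v0 {r t : U6} (hr : qU r = 1) (ht : qU t = 1) :
    (pairO r t : V8 ≃ₗ[ZMod 2] V8) v0 = v0 := by
  rw [pairO_app hr ht]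
  simp [v0, tU_zero]

namespace Setup

variable {z : G} {Q : Subgroup G} (h : Setup z Q)
include h

theorem zz : z * z = 1 := by
  have := pow_orderOf_eq_one z; rwa [h.hzo, pow_two] at this

theorem z_ne : z ≠ 1 := fun e => by
  have := h.hzo; rw [e, orderOf_one] at this; omega

theorem z_inv : z⁻¹ = z := inv_eq_of_mul_eq_one_left h.zz

theorem inv_comm {c : G} (hc : c * z = z * c) : c⁻¹ * z = z * c⁻¹ :=
  ((show Commute c z from hc).inv_left).eq

theorem mul_comm' {c d : G} (hc : c * z = z * c) (hd : d * z = z * d) : c * d * z = z * (c * d) :=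
  ((show Commute c z from hc).mul_left hd).eq

theorem conj_comm {c d : G} (hc : c * z = z * c) (hd : d * z = z * d) :
    c * d * c⁻¹ * z = z * (c * d * c⁻¹) :=
  h.mul_comm' (h.mul_comm' hc hd) (h.inv_comm hc)

theorem π_one : h.π 1 = 0 := (h.π_zero 1 (one_mem Q)).mpr (Or.inl rfl)

theorem π_z : h.π z = 0 := (h.π_zero z h.hzQ).mpr (Or.inr rfl)

theorem π_inv {q : G} (hq : q ∈ Q) : h.π q⁻¹ = h.π q := by
  refine (eq_of_add_eq_zero' ?_)
  rw [← h.π_mul _ (inv_mem hq) _ hq, inv_mul_cancel, h.π_one]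

theorem π_eq {q r : G} (hq : q ∈ Q) (hr : r ∈ Q) (e : h.π q = h.π r) : r = q ∨ r = q * z := by
  have : h.π (q⁻¹ * r) = 0 := by
    rw [h.π_mul _ (inv_mem hq) _ hr, h.π_inv hq, e, add_self']
  rcases (h.π_zero _ (mul_mem (inv_mem hq) hr)).mp this with e' | e'
  · exact Or.inl (inv_mul_eq_one.mp e').symm
  · exact Or.inr (eq_mul_of_inv_mul_eq e')

theorem sq_one_iff {q : G} (hq : q ∈ Q) : q * q = 1 ↔ phi (h.π q) = 0 := by
  rw [h.sq q hq]
  rcases two_cases' (phi (h.π q)) with e | e <;> simp [zp, e, h.z_ne]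

theorem commute_iff {q r : G} (hq : q ∈ Q) (hr : r ∈ Q) :
    q * r = r * q ↔ polar (⇑phi) (h.π q) (h.π r) = 0 := by
  rw [h.comm q hq r hr]
  rcases two_cases' (polar (⇑phi) (h.π q) (h.π r)) with e | e <;> simp [zp, e, h.z_ne]

theorem pow_four {q : G} (hq : q ∈ Q) : q ^ 4 = 1 := by
  rw [show q ^ 4 = (q * q) * (q * q) by simp [pow_succ, mul_assoc], h.sq q hq]
  rcases two_cases' (phi (h.π q)) with e | e <;> simp [zp, e, h.zz]

theorem ρ_one : h.ρ 1 = 1 := (h.ρ_ker 1 (by simp)).mpr (one_mem Q)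

theorem ρ_Q {q : G} (hq : q ∈ Q) : h.ρ q = 1 := (h.ρ_ker q (h.le q hq)).mpr hq

theorem ρ_inv {c : G} (hc : c * z = z * c) : h.ρ c⁻¹ = (h.ρ c)⁻¹ :=
  eq_inv_of_mul_eq_one_left (by rw [← h.ρ_mul _ _ (h.inv_comm hc) hc, inv_mul_cancel, h.ρ_one])

theorem ρ_conj {c d : G} (hc : c * z = z * c) (hd : d * z = z * d) :
    h.ρ (c * d * c⁻¹) = h.ρ c * h.ρ d * (h.ρ c)⁻¹ := by
  rw [h.ρ_mul _ _ (h.mul_comm' hc hd) (h.inv_comm hc), h.ρ_mul _ _ hc hd, h.ρ_inv hc]

theorem ρ_pow {c : G} (hc : c * z = z * c) (n : ℕ) : h.ρ (c ^ n) = h.ρ c ^ n := by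
  induction n with
  | zero => rw [pow_zero, pow_zero, h.ρ_one]
  | succ n ih => rw [pow_succ, pow_succ, h.ρ_mul _ _ ((show Commute c z from hc).pow_left n).eq hc, ih]

/-- An element of the centraliser commuting with all of `Q` is `1` or `z`. -/
theorem cQ {c : G} (hc : c * z = z * c) (hall : ∀ q ∈ Q, q * c = c * q) : c = 1 ∨ c = z := by
  have hcQ : c ∈ Q := (h.ρ_ker c hc).mp (O.ext_app fun y => by
    obtain ⟨q, hq, rfl⟩ := h.π_surj y
    rw [← h.ρ_π c hc q hq, ← hall q hq, mul_inv_cancel_right]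
    rfl)
  refine (h.π_zero c hcQ).mp (phi_nondeg _ fun y => ?_)
  obtain ⟨q, hq, rfl⟩ := h.π_surj y
  exact (h.commute_iff hcQ hq).mp (hall q hq).symm

/-- Conjugation by a partner multiplies by `z`. -/
theorem exists_flip {s : G} (hs : s ∈ Q) (hπ : h.π s = v0) :
    ∃ r ∈ Q, h.π r = f0 ∧ r * s * r⁻¹ = s * z := by
  obtain ⟨r, hr, hπr⟩ := h.π_surj f0
  refine ⟨r, hr, hπr, ?_⟩
  have := h.comm s hs r hr
  rw [hπ, hπr, show polar (⇑phi) v0 f0 = 1 by rw [polar_v0]; rfl] at this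
  simp only [zp, one_ne_zero, if_false] at this
  rw [this, mul_assoc s r z, h.le r hr, mul_assoc, mul_assoc, mul_inv_cancel, mul_one]

/-- Elements of the commutator subgroup fixing `v0` lift to the centraliser of `z` and `s`. -/
theorem exists_lift {s : G} (hs : s ∈ Q) (hπ : h.π s = v0) {k : O phi}
    (hk : k ∈ commutator (O phi)) (hkv : (k : V8 ≃ₗ[ZMod 2] V8) v0 = v0) :
    ∃ c, c * z = z * c ∧ c * s = s * c ∧ h.ρ c = k := by
  obtain ⟨c, hc, rfl⟩ := h.ρ_surj k hk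
  have hπc : h.π s = h.π (c * s * c⁻¹) := by rw [h.ρ_π c hc s hs, hπ, hkv]
  rcases h.π_eq hs (h.norm c hc s hs) hπc with e | e
  · exact ⟨c, hc, mul_inv_eq_iff_eq_mul.mp e, rfl⟩
  · obtain ⟨r, hr, -, hrs⟩ := h.exists_flip hs hπ
    refine ⟨r * c, h.mul_comm' (h.le r hr) hc, mul_inv_eq_iff_eq_mul.mp ?_, ?_⟩
    · calc r * c * s * (r * c)⁻¹ = r * (c * s * c⁻¹) * r⁻¹ := by group
        _ = (r * s * r⁻¹) * z := by
          rw [e, ← mul_assoc r s z, mul_assoc (r * s) z r⁻¹, ← h.inv_comm (h.le r hr), ← mul_assoc]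
        _ = s := by rw [hrs, mul_assoc, h.zz, mul_one]
    · rw [h.ρ_mul _ _ (h.le r hr) hc, h.ρ_Q hr, one_mul]

/-- Noncentral involutions of `Q` are conjugate in the centraliser. -/
theorem exists_conj_s {s : G} (hs : s ∈ Q) (hπ : h.π s = v0) {x : G} (hx : x ∈ Q)
    (hxx : x * x = 1) (hx1 : x ≠ 1) (hxz : x ≠ z) :
    ∃ c, c * z = z * c ∧ c * x * c⁻¹ = s := by
  have h0 : h.π x ≠ 0 := fun e => by
    rcases (h.π_zero x hx).mp e with e' | e'
    · exact hx1 e'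
    · exact hxz e'
  obtain ⟨k, hk, hkx⟩ := exists_K_map h0 ((h.sq_one_iff hx).mp hxx)
  obtain ⟨c, hc, rfl⟩ := h.ρ_surj k hk
  have hπc : h.π s = h.π (c * x * c⁻¹) := by rw [h.ρ_π c hc x hx, hkx, hπ]
  rcases h.π_eq hs (h.norm c hc x hx) hπc with e | e
  · exact ⟨c, hc, e⟩
  · obtain ⟨r, hr, -, hrs⟩ := h.exists_flip hs hπ
    refine ⟨r * c, h.mul_comm' (h.le r hr) hc, ?_⟩
    calc r * c * x * (r * c)⁻¹ = r * (c * x * c⁻¹) * r⁻¹ := by group
      _ = (r * s * r⁻¹) * z := by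
        rw [e, ← mul_assoc r s z, mul_assoc (r * s) z r⁻¹, ← h.inv_comm (h.le r hr), ← mul_assoc]
      _ = s := by rw [hrs, mul_assoc, h.zz, mul_one]

theorem exists_s : ∃ s ∈ Q, h.π s = v0 ∧ ∃ g, g * z * g⁻¹ = s := by
  obtain ⟨g, hg, hne⟩ := h.nwc
  set x := g * z * g⁻¹
  have hxx : x * x = 1 := by
    show g * z * g⁻¹ * (g * z * g⁻¹) = 1
    rw [conj_mul, h.zz, mul_one, mul_inv_cancel]
  have hx1 : x ≠ 1 := fun e => h.z_ne (conj_eq_one_iff.mp e)
  have h0 : h.π x ≠ 0 := fun e => by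
    rcases (h.π_zero x hg).mp e with e' | e'
    · exact hx1 e'
    · exact hne e'
  obtain ⟨k, hk, hkx⟩ := exists_K_map h0 ((h.sq_one_iff hg).mp hxx)
  obtain ⟨c, hc, rfl⟩ := h.ρ_surj k hk
  exact ⟨c * x * c⁻¹, h.norm c hc x hg, by rw [h.ρ_π c hc x hg, hkx], c * g, by
    show c * g * z * (c * g)⁻¹ = c * (g * z * g⁻¹) * c⁻¹
    group⟩

theorem exists_seven {s : G} (hs : s ∈ Q) (hπ : h.π s = v0) :
    ∃ f, f * z = z * f ∧ f * s = s * f ∧ f ^ 7 = 1 ∧ h.ρ f ≠ 1 := by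
  obtain ⟨c, hc, hcs, hρ⟩ := h.exists_lift hs hπ f7_mem f7_v0
  have hc4 : c ^ 4 * z = z * c ^ 4 := ((show Commute c z from hc).pow_left 4).eq
  refine ⟨c ^ 4, hc4, ((show Commute c s from hcs).pow_left 4).eq, ?_, ?_⟩
  · have h7 : c ^ 7 ∈ Q := (h.ρ_ker _ ((show Commute c z from hc).pow_left 7).eq).mp
      (by rw [h.ρ_pow hc, hρ, f7_seven])
    rw [← pow_mul, show 4 * 7 = 7 * 4 from rfl, pow_mul, h.pow_four h7]
  · rw [h.ρ_pow hc, hρ]
    intro e
    apply f7_ne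
    have h7 := f7_seven
    rw [pow_add f7 4 3, e, one_mul] at h7
    rw [pow_succ, h7, one_mul] at e
    exact e

/-- Two commuting conjugates, one in the core of the other, are swapped. -/
theorem exists_swap {s : G} (hs : s ∈ Q) (hπ : h.π s = v0) {g : G} (hg : g * z * g⁻¹ = s) :
    ∃ w, w * z * w⁻¹ = s ∧ w * s * w⁻¹ = z := by
  obtain ⟨f, hfz, hfs, hf5, hf1⟩ := h.exists_seven hs hπ
  set z' := g⁻¹ * z * g with hz'
  have hgz : z = g⁻¹ * s * g := by rw [← hg]; group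
  have hzs : s * z = z * s := h.le s hs
  have hz'z : z' * z = z * z' := by
    calc z' * z = z' * (g⁻¹ * s * g) := by rw [← hgz]
      _ = g⁻¹ * (z * s) * g := by rw [hz']; group
      _ = g⁻¹ * s * g * z' := by rw [← hzs, hz']; group
      _ = z * z' := by rw [← hgz]
  have hz'2 : z' * z' = 1 := by
    calc z' * z' = g⁻¹ * (z * z) * g := by rw [hz']; group
      _ = 1 := by rw [h.zz, mul_one, inv_mul_cancel]
  have hz'1 : z' ≠ 1 := fun e => h.z_ne (by
    calc z = g * z' * g⁻¹ := by rw [hz']; group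
      _ = 1 := by rw [e, mul_one, mul_inv_cancel])
  have hsz : s ≠ z := fun e => v0_ne (by rw [← hπ, e, h.π_z])
  have hz'ne : z' ≠ z := fun e => hsz (by
    rw [← hg, mul_inv_eq_iff_eq_mul]
    calc g * z = g * z' := by rw [e]
      _ = z * g := by rw [hz']; group)
  set f' := g⁻¹ * f * g with hf'
  have hf'z : f' * z = z * f' := by
    calc f' * z = f' * (g⁻¹ * s * g) := by rw [← hgz]
      _ = g⁻¹ * (f * s) * g := by rw [hf']; group
      _ = g⁻¹ * s * g * f' := by rw [hfs, hf']; group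
      _ = z * f' := by rw [← hgz]
  have hf'c : f' * z' = z' * f' := by
    calc f' * z' = g⁻¹ * (f * z) * g := by rw [hf', hz']; group
      _ = z' * f' := by rw [hfz, hf', hz']; group
  have hz'Q : z' ∈ Q := by
    by_contra hnQ
    have hρ1 : h.ρ z' ≠ 1 := fun e => hnQ ((h.ρ_ker _ hz'z).mp e)
    have hρ2 : h.ρ z' * h.ρ z' = 1 := by rw [← h.ρ_mul _ _ hz'z hz'z, hz'2, h.ρ_one]
    have hf'5 : f' ^ 7 = 1 := by
      rw [hf', show g⁻¹ * f * g = g⁻¹ * f * g⁻¹⁻¹ by group, conj_pow, hf5, mul_one, mul_inv_cancel]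
    have hf'1 : h.ρ f' ≠ 1 := fun e => by
      have h4 := h.pow_four ((h.ρ_ker _ hf'z).mp e)
      rw [pow_add f' 4 3, h4, one_mul] at hf'5
      rw [pow_succ, hf'5, one_mul] at h4
      apply hf1
      rw [show f = g * f' * g⁻¹ by rw [hf']; group, h4, mul_one, mul_inv_cancel, h.ρ_one]
    exact seven_not_commute (g := h.ρ f') (by rw [← h.ρ_pow hf'z, hf'5, h.ρ_one]) hf'1
      (h.ρ_mem _ hz'z) hρ2 hρ1
      (by rw [← h.ρ_mul _ _ hf'z hz'z, hf'c, h.ρ_mul _ _ hz'z hf'z])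
  obtain ⟨c, hc, hcx⟩ := h.exists_conj_s hs hπ hz'Q hz'2 hz'1 hz'ne
  refine ⟨g * c⁻¹, ?_, ?_⟩
  · calc g * c⁻¹ * z * (g * c⁻¹)⁻¹ = g * ((c⁻¹ * z) * c) * g⁻¹ := by group
      _ = g * z * g⁻¹ := by rw [h.inv_comm hc, mul_assoc z c⁻¹ c, inv_mul_cancel, mul_one]
      _ = s := hg
  · calc g * c⁻¹ * s * (g * c⁻¹)⁻¹ = g * (c⁻¹ * (c * z' * c⁻¹) * c) * g⁻¹ := by rw [hcx]; group
      _ = z := by rw [hz']; group

end Setup

end Cfsg.Agent.H73.Conway
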