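import Cfsg.Agent.H73.Conway.Words

/-!
A standard involution `x` of `W` and a large 2-subgroup of `C(z) ∩ C(x)`.
-/

set_option autoImplicit false
set_option linter.unusedSectionVars false
set_option linter.unusedVariables false

namespace Cfsg.Agent.H73.Conway

open QuadraticMap Cfsg.Agent.Orthogonal Cfsg.Agent.H92.ExtraForm

variable {G : Type*} [Group G] [Finite G] {z : G} {Q : Subgroup G}

/-- A standard involution `q0 b0`. -/
structure Std (h : Setup z Q) (s w q0 b0 : G) : Prop where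
  hq : InA Q s q0
  hb : InB z Q w b0
  a_ne : alpha h q0 ≠ 0
  u_ne : theta h b0 ≠ 0
  au_ne : alpha h q0 ≠ theta h b0
  sq : q0 * b0 * (q0 * b0) = 1
  move : ∃ y, y * z = z * y ∧ y * s * y⁻¹ = s * z ∧ y * (q0 * b0) = q0 * b0 * y
  aux : ∃ a1, qU a1 = 1 ∧ fU a1 (alpha h q0) = 0 ∧ fU a1 (theta h b0) = 0

/-- A maximal 2-subgroup inside a subgroup, above a given one. -/
theorem exists_max_two {C K : Subgroup G} (hKC : K ≤ C) (hK : IsPGroup 2 K) :
    ∃ P : Subgroup G, K ≤ P ∧ P ≤ C ∧ IsPGroup 2 P ∧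
      ∀ R : Subgroup G, P ≤ R → R ≤ C → IsPGroup 2 R → R = P := by
  obtain ⟨P, hKP, hP⟩ := Finite.exists_le_maximal
    (p := fun R : Subgroup G => R ≤ C ∧ IsPGroup 2 R) (a := K) ⟨hKC, hK⟩
  exact ⟨P, hKP, hP.prop.1, hP.prop.2, fun R hR hRC hR2 => le_antisymm (hP.2 ⟨hRC, hR2⟩ hR) hR⟩

/-- The two-part of an element, as an odd power. -/
theorem exists_two_part (y : G) : ∃ i m : ℕ, (y ^ (2 * i + 1)) ^ 2 ^ m = 1 := by
  have hn : orderOf y ≠ 0 := (orderOf_pos y).ne'
  obtain ⟨i, hi⟩ : Odd (orderOf y / 2 ^ (orderOf y).factorization 2) := by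
    rw [← Nat.not_even_iff_odd, even_iff_two_dvd]
    exact Nat.not_dvd_ordCompl Nat.prime_two hn
  refine ⟨i, (orderOf y).factorization 2, ?_⟩
  rw [← hi, ← pow_mul, mul_comm, Nat.ordProj_mul_ordCompl_eq_self, pow_orderOf_eq_one]

namespace Pair

variable {h : Setup z Q} {s w : G} (P : Pair h s w)
include P

/-- An element moving `s` to `s z` acts on `⟨z, s⟩` as a transvection. -/
theorem move_tt {y : G} (hyz : y * z = z * y) (hys : y * s * y⁻¹ = s * z) (i j : ZMod 2) :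
    y * tt z s i j * y⁻¹ = tt z s (i + j) j := by
  rcases two_cases' i with rfl | rfl <;> rcases two_cases' j with rfl | rfl <;>
    simp only [tt, zp_zero, zp_one, mul_one, one_mul, add_zero, zero_add,
      show (1 + 1 : ZMod 2) = 0 from rfl]
  · group
  · rw [hys, h.le s P.hs]
  · rw [hyz, mul_inv_cancel_right]
  · rw [← mul_assoc y z s, hyz, mul_assoc z y s, mul_assoc z, hys, h.le s P.hs,
      ← mul_assoc, h.zz, one_mul]

theorem move_sz {y : G} (hyz : y * z = z * y) (hys : y * s * y⁻¹ = s * z) :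
    y * (s * z) * y⁻¹ = s := by
  rw [← conj_mul, hys, mul_inv_eq_iff_eq_mul.mpr hyz, mul_assoc, h.zz, mul_one]

theorem move_inv {y : G} (hyz : y * z = z * y) (hys : y * s * y⁻¹ = s * z) :
    y⁻¹ * z = z * y⁻¹ ∧ y⁻¹ * s * y⁻¹⁻¹ = s * z := by
  refine ⟨h.inv_comm hyz, ?_⟩
  rw [inv_inv]
  calc y⁻¹ * s * y = y⁻¹ * (y * (s * z) * y⁻¹) * y := by rw [P.move_sz hyz hys]
    _ = s * z := by group

theorem move_odd {y : G} (hyz : y * z = z * y) (hys : y * s * y⁻¹ = s * z) (i : ℕ) :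
    y ^ (2 * i + 1) * z = z * y ^ (2 * i + 1) ∧
      y ^ (2 * i + 1) * s * (y ^ (2 * i + 1))⁻¹ = s * z := by
  induction i with
  | zero => simpa using ⟨hyz, hys⟩
  | succ i ih =>
    refine ⟨((show Commute y z from hyz).pow_left _).eq, ?_⟩
    calc y ^ (2 * (i + 1) + 1) * s * (y ^ (2 * (i + 1) + 1))⁻¹
        = y * (y * (y ^ (2 * i + 1) * s * (y ^ (2 * i + 1))⁻¹) * y⁻¹) * y⁻¹ := by
          rw [show 2 * (i + 1) + 1 = (2 * i + 1) + 1 + 1 by ring, pow_succ', pow_succ']; group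
      _ = s * z := by rw [ih.2, P.move_sz hyz hys, hys]

variable {q0 b0 : G} (X : Std h s w q0 b0)
include X

theorem x_comm : q0 * b0 * z = z * (q0 * b0) ∧ q0 * b0 * s = s * (q0 * b0) :=
  P.W_comm_zs ⟨q0, b0, X.hq, X.hb, rfl⟩

theorem x_not_mem : q0 * b0 ∉ Q := fun hmem => X.u_ne
  (P.eq_of_mem_inter (q := b0) (b := b0)
    (by simpa using mul_mem (inv_mem X.hq.1) hmem) X.hb rfl).2

/-- Any residue in `A` extends to an element of `W` commuting with `x`. -/
theorem D_right (a' : U6) : ∃ q b, InA Q s q ∧ InB z Q w b ∧ alpha h q = a' ∧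
    q * b * (q0 * b0) = q0 * b0 * (q * b) := by
  obtain ⟨x, h1, h2⟩ := pair_values X.a_ne X.u_ne X.au_ne
    (fU (alpha h q0) a' + fU a' (theta h b0)) (fU (alpha h q0) a')
  obtain ⟨q, hq, hqa⟩ := P.exists_A' a'
  obtain ⟨b, hb, hbu⟩ := P.exists_B x
  refine ⟨q, b, hq, hb, hqa, ((P.commute_W X.hq X.hb hq hb).mpr ?_).symm⟩
  rw [hqa, hbu, fU_comm (alpha h q0) x, h1, fU_comm (theta h b0) x, h2]
  generalize fU (alpha h q0) a' = c, fU a' (theta h b0) = d
  revert c d
  decide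

/-- Any residue in `B` extends to an element of `W` commuting with `x`. -/
theorem D_left (u' : U6) : ∃ q b, InA Q s q ∧ InB z Q w b ∧ theta h b = u' ∧
    q * b * (q0 * b0) = q0 * b0 * (q * b) := by
  obtain ⟨x, h1, h2⟩ := pair_values X.a_ne X.u_ne X.au_ne
    (fU (theta h b0) u') (fU (alpha h q0) u' + fU (theta h b0) u')
  obtain ⟨q, hq, hqa⟩ := P.exists_A' x
  obtain ⟨b, hb, hbu⟩ := P.exists_B u'
  refine ⟨q, b, hq, hb, hbu, ((P.commute_W X.hq X.hb hq hb).mpr ?_).symm⟩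
  rw [hqa, hbu, fU_comm (alpha h q0) x, h1, h2]
  generalize fU (alpha h q0) u' = c, fU (theta h b0) u' = d
  revert c d
  decide

/-- The elements commuting with `z`, the centraliser of `x` in `W` and an element moving `s`. -/
theorem center_cases {e y : G} (hez : e * z = z * e)
    (heD : ∀ g, InW z Q s w g → g * (q0 * b0) = q0 * b0 * g → e * g = g * e)
    (hyz : y * z = z * y) (hys : y * s * y⁻¹ = s * z) (hyx : y * (q0 * b0) = q0 * b0 * y)
    (hye : y * e = e * y) :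
    e = 1 ∨ e = z ∨ e = q0 * b0 ∨ e = q0 * b0 * z := by
  have hone : InA Q s (1 : G) := ⟨one_mem Q, by simp⟩
  have honeB : InB z Q w (1 : G) := ⟨by simp, by simp⟩
  have hes : e * s = s * e :=
    heD s ⟨s, 1, ⟨P.hs, rfl⟩, honeB, (mul_one s).symm⟩ (P.x_comm X).2.symm
  have hres : ∀ a', res (h.ρ e) a' = a' := fun a' => by
    obtain ⟨q, b, hq, hb, hqa, hqb⟩ := P.D_right X a'
    have e1 : e * q * e⁻¹ * (e * b * e⁻¹) = q * b := by
      rw [conj_mul, heD _ ⟨q, b, hq, hb, rfl⟩ hqb, mul_inv_cancel_right]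
    have := (P.pair_unique (P.InA_conj hez hes hq) (P.InB_conj hez hes hb) hq hb e1).1
    rwa [P.alpha_conj hez hes hq, hqa] at this
  obtain ⟨u'', hu''⟩ := eq_E (P.rho_fix hez hes) fun v hv => by rw [P.res_spec hez hes hv, hres]
  obtain ⟨b2, hb2, hb2u⟩ := P.exists_B u''
  set q2 := e * b2⁻¹ with hq2
  have hq2A : InA Q s q2 := by
    refine ⟨(h.ρ_ker _ (h.mul_comm' hez (h.inv_comm hb2.2))).mp ?_,
      ((show Commute e s from hes).mul_left (show Commute b2 s from P.sB hb2).inv_left).eq⟩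
    rw [h.ρ_mul _ _ hez (h.inv_comm hb2.2), h.ρ_inv hb2.2, hu'', P.rho_B hb2, hb2u,
      mul_inv_cancel]
  have he : e = q2 * b2 := by rw [hq2, inv_mul_cancel_right]
  set a := alpha h q0
  set u := theta h b0
  obtain ⟨l, m, hA, hB⟩ := span_of_ker (a := a) (u := u) (A := alpha h q2 + theta h b2)
    (B := alpha h q2) X.a_ne X.au_ne X.u_ne (fun a' u' c1 c2 => by
      obtain ⟨q, hq, hqa⟩ := P.exists_A' a'
      obtain ⟨b, hb, hbu⟩ := P.exists_B u'
      have hx : q * b * (q0 * b0) = q0 * b0 * (q * b) := by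
        refine ((P.commute_W X.hq X.hb hq hb).mpr ?_).symm
        rw [hqa, hbu]
        rw [fU_add_right] at c1 c2
        refine ⟨?_, ?_⟩
        · rw [fU_comm a a', fU_comm a u']; exact c1
        · rw [fU_comm a u', fU_comm u u', add_assoc]; exact c2
      have hc := heD _ ⟨q, b, hq, hb, rfl⟩ hx
      rw [he] at hc
      have hc' := ((P.commute_W hq2A hb2 hq hb).mp hc).1
      rw [hqa, hbu] at hc'
      rw [fU_add_right, fU_comm a' (alpha h q2), fU_comm u']
      exact hc')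
  have hy2 : theta h b2 = res (h.ρ y) (theta h b2) := by
    obtain ⟨q', b', hq', hb', heq, -, hθ⟩ := P.move_W hyz hys hq2A hb2
    rw [← he, mul_inv_eq_iff_eq_mul.mpr hye] at heq
    rw [← hθ]
    exact (P.pair_unique hq2A hb2 hq' hb' (he.symm.trans heq)).2
  obtain ⟨hRu, hRa⟩ := P.move_res hyz hys X.hq X.hb hyx
  have hye' : y * e * y⁻¹ = e := mul_inv_eq_iff_eq_mul.mpr hye
  rcases two_cases' l with rfl | rfl <;> rcases two_cases' m with rfl | rfl <;>
    simp only [zero_smul, one_smul, zero_add, add_zero] at hA hB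
  · -- trivial residues
    rw [hB, zero_add] at hA
    obtain ⟨i, j, h1⟩ := P.eq_mul_tt_A hone hq2A (by rw [hB, alpha, h.π_one]; rfl)
    obtain ⟨k, l', h2⟩ := P.eq_mul_tt_B honeB hb2 (by rw [hA, theta, h.ρ_one]; rfl)
    rw [he, h1, h2, one_mul, one_mul, P.tt_mul] at hye' ⊢
    rw [P.move_tt hyz hys] at hye'
    have hz' := (P.tt_inj hye').1
    rw [add_eq_left] at hz'
    rw [hz']
    rcases two_cases' (i + k) with r | r <;> rw [r]
    · exact Or.inl (by simp [tt, zp])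
    · exact Or.inr (Or.inl (by simp [tt, zp]))
  · -- second residue `a`
    exfalso
    have hθ : theta h b2 = a := by
      calc theta h b2 = alpha h q2 + (alpha h q2 + theta h b2) := by
            rw [← add_assoc, U6_add_self, zero_add]
        _ = a := by rw [hA, hB, add_assoc, U6_add_self, add_zero]
    rw [hθ, hRa] at hy2
    exact X.u_ne (left_eq_add.mp hy2)
  · -- the residues of `x`
    have hθ : theta h b2 = u := by
      calc theta h b2 = alpha h q2 + (alpha h q2 + theta h b2) := by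
            rw [← add_assoc, U6_add_self, zero_add]
        _ = u := by rw [hA, hB, ← add_assoc, U6_add_self, zero_add]
    obtain ⟨i, j, h1⟩ := P.eq_mul_tt_A X.hq hq2A hB.symm
    obtain ⟨k, l', h2⟩ := P.eq_mul_tt_B X.hb hb2 hθ.symm
    have he' : e = q0 * b0 * tt z s (i + k) (j + l') := by
      rw [he, h1, h2, ← P.tt_mul, mul_assoc q0, ← mul_assoc (tt z s i j) b0, ← P.tt_comm_B X.hb]
      group
    rw [he', ← conj_mul, mul_inv_eq_iff_eq_mul.mpr hyx, P.move_tt hyz hys] at hye'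
    have hz' := (P.tt_inj (mul_left_cancel hye')).1
    rw [add_eq_left] at hz'
    rw [he', hz']
    rcases two_cases' (i + k) with r | r <;> rw [r]
    · exact Or.inr (Or.inr (Or.inl (by simp [tt, zp])))
    · exact Or.inr (Or.inr (Or.inr (by simp [tt, zp])))
  · -- second residue `a + u`
    exfalso
    have hθ : theta h b2 = a + u := by
      calc theta h b2 = alpha h q2 + (alpha h q2 + theta h b2) := by
            rw [← add_assoc, U6_add_self, zero_add]
        _ = (a + a) + (a + u) + (u + u) := by rw [hA, hB]; abel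
        _ = a + u := by rw [U6_add_self, U6_add_self, zero_add, add_zero]
    rw [hθ, res_add, hRa, hRu, add_assoc, U6_add_self, add_zero] at hy2
    exact X.u_ne (add_eq_left.mp hy2)

/-- A large 2-subgroup of `C(z) ∩ C(x)`, maximal in it. -/
theorem exists_big : ∃ (T : Subgroup G) (y : G),
    IsPGroup 2 T ∧ (∀ g ∈ T, g * z = z * g ∧ g * (q0 * b0) = q0 * b0 * g) ∧
    (∀ g, InW z Q s w g → g * (q0 * b0) = q0 * b0 * g → g ∈ T) ∧
    y ∈ T ∧ y * s * y⁻¹ = s * z ∧
    ∀ R : Subgroup G, IsPGroup 2 R → T ≤ R →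
      (∀ g ∈ R, g * z = z * g ∧ g * (q0 * b0) = q0 * b0 * g) → R = T := by
  haveI : Fact (Nat.Prime 2) := ⟨Nat.prime_two⟩
  set x := q0 * b0 with hx
  obtain ⟨y0, hy0z, hy0s, hy0x⟩ := X.move
  obtain ⟨i, m, hm⟩ := exists_two_part y0
  obtain ⟨hy1z, hy1s⟩ := P.move_odd hy0z hy0s i
  set y := y0 ^ (2 * i + 1)
  have hyx : y * x = x * y := ((show Commute y0 x from hy0x).pow_left _).eq
  set D : Subgroup G :=
    { carrier := {g | InW z Q s w g ∧ g * x = x * g}
      mul_mem' := fun ha hb => ⟨P.W_mul ha.1 hb.1,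
        ((show Commute _ x from ha.2).mul_left hb.2).eq⟩
      one_mem' := ⟨P.W_one, by simp⟩
      inv_mem' := fun ha => ⟨P.W_inv ha.1, (show Commute _ x from ha.2).inv_left.eq⟩ } with hD
  have hDmem : ∀ g, g ∈ D ↔ InW z Q s w g ∧ g * x = x * g := fun g => Iff.rfl
  have hD2 : IsPGroup 2 D := fun g => ⟨2, Subtype.ext (by simpa using P.W_pow_four g.2.1)⟩
  have hY2 : IsPGroup 2 (Subgroup.zpowers y) := by
    rintro ⟨g, hg⟩
    obtain ⟨n, rfl⟩ := Subgroup.mem_zpowers_iff.mp hg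
    refine ⟨m, Subtype.ext ?_⟩
    show (y ^ n) ^ 2 ^ m = 1
    rw [← zpow_natCast, zpow_comm, zpow_natCast, hm, one_zpow]
  have hmove : ∀ {y' : G}, y' * z = z * y' → y' * s * y'⁻¹ = s * z → y' * x = x * y' →
      ∀ g ∈ D, y' * g * y'⁻¹ ∈ D := by
    intro y' hz' hs' hx' g hg
    obtain ⟨⟨q, b, hq, hb, rfl⟩, hgx⟩ := (hDmem g).mp hg
    obtain ⟨q', b', hq', hb', he, -⟩ := P.move_W hz' hs' hq hb
    refine (hDmem _).mpr ⟨⟨q', b', hq', hb', he⟩, ?_⟩
    exact (((show Commute y' x from hx').mul_left hgx).mul_left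
      (show Commute y' x from hx').inv_left).eq
  obtain ⟨hyiz, hyis⟩ := P.move_inv hy1z hy1s
  have hyix : y⁻¹ * x = x * y⁻¹ := (show Commute y x from hyx).inv_left.eq
  have hnorm : Subgroup.zpowers y ≤ Subgroup.normalizer (D : Set G) := by
    rw [Subgroup.zpowers_le]
    refine Subgroup.mem_normalizer_iff.mpr fun g => ⟨hmove hy1z hy1s hyx g, fun hg => ?_⟩
    have := hmove hyiz hyis hyix _ hg
    rwa [show y⁻¹ * (y * g * y⁻¹) * y⁻¹⁻¹ = g by group] at this
  set C : Subgroup G := Subgroup.centralizer ({z} : Set G) ⊓ Subgroup.centralizer ({x} : Set G)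
  have hC : ∀ g, g ∈ C ↔ g * z = z * g ∧ g * x = x * g := fun g => by
    simp only [C, Subgroup.mem_inf, Subgroup.mem_centralizer_singleton_iff]
  have hK : D ⊔ Subgroup.zpowers y ≤ C := sup_le
    (fun g hg => (hC g).mpr ⟨(P.W_comm_zs ((hDmem g).mp hg).1).1, ((hDmem g).mp hg).2⟩)
    (Subgroup.zpowers_le.mpr ((hC y).mpr ⟨hy1z, hyx⟩))
  obtain ⟨T, hKT, hTC, hT2, hmax⟩ :=
    exists_max_two hK (IsPGroup.to_sup_of_normal_left' hD2 hY2 hnorm)
  exact ⟨T, y, hT2, fun g hg => (hC g).mp (hTC hg),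
    fun g hg hgx => hKT (Subgroup.mem_sup_left ((hDmem g).mpr ⟨hg, hgx⟩)),
    hKT (Subgroup.mem_sup_right (Subgroup.mem_zpowers y)), hy1s,
    fun R hR hTR hRC => hmax R hTR (fun g hg => (hC g).mpr (hRC g hg)) hR⟩

end Pair

end Cfsg.Agent.H73.Conway
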