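import Cfsg.Agent.H73.Conway.Core

/-!
Involutions of rank two are conjugate to `z` or to one of two types of involutions of `W`.
-/

set_option autoImplicit false
set_option linter.style.haveILetI false
set_option linter.unusedSectionVars false
set_option linter.unusedVariables false

namespace Cfsg.Agent.H73.Conway

open QuadraticMap Cfsg.Agent.Orthogonal Cfsg.Agent.H92.ExtraForm
open scoped Pointwise

variable {G : Type*} [Group G] [Finite G] {z : G} {Q : Subgroup G}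

namespace Setup

variable (h : Setup z Q)
include h

/-- Some Sylow 2-subgroup is centralised by `z`. -/
theorem exists_sylow : ∃ T : Sylow 2 G, ∀ t ∈ T, t * z = z * t := by
  haveI : Fact (Nat.Prime 2) := ⟨Nat.prime_two⟩
  have hQ : IsPGroup 2 Q := fun q => ⟨2, by
    apply Subtype.ext
    simpa using h.pow_four q.2⟩
  obtain ⟨T, hT⟩ := hQ.exists_le_sylow
  refine ⟨T, ?_⟩
  haveI : Nontrivial T := ⟨⟨⟨z, hT h.hzQ⟩, 1, fun e => h.z_ne (congrArg Subtype.val e)⟩⟩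
  haveI := T.2.center_nontrivial
  obtain ⟨⟨⟨c, hcT⟩, hc⟩, hc1⟩ := exists_ne (1 : Subgroup.center T)
  have hall : ∀ t ∈ T, t * c = c * t := fun t ht =>
    congrArg Subtype.val (Subgroup.mem_center_iff.mp hc ⟨t, ht⟩)
  rcases h.cQ (hall z (hT h.hzQ)).symm (fun q hq => hall q (hT hq)) with e | e
  · exact absurd (Subtype.ext (Subtype.ext e)) hc1
  · exact fun t ht => e ▸ hall t ht

/-- Every involution is conjugate into the centraliser of `z`. -/
theorem exists_conj_cent {x : G} (hx : x * x = 1) :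
    ∃ g, (g * x * g⁻¹) * z = z * (g * x * g⁻¹) := by
  haveI : Fact (Nat.Prime 2) := ⟨Nat.prime_two⟩
  obtain ⟨T, hT⟩ := h.exists_sylow
  have hp : IsPGroup 2 (Subgroup.zpowers x) := by
    rintro ⟨y, hy⟩
    refine ⟨1, Subtype.ext ?_⟩
    obtain ⟨n, rfl⟩ := Subgroup.mem_zpowers_iff.mp hy
    show (x ^ n) ^ 2 ^ 1 = 1
    rw [pow_one, pow_two, ← zpow_add, ← two_mul, zpow_mul, zpow_two, hx, one_zpow]
  obtain ⟨T', hT'⟩ := hp.exists_le_sylow
  obtain ⟨g, rfl⟩ := MulAction.exists_smul_eq G T' T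
  refine ⟨g, hT _ ?_⟩
  show g * x * g⁻¹ ∈ MulAut.conj g • (T' : Subgroup G)
  exact ⟨x, hT' (Subgroup.mem_zpowers x), rfl⟩

end Setup

/-- The range of the action is totally singular. -/
def SingularRange (h : Setup z Q) (x : G) : Prop :=
  ∀ y, phi ((h.ρ x : V8 ≃ₗ[ZMod 2] V8) y + y) = 0

theorem singularRange_conj (h : Setup z Q) {c x : G} (hc : c * z = z * c) (hx : x * z = z * x)
    (hs : SingularRange h (c * x * c⁻¹)) : SingularRange h x := by
  intro y
  have := hs ((h.ρ c : V8 ≃ₗ[ZMod 2] V8) y)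
  rw [h.ρ_conj hc hx, Subgroup.coe_mul, Subgroup.coe_mul, mul_app, mul_app,
    show ((h.ρ c)⁻¹ : O phi).1 ((h.ρ c : V8 ≃ₗ[ZMod 2] V8) y) = y by
      rw [← mul_app, ← Subgroup.coe_mul, inv_mul_cancel]; rfl,
    ← map_add, O.map_app] at this
  exact this

namespace Pair

variable {h : Setup z Q} {s w : G} (P : Pair h s w)
include P

theorem eq_of_mem_inter {q b : G} (hq : q ∈ Q) (hb : InB z Q w b) (e : q = b) :
    alpha h q = 0 ∧ theta h b = 0 := by
  subst e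
  obtain ⟨i, j, rfl⟩ := P.inter hq hb.1
  exact ⟨P.alpha_tt i j, P.theta_tt i j⟩

/-- The involutions of the centraliser outside `Q` are conjugate into `W`. -/
theorem conj_into_W {x : G} (hxz : x * z = z * x) (hxx : x * x = 1) (hxQ : x ∉ Q)
    (hfin : Module.finrank (ZMod 2) (perp phi (fixSpace (h.ρ x))) = 2) :
    ∃ c q b, c * z = z * c ∧ InA Q s q ∧ InB z Q w b ∧ theta h b ≠ 0 ∧ c * x * c⁻¹ = q * b := by
  have hρ1 : h.ρ x ≠ 1 := fun e => hxQ ((h.ρ_ker _ hxz).mp e)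
  have hρ2 : h.ρ x * h.ρ x = 1 := by rw [← h.ρ_mul _ _ hxz hxz, hxx, h.ρ_one]
  obtain ⟨k, hk, u, hu, hku⟩ := exists_conj_E hρ2 hρ1 hfin
  obtain ⟨c, hc, rfl⟩ := h.ρ_surj k hk
  obtain ⟨b, hb, hbu⟩ := P.exists_B u
  set x' := c * x * c⁻¹ with hx'
  have hx'z : x' * z = z * x' := h.conj_comm hc hxz
  have hρx' : h.ρ x' = E u := by rw [hx', h.ρ_conj hc hxz]; exact hku
  set q := x' * b⁻¹ with hq
  have hqQ : q ∈ Q := (h.ρ_ker _ (h.mul_comm' hx'z (h.inv_comm hb.2))).mp (by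
    rw [h.ρ_mul _ _ hx'z (h.inv_comm hb.2), h.ρ_inv hb.2, hρx', P.rho_B hb, hbu,
      mul_inv_cancel])
  have hxqb : x' = q * b := by rw [hq, inv_mul_cancel_right]
  have hbb : b * b ∈ Q := by rw [P.sq_B hb]; exact P.tt_Q _ _
  have hsq : q * (b * q * b⁻¹) * (b * b) = 1 := by
    calc q * (b * q * b⁻¹) * (b * b) = x' * x' := by rw [hxqb]; group
      _ = 1 := by rw [hx', conj_mul, hxx, mul_one, mul_inv_cancel]
  have hπ := congrArg h.π hsq
  rw [h.π_mul _ (mul_mem hqQ (h.norm b hb.2 q hqQ)) _ hbb,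
    h.π_mul _ hqQ _ (h.norm b hb.2 q hqQ), h.ρ_π b hb.2 q hqQ, P.rho_B hb, hbu, E_app,
    P.sq_B hb, P.π_tt, h.π_one] at hπ
  have hd : (h.π q).1.2 = 0 := by
    have h2 := congrArg Prod.snd hπ
    generalize h.π q = y at h2 ⊢
    obtain ⟨⟨yc, yd⟩, yu⟩ := y
    simp only [v0, Prod.smul_mk, Prod.mk_add_mk, smul_zero, add_zero, Prod.snd_zero] at h2
    rcases two_cases' yd with e | e
    · exact e
    · exfalso
      apply hu
      rw [e, one_smul, ← add_assoc,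
        show yu + yu = 0 from congrArg Prod.snd (add_self' ((0, 0), yu)), zero_add] at h2
      exact h2
  exact ⟨c, q, b, hc, ⟨hqQ, (P.commA hqQ).mpr hd⟩, hb, hbu.symm ▸ hu, hxqb⟩

theorem conj_Q {x : G} (hx : x ∈ Q) (hxx : x * x = 1) (hx1 : x ≠ 1) : IsConj x z := by
  by_cases hxz : x = z
  · rw [hxz]
  · obtain ⟨c, hc, hcx⟩ := h.exists_conj_s P.hs P.hπ hx hxx hx1 hxz
    exact isConj_iff.mpr ⟨w⁻¹ * c, by
      rw [show w⁻¹ * c * x * (w⁻¹ * c)⁻¹ = w⁻¹ * (c * x * c⁻¹) * w by group, hcx, P.w_s]⟩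

/-- In `W` an involution is either in a core of a conjugate inside `Q`, or of the second type. -/
theorem W_cases {q b : G} (hq : InA Q s q) (hb : InB z Q w b) (hθ : theta h b ≠ 0)
    (hxx : q * b * (q * b) = 1) :
    (∃ v, v * z * v⁻¹ ∈ Q ∧ v * z * v⁻¹ ≠ z ∧ v⁻¹ * z * v ∈ Q ∧ v⁻¹ * (q * b) * v ∈ Q) ∨
      (qU (alpha h q) = 1 ∧ qU (theta h b) = 1 ∧ fU (alpha h q) (theta h b) = 1) ∨
      (qU (alpha h q) = 0 ∧ qU (theta h b) = 0 ∧ fU (alpha h q) (theta h b) = 0 ∧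
        alpha h q ≠ 0 ∧ alpha h q ≠ theta h b) := by
  have e : tt z s (qU (alpha h q) + fU (alpha h q) (theta h b))
      (fU (alpha h q) (theta h b) + qU (theta h b)) = tt z s 0 0 := by
    rw [← P.sq_AB hq hb, hxx]; simp [tt, zp]
  obtain ⟨e1, e2⟩ := P.tt_inj e
  have e1' := CharTwo.add_eq_zero.mp e1
  have e2' := CharTwo.add_eq_zero.mp e2
  rcases two_cases' (fU (alpha h q) (theta h b)) with hf | hf
  · by_cases h00 : alpha h q ≠ 0 ∧ alpha h q ≠ theta h b
    · exact Or.inr (Or.inr ⟨e1'.trans hf, e2'.symm.trans hf, hf, h00.1, h00.2⟩)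
    left
    rcases (show alpha h q = 0 ∨ alpha h q = theta h b by tauto) with h0 | h0
    · obtain ⟨i, j, hij⟩ := P.eq_mul_tt_A (q := 1) ⟨one_mem Q, by simp⟩ hq (by
        rw [h0, alpha, h.π_one]; rfl)
      refine ⟨w, by rw [P.hw1]; exact P.hs, by rw [P.hw1]; exact P.s_ne_z,
        by rw [P.w_z]; exact P.hs, ?_⟩
      rw [hij, one_mul, show w⁻¹ * (tt z s i j * b) * w =
        (w⁻¹ * tt z s i j * w) * (w⁻¹ * b * w) by group, P.tt_w]
      exact mul_mem (P.tt_Q _ _) hb.1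
    · obtain ⟨r, hr, hπr, hrs⟩ := h.exists_flip P.hs P.hπ
      have hrz := h.le r hr
      set q' := r * b * r⁻¹ * b⁻¹ with hq'
      have hq'Q : q' ∈ Q := by
        rw [hq', mul_assoc r b, mul_assoc r]
        exact mul_mem hr (h.norm b hb.2 _ (inv_mem hr))
      have hπq' : h.π q' = h.π r + (E (theta h b) : V8 ≃ₗ[ZMod 2] V8) f0 := by
        rw [hq', mul_assoc r b, mul_assoc r, h.π_mul _ hr _ (h.norm b hb.2 _ (inv_mem hr)),
          h.ρ_π b hb.2 _ (inv_mem hr), h.π_inv hr, hπr, P.rho_B hb]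
      rw [hπr, E_f0] at hπq'
      have hq'A : InA Q s q' := ⟨hq'Q, (P.commA hq'Q).mpr (by rw [hπq']; rfl)⟩
      obtain ⟨i, j, hij⟩ := P.eq_mul_tt_A hq'A hq (by
        rw [h0, alpha, hπq']; simp [f0])
      have hrw : r * w * z * (r * w)⁻¹ = s * z := by
        rw [show r * w * z * (r * w)⁻¹ = r * (w * z * w⁻¹) * r⁻¹ by group, P.hw1, hrs]
      have hQt : r⁻¹ * tt z s i j * r ∈ Q := mul_mem (mul_mem (inv_mem hr) (P.tt_Q i j)) hr
      have hr' : r⁻¹ * s * r = s * z := by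
        calc r⁻¹ * s * r = r⁻¹ * (s * (r * z)) * z := by
              rw [mul_assoc r⁻¹, mul_assoc r⁻¹, mul_assoc s (r * z) z, mul_assoc r z z, h.zz,
                mul_one]
          _ = r⁻¹ * (r * s * r⁻¹) * r * z := by rw [hrs, hrz]; group
          _ = s * z := by group
      have hTw : w⁻¹ * (r⁻¹ * tt z s i j * r) * w ∈ Q := by
        have : r⁻¹ * tt z s i j * r = tt z s (i + j) j := by
          rcases two_cases' i with rfl | rfl <;> rcases two_cases' j with rfl | rfl <;>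
            simp only [tt, zp_zero, zp_one, mul_one, one_mul, add_zero, zero_add,
              show (1 + 1 : ZMod 2) = 0 from rfl]
          · group
          · rw [hr', h.le s P.hs]
          · rw [mul_assoc, ← hrz, inv_mul_cancel_left]
          · rw [show r⁻¹ * (z * s) * r = (r⁻¹ * z * r) * (r⁻¹ * s * r) by group, hr',
              show r⁻¹ * z * r = z by rw [mul_assoc, ← hrz, inv_mul_cancel_left],
              h.le s P.hs, ← mul_assoc, h.zz, one_mul]
        rw [this, P.tt_w]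
        exact P.tt_Q _ _
      refine ⟨r * w, by rw [hrw]; exact mul_mem P.hs h.hzQ, ?_, ?_, ?_⟩
      · rw [hrw]; exact fun e' => P.s_ne (mul_eq_right.mp e')
      · rw [show (r * w)⁻¹ * z * (r * w) = w⁻¹ * (r⁻¹ * (z * r)) * w by group, ← hrz,
          inv_mul_cancel_left, P.w_z]
        exact P.hs
      · have hx : q * b = tt z s i j * (r * b * r⁻¹) := by
          rw [hij, P.tt_comm_A hq'A, hq', mul_assoc, inv_mul_cancel_right]
        rw [hx, show (r * w)⁻¹ * (tt z s i j * (r * b * r⁻¹)) * (r * w) =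
          (w⁻¹ * (r⁻¹ * tt z s i j * r) * w) * (w⁻¹ * b * w) by group]
        exact mul_mem hTw hb.1
  · exact Or.inr (Or.inl ⟨e1'.trans hf, e2'.symm.trans hf, hf⟩)

/-- Elements of `W` over independent pairs in one orbit are conjugate in the centraliser. -/
theorem conj_x0 {q b q0 b0 : G} (hq : InA Q s q) (hb : InB z Q w b) (hq0 : InA Q s q0)
    (hb0 : InB z Q w b0) {a1 u1 : U6} (ha0 : alpha h q0 = a1) (hu0 : theta h b0 = u1)
    (ha1 : a1 ≠ 0) (hu1 : u1 ≠ 0) (hau1 : a1 ≠ u1)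
    {r t r' t' : U6} (hr : qU r = 1) (ht : qU t = 1) (hr' : qU r' = 1) (ht' : qU t' = 1)
    (hrt : tU r (tU t (alpha h q)) = a1) (hfix : tU r' (tU t' a1) = a1)
    (hmove : tU r' (tU t' (tU r (tU t (theta h b)))) = u1) :
    ∃ c, c * z = z * c ∧ c * s = s * c ∧ c * (q * b) * c⁻¹ = q0 * b0 := by
  obtain ⟨c, hc, hcs, hres⟩ := P.exists_M hr ht
  obtain ⟨c', hc', hcs', hres'⟩ := P.exists_M hr' ht'
  have hA1 := P.InA_conj hc hcs hq
  have hB1 := P.InB_conj hc hcs hb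
  have hA2 := P.InA_conj hc' hcs' hA1
  have hB2 := P.InB_conj hc' hcs' hB1
  obtain ⟨i, j, hij⟩ := P.eq_mul_tt_A hA2 hq0 (by
    rw [P.alpha_conj hc' hcs' hA1, P.alpha_conj hc hcs hq, hres, hres', hrt, hfix, ha0])
  obtain ⟨k, l, hkl⟩ := P.eq_mul_tt_B hB2 hb0 (by
    rw [P.theta_conj hc' hcs' hB1, P.theta_conj hc hcs hb, hres, hres', hmove, hu0])
  set x2 := c' * c * (q * b) * (c' * c)⁻¹ with hx2
  have hx : q0 * b0 = x2 * tt z s (i + k) (j + l) := by
    rw [hij, hkl, hx2, show c' * (c * q * c⁻¹) * c'⁻¹ * tt z s i j *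
        (c' * (c * b * c⁻¹) * c'⁻¹ * tt z s k l) = c' * (c * q * c⁻¹) * c'⁻¹ *
        (tt z s i j * (c' * (c * b * c⁻¹) * c'⁻¹)) * tt z s k l by group, ← P.tt_comm_B hB2 i j,
      ← P.tt_mul]
    group
  obtain ⟨a', hi, hj⟩ : ∃ a', fU a' a1 + fU a' u1 = i + k ∧ fU a' u1 = j + l := by
    obtain ⟨a', e1, e2⟩ := pair_values ha1 hu1 hau1 (i + k + (j + l)) (j + l)
    exact ⟨a', by rw [e1, e2, add_assoc, CharTwo.add_self_eq_zero, add_zero], e2⟩
  obtain ⟨q', hq', hq'π⟩ := P.exists_A a'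
  have hα : alpha h q' = a' := by rw [alpha, hq'π]; rfl
  have hc1 : q' * (q0 * b0) * q'⁻¹ = q0 * b0 * tt z s (i + k) (j + l) := by
    have ec := P.comm_AA hq0 hq'
    have eb := P.comm_AB hq' hb0
    rw [hα, ha0] at ec
    rw [hα, hu0] at eb
    calc q' * (q0 * b0) * q'⁻¹ = (q' * q0) * q'⁻¹ * (q' * b0 * q'⁻¹ * b0⁻¹) * b0 := by group
      _ = q0 * (q' * (tt z s (fU a1 a') 0 * q'⁻¹)) * (q' * b0 * q'⁻¹ * b0⁻¹) * b0 := by
        rw [ec]; group
      _ = q0 * ((tt z s (fU a1 a') 0 * tt z s (fU a' u1) (fU a' u1)) * b0) := by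
        rw [eb, ← P.tt_comm_A (P.InA_inv hq')]; group
      _ = _ := by
        rw [P.tt_mul, fU_comm a1, hi, zero_add, hj, ← P.tt_comm_B hb0, mul_assoc]
  refine ⟨q'⁻¹ * (c' * c), h.mul_comm' (h.inv_comm (P.zc hq')) (h.mul_comm' hc' hc),
    ((show Commute q'⁻¹ s from (P.InA_inv hq').2).mul_left
      ((show Commute c' s from hcs').mul_left hcs)).eq, ?_⟩
  have hback : q' * (q0 * b0) * q'⁻¹ = x2 := by
    rw [hc1, hx, mul_assoc, P.tt_mul, CharTwo.add_self_eq_zero, CharTwo.add_self_eq_zero]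
    simp [tt, zp]
  calc q'⁻¹ * (c' * c) * (q * b) * (q'⁻¹ * (c' * c))⁻¹ = q'⁻¹ * x2 * q' := by rw [hx2]; group
    _ = q0 * b0 := by rw [← hback]; group

/-- The second type forms one class. -/
theorem conj_two {q b q0 b0 : G} (hq : InA Q s q) (hb : InB z Q w b) (hq0 : InA Q s q0)
    (hb0 : InB z Q w b0) (ha0 : alpha h q0 = a0) (hu0 : theta h b0 = u0)
    (h1 : qU (alpha h q) = 1) (h2 : qU (theta h b) = 1)
    (h3 : fU (alpha h q) (theta h b) = 1) :
    ∃ c, c * z = z * c ∧ c * s = s * c ∧ c * (q * b) * c⁻¹ = q0 * b0 := by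
  obtain ⟨r, hr, t, ht, hrt⟩ := move_first _ h1
  have hr0 := nsList_spec r hr
  have ht0 := nsList_spec t ht
  obtain ⟨r', hr', t', ht', hfix, hmove⟩ := move_second (tU r (tU t (theta h b)))
    (by rw [qU_tU _ _ hr0, qU_tU _ _ ht0, h2]) (by rw [← hrt, tU_form _ _ _ hr0, tU_form _ _ _ ht0, h3])
  exact P.conj_x0 hq hb hq0 hb0 ha0 hu0 (by decide) (by decide) (by decide) hr0 ht0
    (nsList_spec r' hr') (nsList_spec t' ht') hrt hfix hmove

/-- The third type forms one class. -/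
theorem conj_three {q b q0 b0 : G} (hq : InA Q s q) (hb : InB z Q w b) (hq0 : InA Q s q0)
    (hb0 : InB z Q w b0) (ha0 : alpha h q0 = e1) (hu0 : theta h b0 = e2)
    (h1 : qU (alpha h q) = 0) (h2 : qU (theta h b) = 0)
    (h3 : fU (alpha h q) (theta h b) = 0) (h4 : alpha h q ≠ 0) (h5 : theta h b ≠ 0)
    (h6 : alpha h q ≠ theta h b) :
    ∃ c, c * z = z * c ∧ c * s = s * c ∧ c * (q * b) * c⁻¹ = q0 * b0 := by
  obtain ⟨r, hr, t, ht, hrt⟩ := move_sing _ h1 h4
  have hr0 := nsList_spec r hr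
  have ht0 := nsList_spec t ht
  have hinj : Function.Injective (fun x => tU r (tU t x)) := fun x y e => by
    have e' := congrArg (fun x => tU t (tU r x)) e
    simpa only [tU_tU] using e'
  obtain ⟨r', hr', t', ht', hfix, hmove⟩ := move_sing_second (tU r (tU t (theta h b)))
    (by rw [qU_tU _ _ hr0, qU_tU _ _ ht0, h2])
    (by rw [← hrt, tU_form _ _ _ hr0, tU_form _ _ _ ht0, h3])
    (fun e => h5 (hinj (by simpa only [tU_zero] using e)))
    (fun e => h6 (hinj (hrt.trans e.symm)))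
  exact P.conj_x0 hq hb hq0 hb0 ha0 hu0 (by decide) (by decide) (by decide) hr0 ht0
    (nsList_spec r' hr') (nsList_spec t' ht') hrt hfix hmove

end Pair

end Cfsg.Agent.H73.Conway
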