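import Cfsg.Agent.H73.Conway.Invol

/-!
A singular vector in the range of an involution whose perpendicular hyperplane is sent to singular
vectors.
-/

set_option autoImplicit false

namespace Cfsg.Agent.H73.Conway

open QuadraticMap Cfsg.Agent.Orthogonal Module

theorem exists_good {g : O phi} (hg : g ∈ commutator (O phi)) (h2 : g * g = 1) (h1 : g ≠ 1) :
    ∃ v ∈ perp phi (fixSpace g), v ≠ 0 ∧ phi v = 0 ∧ ∀ y, polar (⇑phi) v y = 0 →
      phi ((g : V8 ≃ₗ[ZMod 2] V8) y + y) = 0 := by
  have hgg := apply_twice h2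
  set N : V8 →ₗ[ZMod 2] V8 := ((g : V8 ≃ₗ[ZMod 2] V8) : V8 →ₗ[ZMod 2] V8) + LinearMap.id with hN
  have Napp : ∀ y, N y = (g : V8 ≃ₗ[ZMod 2] V8) y + y := fun y => rfl
  have hNI : ∀ y, N y ∈ perp phi (fixSpace g) := fun y => by
    rw [← range_sub_eq_perp_fixSpace phi_nondeg g]
    exact ⟨y, by simp [Napp, sub_eq_add']⟩
  have hsym : ∀ x y, polar (⇑phi) (N x) y = polar (⇑phi) x (N y) := fun x y => by
    rw [Napp, Napp, polar_add_left, polar_add_right]
    congr 1
    have h3 := O.polar_app g x ((g : V8 ≃ₗ[ZMod 2] V8) y)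
    rwa [hgg] at h3
  have hψ : ∀ y, phi (N y) = polar (⇑phi) y (N y) := fun y => by
    have h3 := O.map_app g y
    rw [show (g : V8 ≃ₗ[ZMod 2] V8) y = N y + y by
      rw [Napp, add_assoc, add_self', add_zero], map_add_polar] at h3
    rw [polar_comm]
    generalize phi (N y) = a, phi y = b, polar (⇑phi) (N y) y = c at h3
    revert a b c
    decide
  have hadd : ∀ x y, polar (⇑phi) (x + y) (N (x + y)) =
      polar (⇑phi) x (N x) + polar (⇑phi) y (N y) := fun x y => by
    rw [map_add, polar_add_left, polar_add_right, polar_add_right,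
      show polar (⇑phi) y (N x) = polar (⇑phi) x (N y) by rw [polar_comm, hsym]]
    generalize polar (⇑phi) x (N x) = a, polar (⇑phi) x (N y) = b, polar (⇑phi) y (N y) = c
    revert a b c
    decide
  obtain ⟨w, hw⟩ := phi_nondeg.exists_repr
    ((AddMonoidHom.mk' (fun y => polar (⇑phi) y (N y)) hadd).toZModLinearMap 2)
  have hw' : ∀ y, polar (⇑phi) w y = phi (N y) := fun y => by rw [hw, hψ]; rfl
  have hNfix : ∀ y ∈ fixSpace g, N y = 0 := fun y hy => by
    rw [Napp, mem_fixSpace.mp hy, add_self']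
  have hwI : w ∈ perp phi (fixSpace g) := (mem_perp phi).mpr fun y hy => by
    rw [polar_comm, hw', hNfix y hy, QuadraticMap.map_zero]
  by_cases hw0 : w = 0
  · obtain ⟨y, hy⟩ : ∃ y, N y ≠ 0 := by
      by_contra hno
      push Not at hno
      exact h1 (O.ext_app fun y => eq_of_add_eq_zero' (hno y))
    have hall : ∀ y, phi (N y) = 0 := fun y => by rw [← hw', hw0, polar_zero_left]
    exact ⟨N y, hNI y, hy, hall y, fun x _ => hall x⟩
  refine ⟨w, hwI, hw0, ?_, fun y hy => by rw [← Napp, ← hw', hy]⟩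
  by_contra hne
  have hphi : phi w = 1 := (two_cases' _).resolve_left hne
  obtain ⟨x₁, hx₁⟩ : ∃ x, N x = w := by
    have h3 := hwI
    rw [← range_sub_eq_perp_fixSpace phi_nondeg g] at h3
    obtain ⟨x, hx⟩ := h3
    exact ⟨x, by rw [← hx]; simp [Napp, sub_eq_add']⟩
  have hwx : polar (⇑phi) w x₁ = 1 := by rw [hw', hx₁, hphi]
  set H := perp phi (Submodule.span (ZMod 2) {w}) with hH
  have hmemH : ∀ y, y ∈ H ↔ polar (⇑phi) w y = 0 := fun y => mem_perp_span_singleton phi
  have hfixH : fixSpace g ≤ H := fun y hy => by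
    rw [hmemH, hw', hNfix y hy, QuadraticMap.map_zero]
  have hH7 : finrank (ZMod 2) H + 1 = 8 := by
    have h3 := phi_nondeg.finrank_perp_singleton hw0
    rw [finrank_V8] at h3
    omega
  set γ : V8 → V8 → ZMod 2 := fun y y' => polar (⇑phi) (N y) y' with hγ
  have hγsymm : ∀ y y', γ y y' = γ y' y := fun y y' => by
    simp only [hγ]; rw [hsym, polar_comm]
  have hγself : ∀ y ∈ H, γ y y = 0 := fun y hy => by
    show polar (⇑phi) (N y) y = 0
    rw [polar_comm, ← hψ, ← hw', (hmemH y).mp hy]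
  -- elements of `H` outside the fixed space have partners
  have hpartner : ∀ y ∈ H, y ∉ fixSpace g → ∃ b ∈ H, γ y b = 1 := by
    intro y hy hyf
    by_contra hno
    push Not at hno
    have hz : N y ∈ perp phi H := (mem_perp' phi).mpr fun b hb =>
      (two_cases' _).resolve_right (hno b hb)
    rw [hH, phi_nondeg.perp_perp, Submodule.mem_span_singleton] at hz
    obtain ⟨c, hc⟩ := hz
    rcases two_cases' c with rfl | rfl
    · rw [zero_smul] at hc
      exact hyf (mem_fixSpace.mpr (eq_of_add_eq_zero' ((Napp y).symm.trans hc.symm)))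
    · rw [one_smul] at hc
      have hd : y + x₁ ∈ fixSpace g := by
        refine mem_fixSpace.mpr (eq_of_add_eq_zero' ?_)
        rw [← Napp, map_add, ← hc, hx₁, add_self']
      have h3 := (hmemH _).mp (hfixH hd)
      rw [polar_add_right, (hmemH y).mp hy, hwx, zero_add] at h3
      exact one_ne_zero h3
  obtain ⟨a, ha, haf⟩ : ∃ a ∈ H, a ∉ fixSpace g := by
    by_contra hno
    push Not at hno
    have h3 := Submodule.finrank_mono (show H ≤ fixSpace g from hno)
    have h4 := phi_nondeg.finrank_add_perp (fixSpace g)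
    rw [finrank_V8] at h4
    rcases range_cases hg h2 h1 with e | e <;> rw [e] at h4
    · have := Submodule.finrank_mono hfixH; omega
    · omega
  obtain ⟨b, hb, hab⟩ := hpartner a ha haf
  have hsum := phi_nondeg.finrank_add_perp (fixSpace g)
  rw [finrank_V8] at hsum
  have hr := range_cases hg h2 h1
  -- the kernel of `(γ a, γ b)` on `H`
  let L : V8 →ₗ[ZMod 2] ZMod 2 × ZMod 2 :=
    (phi.polarBilin (N a)).prod (phi.polarBilin (N b))
  have hL : ∀ y, L y = (γ a y, γ b y) := fun y => rfl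
  have hsurj : LinearMap.range (L.comp H.subtype) = ⊤ := by
    refine eq_top_iff.mpr fun p _ => ?_
    refine ⟨p.1 • ⟨b, hb⟩ + p.2 • ⟨a, ha⟩, ?_⟩
    rw [map_add, map_smul, map_smul]
    show p.1 • L b + p.2 • L a = p
    rw [hL, hL, hab, hγself a ha, hγself b hb, hγsymm b a, hab]
    simp
  have hrn := LinearMap.finrank_range_add_finrank_ker (L.comp H.subtype)
  rw [hsurj, finrank_top, Module.finrank_prod, Module.finrank_self] at hrn
  set K0 := (LinearMap.ker (L.comp H.subtype)).map H.subtype with hK0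
  have hK0r : finrank (ZMod 2) K0 = finrank (ZMod 2) (LinearMap.ker (L.comp H.subtype)) :=
    (Submodule.equivSubtypeMap H (LinearMap.ker (L.comp H.subtype))).finrank_eq.symm
  have hK0mem : ∀ y ∈ K0, y ∈ H ∧ γ a y = 0 ∧ γ b y = 0 := by
    rintro - ⟨⟨y, hy⟩, hy', rfl⟩
    have h3 : L y = 0 := hy'
    rw [hL, Prod.mk_eq_zero] at h3
    exact ⟨hy, h3⟩
  obtain ⟨c, hc, hcf⟩ : ∃ c ∈ K0, c ∉ fixSpace g := by
    by_contra hno
    push Not at hno
    have h3 := Submodule.finrank_mono (show K0 ≤ fixSpace g from hno)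
    have h4 : fixSpace g ≤ K0 := fun y hy => by
      refine ⟨⟨y, hfixH hy⟩, ?_, rfl⟩
      show L y = 0
      have h5 : ∀ p, γ p y = 0 := fun p => by
        show polar (⇑phi) (N p) y = 0
        rw [hsym, hNfix y hy, polar_zero_right]
      rw [hL, h5, h5]
      rfl
    have h5 := Submodule.finrank_mono h4
    omega
  obtain ⟨hcH, hac, hbc⟩ := hK0mem c hc
  obtain ⟨d₀, hd₀, hcd₀⟩ := hpartner c hcH hcf
  set d := d₀ + γ b d₀ • a + γ a d₀ • b with hd
  have hdH : d ∈ H := add_mem (add_mem hd₀ (H.smul_mem _ ha)) (H.smul_mem _ hb)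
  have hγadd : ∀ p x y, γ p (x + y) = γ p x + γ p y := fun p x y => polar_add_right _ _ _ _
  have hγsmul : ∀ p (t : ZMod 2) y, γ p (t • y) = t * γ p y := fun p t y =>
    polar_smul_right' _ _ _ _
  have had : γ a d = 0 := by
    rw [hd, hγadd, hγadd, hγsmul, hγsmul, hγself a ha, hab, mul_zero, add_zero, mul_one,
      CharTwo.add_self_eq_zero]
  have hbd : γ b d = 0 := by
    rw [hd, hγadd, hγadd, hγsmul, hγsmul, hγself b hb, hγsymm b a, hab, mul_zero, add_zero,
      mul_one, CharTwo.add_self_eq_zero]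
  have hcd : γ c d = 1 := by
    rw [hd, hγadd, hγadd, hγsmul, hγsmul, hγsymm c a, hac, hγsymm c b, hbc, hcd₀, mul_zero,
      mul_zero, add_zero, add_zero]
  let M : V8 →ₗ[ZMod 2] (ZMod 2 × ZMod 2) × ZMod 2 × ZMod 2 :=
    L.prod ((phi.polarBilin (N c)).prod (phi.polarBilin (N d)))
  have hM : ∀ y, M y = ((γ a y, γ b y), γ c y, γ d y) := fun y => rfl
  have hsurj' : LinearMap.range (M.comp H.subtype) = ⊤ := by
    refine eq_top_iff.mpr fun p _ => ?_
    refine ⟨p.1.1 • ⟨b, hb⟩ + p.1.2 • ⟨a, ha⟩ + p.2.1 • ⟨d, hdH⟩ + p.2.2 • ⟨c, hcH⟩, ?_⟩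
    rw [map_add, map_add, map_add, map_smul, map_smul, map_smul, map_smul]
    show p.1.1 • M b + p.1.2 • M a + p.2.1 • M d + p.2.2 • M c = p
    rw [hM, hM, hM, hM, hab, hγself a ha, hγself b hb, hγsymm b a, hab, had, hbd, hac, hbc,
      hcd, hγself c hcH, hγself d hdH, hγsymm d c, hcd, hγsymm c b, hbc, hγsymm c a, hac,
      hγsymm d b, hbd, hγsymm d a, had]
    ext <;> simp
  have hrn' := LinearMap.finrank_range_add_finrank_ker (M.comp H.subtype)
  rw [hsurj', finrank_top, Module.finrank_prod, Module.finrank_prod, Module.finrank_self] at hrn'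
  have hle : (fixSpace g).comap H.subtype ≤ LinearMap.ker (M.comp H.subtype) := fun y hy => by
    show M y = 0
    have h5 : ∀ p, γ p y = 0 := fun p => by
      show polar (⇑phi) (N p) (y : V8) = 0
      rw [hsym, show N (y : V8) = 0 from hNfix _ hy, polar_zero_right]
    rw [hM, h5, h5, h5, h5]
    rfl
  have h6 := Submodule.finrank_mono hle
  rw [(Submodule.comapSubtypeEquivOfLe hfixH).finrank_eq] at h6
  omega

end Cfsg.Agent.H73.Conway
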