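import Cfsg.Agent.H73.Conway.UFacts

/-!
Isometries of the eight-dimensional hyperbolic space: involutions of the commutator subgroup and
elements of order seven.
-/

set_option autoImplicit false
set_option linter.style.haveILetI false

namespace Cfsg.Agent.H73.Conway

open QuadraticMap Cfsg.Agent.Orthogonal Module

theorem add_self' (y : V8) : y + y = 0 := by
  obtain ⟨⟨c, d⟩, u⟩ := y
  simp only [Prod.mk_add_mk, U6_add_self, CharTwo.add_self_eq_zero]
  rfl

theorem sub_eq_add' (x y : V8) : x - y = x + y :=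
  sub_eq_of_eq_add (by rw [add_assoc, add_self', add_zero])

theorem eq_of_add_eq_zero' {x y : V8} (h : x + y = 0) : x = y := by
  rw [← sub_eq_add'] at h; exact sub_eq_zero.mp h

/-- The Siegel transvections along `v0`. -/
noncomputable def E (u : U6) : O phi :=
  sie v0 (emb u) phi_v0 (by rw [polar_v0]; rfl)

theorem E_app (u : U6) (y : V8) :
    (E u : V8 ≃ₗ[ZMod 2] V8) y =
      ((y.1.1 + fU u y.2 + qU u * y.1.2, y.1.2), y.2 + y.1.2 • u) := by
  rw [E, sie_app, polar_emb, phi_emb, polar_v0, sub_eq_add', CharTwo.sub_eq_add]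
  obtain ⟨⟨c, d⟩, w⟩ := y
  simp only [v0, emb, Prod.smul_mk, Prod.mk_add_mk, smul_eq_mul, mul_one, mul_zero, add_zero,
    smul_zero, ← add_assoc]

theorem E_v0 (u : U6) : (E u : V8 ≃ₗ[ZMod 2] V8) v0 = v0 := by
  rw [E_app]; revert u; decide

theorem E_f0 (u : U6) : (E u : V8 ≃ₗ[ZMod 2] V8) f0 = ((qU u, 1), u) := by
  rw [E_app]
  have h : fU u 0 = 0 := by revert u; decide
  simp [f0, h]

theorem E_injective : Function.Injective E := fun u u' h => by
  have := congrArg (fun g : O phi => ((g : V8 ≃ₗ[ZMod 2] V8) f0).2) h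
  simpa [E_f0] using this

theorem E_zero : E 0 = 1 := O.ext_app fun y => by
  rw [E_app]
  have h : fU 0 y.2 = 0 ∧ qU 0 = 0 := ⟨by
    generalize y.2 = w
    revert w; decide, by decide⟩
  simp [h.1, h.2]

theorem E_mem_K (u : U6) : E u ∈ commutator (O phi) := by
  rw [← sieGroup_eq_commutator phi_nondeg (by rw [finrank_V8]; norm_num)]
  exact sie_mem _ _

/-- The commutator subgroup is transitive on singular vectors. -/
theorem exists_K_map {v : V8} (hv0 : v ≠ 0) (hv : phi v = 0) :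
    ∃ g ∈ commutator (O phi), (g : V8 ≃ₗ[ZMod 2] V8) v = v0 := by
  obtain ⟨g, hg, s, hs, hgv⟩ :=
    exists_sie_point phi_nondeg (by rw [finrank_V8]; norm_num) hv0 v0_ne hv phi_v0
  refine ⟨g, by rwa [← sieGroup_eq_commutator phi_nondeg (by rw [finrank_V8]; norm_num)], ?_⟩
  rw [hgv, (two_cases' s).resolve_left hs, one_smul]

theorem polar_fixed {g : O phi} (hg : (g : V8 ≃ₗ[ZMod 2] V8) v0 = v0) (y : V8) :
    polar (⇑phi) v0 ((g : V8 ≃ₗ[ZMod 2] V8) y) = polar (⇑phi) v0 y := by
  conv_lhs => rw [← hg]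
  rw [O.polar_app]

/-- The kernel of the action of the stabiliser of `v0` on the residue. -/
theorem eq_E {g : O phi} (hv : (g : V8 ≃ₗ[ZMod 2] V8) v0 = v0)
    (h : ∀ y, polar (⇑phi) v0 y = 0 → ((g : V8 ≃ₗ[ZMod 2] V8) y).2 = y.2) :
    ∃ u, g = E u := by
  obtain ⟨⟨⟨c, d⟩, u⟩, hw⟩ : ∃ w, (g : V8 ≃ₗ[ZMod 2] V8) f0 = w := ⟨_, rfl⟩
  · have hd : d = 1 := by
      have := polar_fixed hv f0
      rw [hw, polar_v0, polar_v0] at this
      exact this
    subst hd
    have hc : c = qU u := by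
      have := O.map_app g f0
      rw [hw, phi_apply, phi_apply] at this
      have h0 : (f0.1.1 * f0.1.2 + qU f0.2 : ZMod 2) = 0 := by decide
      rw [h0, mul_one] at this
      exact CharTwo.add_eq_zero.mp this
    subst hc
    refine ⟨u, O.ext_app fun y => ?_⟩
    set y' := y - y.1.2 • f0 with hy'
    have hp : polar (⇑phi) v0 y' = 0 := by
      rw [polar_v0, hy']; simp [f0]
    have h2 := h y' hp
    have hd' : ((g : V8 ≃ₗ[ZMod 2] V8) y').1.2 = 0 := by
      rw [← polar_v0, polar_fixed hv, hp]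
    have h3 := O.polar_app g y' f0
    rw [hw, polar_phi, polar_phi, hd', h2] at h3
    have hy1 : y'.1.1 = y.1.1 ∧ y'.1.2 = 0 ∧ y'.2 = y.2 := by
      simp [hy', f0]
    rw [hy1.2.2, hy1.1, hy1.2.1] at h3
    have h0 : fU y.2 (f0.2) = 0 := by
      generalize y.2 = w
      revert w; decide
    rw [h0, show f0.1.1 = 0 from rfl, show f0.1.2 = 1 from rfl] at h3
    rw [hy1.2.2] at h2
    have hg : (g : V8 ≃ₗ[ZMod 2] V8) y =
        (g : V8 ≃ₗ[ZMod 2] V8) y' + y.1.2 • (g : V8 ≃ₗ[ZMod 2] V8) f0 := by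
      rw [← map_smul, ← map_add, hy', sub_add_cancel]
    rw [hg, hw, E_app]
    generalize (g : V8 ≃ₗ[ZMod 2] V8) y' = r at h3 h2 hd'
    obtain ⟨⟨rc, rd⟩, rw'⟩ := r
    simp only at h3 h2 hd'
    subst hd' h2
    obtain ⟨⟨yc, yd⟩, yu⟩ := y
    simp only [Prod.smul_mk, Prod.mk_add_mk, smul_eq_mul, mul_one, zero_add, mul_zero,
      add_zero] at h3 ⊢
    rw [fU_comm u yu]
    simp only [Prod.mk.injEq, and_true]
    rw [show rc = yc + fU yu u from by
      rw [← h3, add_assoc, CharTwo.add_self_eq_zero, add_zero]]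
    ring

theorem apply_twice {g : O phi} (h2 : g * g = 1) (x : V8) :
    (g : V8 ≃ₗ[ZMod 2] V8) ((g : V8 ≃ₗ[ZMod 2] V8) x) = x := by
  rw [← mul_app, ← Subgroup.coe_mul, h2]; rfl

theorem perp_fix_le {g : O phi} (h2 : g * g = 1) : perp phi (fixSpace g) ≤ fixSpace g := by
  rw [← range_sub_eq_perp_fixSpace phi_nondeg g]
  rintro - ⟨x, rfl⟩
  rw [mem_fixSpace]
  simp only [LinearMap.sub_apply, LinearEquiv.coe_coe, LinearMap.id_apply, map_sub, apply_twice h2]
  rw [sub_eq_add', sub_eq_add', add_comm]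

/-- The dimension of the range of an involution of the commutator subgroup. -/
theorem range_cases {g : O phi} (hg : g ∈ commutator (O phi)) (h2 : g * g = 1) (h1 : g ≠ 1) :
    finrank (ZMod 2) (perp phi (fixSpace g)) = 2 ∨ finrank (ZMod 2) (perp phi (fixSpace g)) = 4 := by
  have hsum := phi_nondeg.finrank_add_perp (fixSpace g)
  have hmono := Submodule.finrank_mono (perp_fix_le h2)
  have hd := (mem_K_iff g).mp hg
  rw [dickson_apply, dicksonSign, neg_one_pow_eq_one_iff_even (by decide), finrank_V8] at hd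
  rw [finrank_V8] at hsum
  have hpos : finrank (ZMod 2) (perp phi (fixSpace g)) ≠ 0 := fun h0 => by
    refine h1 (O.ext_app fun x => ?_)
    have hx : ((g : V8 ≃ₗ[ZMod 2] V8) : V8 →ₗ[ZMod 2] V8) x - x ∈ perp phi (fixSpace g) := by
      rw [← range_sub_eq_perp_fixSpace phi_nondeg g]; exact ⟨x, rfl⟩
    rw [Submodule.finrank_eq_zero.mp h0, Submodule.mem_bot, sub_eq_zero] at hx
    simpa using hx
  obtain ⟨r, hr⟩ := hd
  omega

/-- Involutions of rank two of the commutator subgroup are conjugate to Siegel transvections. -/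
theorem exists_conj_E {g : O phi} (h2 : g * g = 1) (h1 : g ≠ 1)
    (hfin : finrank (ZMod 2) (perp phi (fixSpace g)) = 2) :
    ∃ k ∈ commutator (O phi), ∃ u : U6, u ≠ 0 ∧ k * g * k⁻¹ = E u := by
  have hrange := range_sub_eq_perp_fixSpace phi_nondeg g
  have hgg := apply_twice h2
  have hle := perp_fix_le h2
  set I := perp phi (fixSpace g) with hI
  have hperpI : perp phi I = fixSpace g := phi_nondeg.perp_perp _
  have hcard : Nat.card I = 4 := by
    rw [natCard_eq_pow_finrank (K := ZMod 2), hfin, Nat.card_zmod]; norm_num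
  -- a nonzero singular vector in the range
  have hiso : ∀ a ∈ I, ∀ b ∈ I, polar (⇑phi) a b = 0 := fun a ha b hb => by
    have := (mem_perp phi).mp ha b (hle hb)
    rwa [polar_comm]
  obtain ⟨v, hvI, hv0, hv⟩ : ∃ v ∈ I, v ≠ 0 ∧ phi v = 0 := by
    have : Nontrivial I := Module.finrank_pos_iff.mp (by omega : 0 < finrank (ZMod 2) I)
    obtain ⟨⟨a, ha⟩, ha0⟩ := exists_ne (0 : I)
    have ha0' : a ≠ 0 := fun e => ha0 (Subtype.ext e)
    obtain ⟨b, hb, hb0, hba⟩ : ∃ b ∈ I, b ≠ 0 ∧ b ≠ a := by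
      by_contra hno
      push Not at hno
      have hsub : (I : Set V8) ⊆ {0, a} := fun b hb => by
        by_cases e : b = 0
        · exact Or.inl e
        · exact Or.inr (hno b hb e)
      have := Nat.card_mono (Set.toFinite ({0, a} : Set V8)) hsub
      rw [show Nat.card (I : Set V8) = 4 from hcard,
        Nat.card_coe_set_eq, Set.ncard_pair (Ne.symm ha0')] at this
      omega
    rcases two_cases' (phi a) with e | e
    · exact ⟨a, ha, ha0', e⟩
    rcases two_cases' (phi b) with e' | e'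
    · exact ⟨b, hb, hb0, e'⟩
    refine ⟨a + b, add_mem ha hb, fun e0 => hba (eq_of_add_eq_zero' e0).symm, ?_⟩
    rw [map_add_polar, hiso a ha b hb, e, e']; rfl
  obtain ⟨k, hk, hkv⟩ := exists_K_map hv0 hv
  refine ⟨k, hk, ?_⟩
  set g' := k * g * k⁻¹ with hg'
  have happ : ∀ y, (g' : V8 ≃ₗ[ZMod 2] V8) y =
      (k : V8 ≃ₗ[ZMod 2] V8) ((g : V8 ≃ₗ[ZMod 2] V8) ((k⁻¹ : O phi).1 y)) := fun y => rfl
  have hkinv : ∀ y, (k⁻¹ : O phi).1 ((k : V8 ≃ₗ[ZMod 2] V8) y) = y := fun y => by
    rw [← mul_app, ← Subgroup.coe_mul, inv_mul_cancel]; rfl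
  have hkinv' : ∀ y, (k : V8 ≃ₗ[ZMod 2] V8) ((k⁻¹ : O phi).1 y) = y := fun y => by
    rw [← mul_app, ← Subgroup.coe_mul, mul_inv_cancel]; rfl
  obtain ⟨x, hx⟩ : ∃ x, (g : V8 ≃ₗ[ZMod 2] V8) x - x = v := by
    have hv' : v ∈ I := hvI
    rw [← hrange] at hv'
    obtain ⟨x, hx⟩ := hv'
    exact ⟨x, by simpa using hx⟩
  have hfix : (g' : V8 ≃ₗ[ZMod 2] V8) v0 = v0 := by
    rw [happ, ← hkv, hkinv, mem_fixSpace.mp (hle hvI)]
  have key : ∀ y, polar (⇑phi) v0 y = 0 → ((g' : V8 ≃ₗ[ZMod 2] V8) y).2 = y.2 := by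
    intro y hy
    set y₁ := (k⁻¹ : O phi).1 y with hy₁
    set w := (g : V8 ≃ₗ[ZMod 2] V8) y₁ - y₁ with hwdef
    have hw : w ∈ I := by
      rw [← hrange]; exact ⟨y₁, by simp [hwdef]⟩
    have hvy : polar (⇑phi) v y₁ = 0 := by
      rw [← O.polar_app k, hkv, hy₁, hkinv', hy]
    have hxw : polar (⇑phi) x w = 0 := by
      have h3 := O.polar_app g x ((g : V8 ≃ₗ[ZMod 2] V8) y₁)
      rw [hgg] at h3
      rw [← hx, polar_sub_left, h3] at hvy
      rw [hwdef, polar_sub_right]
      exact hvy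
    have hxv : polar (⇑phi) x v = 0 := by
      have e := O.map_app g x
      rw [show (g : V8 ≃ₗ[ZMod 2] V8) x = x + v from by rw [← hx, add_sub_cancel],
        map_add_polar, hv] at e
      simpa using e
    have hwv : w = 0 ∨ w = v := by
      by_contra hne
      push Not at hne
      have hspan : ∀ i ∈ I, polar (⇑phi) x i = 0 := by
        intro i hi
        have hall : ({0, v, w, v + w} : Set V8) = (I : Set V8) := by
          refine Set.eq_of_subset_of_ncard_le ?_ ?_ (Set.toFinite _)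
          · rintro i (rfl | rfl | rfl | rfl)
            exacts [zero_mem I, hvI, hw, add_mem hvI hw]
          · rw [← Nat.card_coe_set_eq, show Nat.card (I : Set V8) = 4 from hcard]
            rw [Set.ncard_insert_of_notMem, Set.ncard_insert_of_notMem, Set.ncard_pair]
            · intro e; exact hv0 (by simpa using e.symm)
            · simp only [Set.mem_insert_iff, Set.mem_singleton_iff, not_or]
              exact ⟨hne.2.symm, fun e => hne.1 (by simpa using e.symm)⟩
            · simp only [Set.mem_insert_iff, Set.mem_singleton_iff, not_or]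
              exact ⟨hv0.symm, hne.1.symm, fun e => hne.2 (eq_of_add_eq_zero' e.symm).symm⟩
        have hi' : i ∈ ({0, v, w, v + w} : Set V8) := by rw [hall]; exact hi
        rcases hi' with rfl | rfl | rfl | rfl
        · simp [polar]
        · exact hxv
        · exact hxw
        · rw [polar_add_right, hxv, hxw, add_zero]
      have hxfix : x ∈ fixSpace g := by
        rw [← hperpI, mem_perp' phi]
        exact hspan
      rw [mem_fixSpace.mp hxfix, sub_self] at hx
      exact hv0 hx.symm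
    have hgy : (g' : V8 ≃ₗ[ZMod 2] V8) y = y + (k : V8 ≃ₗ[ZMod 2] V8) w := by
      rw [happ, hwdef, map_sub, ← hy₁]
      rw [show (k : V8 ≃ₗ[ZMod 2] V8) y₁ = y from hkinv' y, add_sub_cancel]
    rcases hwv with e | e <;> rw [hgy, e]
    · simp
    · rw [hkv]; simp [v0]
  obtain ⟨u, hu⟩ := eq_E hfix key
  refine ⟨u, fun e => h1 ?_, hu⟩
  rw [e, E_zero, hg', conj_eq_one_iff] at hu
  exact hu

theorem pow_app (g : O phi) : ∀ (n : ℕ) (x : V8),
    (g ^ n : O phi).1 x = ((g : V8 ≃ₗ[ZMod 2] V8) : V8 → V8)^[n] x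
  | 0, x => rfl
  | n + 1, x => by
    rw [pow_succ, Subgroup.coe_mul, mul_app, pow_app g n, Function.iterate_succ_apply]

end Cfsg.Agent.H73.Conway
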