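import Cfsg.Agent.H73.Conway.Center

/-!
The standard involutions are not conjugate to `z`, and two of them are conjugate only inside the
centraliser of `z`.
-/

set_option autoImplicit false
set_option linter.style.haveILetI false
set_option linter.unusedSectionVars false
set_option linter.unusedVariables false

namespace Cfsg.Agent.H73.Conway

open QuadraticMap Cfsg.Agent.Orthogonal Cfsg.Agent.H92.ExtraForm

variable {G : Type*} [Group G] [Finite G] {z : G} {Q : Subgroup G}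

/-- A proper 2-subgroup of a 2-group is normalised by an element outside it. -/
theorem exists_grow {T R : Subgroup G} (hR : IsPGroup 2 R) (hTR : T ≤ R) (hne : R ≠ T) :
    ∃ n ∈ R, n ∉ T ∧ ∀ g, g ∈ T ↔ n * g * n⁻¹ ∈ T := by
  haveI : Fact (Nat.Prime 2) := ⟨Nat.prime_two⟩
  haveI : Group.IsNilpotent R := hR.isNilpotent
  have hlt : T.subgroupOf R < ⊤ := lt_top_iff_ne_top.mpr fun e =>
    hne (le_antisymm (Subgroup.subgroupOf_eq_top.mp e) hTR)
  have h1 := Group.normalizerCondition_of_isNilpotent (T.subgroupOf R) hlt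
  obtain ⟨⟨n, hnR⟩, hn, hnT⟩ := SetLike.exists_of_lt h1
  refine ⟨n, hnR, hnT, fun g => ?_⟩
  constructor
  · intro hg
    exact (Subgroup.mem_normalizer_iff.mp hn ⟨g, hTR hg⟩).mp hg
  · intro hg
    have hgR : g ∈ R := by
      have := mul_mem (mul_mem (inv_mem hnR) (hTR hg)) hnR
      rwa [show n⁻¹ * (n * g * n⁻¹) * n = g by group] at this
    exact (Subgroup.mem_normalizer_iff.mp hn ⟨g, hgR⟩).mpr hg

/-- Conjugating a 2-subgroup into a maximal one inside a subgroup. -/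
theorem exists_conj_max {C T S : Subgroup G} (hTC : T ≤ C) (hT : IsPGroup 2 T)
    (hmax : ∀ R : Subgroup G, IsPGroup 2 R → T ≤ R → R ≤ C → R = T) (hSC : S ≤ C)
    (hS : IsPGroup 2 S) : ∃ c ∈ C, ∀ g ∈ S, c * g * c⁻¹ ∈ T := by
  haveI : Fact (Nat.Prime 2) := ⟨Nat.prime_two⟩
  obtain ⟨T', hT'⟩ := (hT.of_equiv (Subgroup.subgroupOfEquivOfLe hTC).symm).exists_le_sylow
  obtain ⟨S', hS'⟩ := (hS.of_equiv (Subgroup.subgroupOfEquivOfLe hSC).symm).exists_le_sylow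
  have hTT : ((T' : Subgroup C).map C.subtype) = T :=
    hmax _ (T'.isPGroup'.map _) (fun g hg => ⟨⟨g, hTC hg⟩, hT' hg, rfl⟩)
      (Subgroup.map_subtype_le _)
  obtain ⟨c, rfl⟩ := MulAction.exists_smul_eq C S' T'
  refine ⟨c, c.2, fun g hg => ?_⟩
  rw [← hTT]
  exact ⟨c * ⟨g, hSC hg⟩ * c⁻¹, ⟨⟨g, hSC hg⟩, hS' hg, rfl⟩, rfl⟩

namespace Pair

variable {h : Setup z Q} {s w : G} (P : Pair h s w)
include P

/-- Membership of conjugates of `z` in the cores is symmetric. -/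
theorem symm_mem {g : G} (hg : g * z * g⁻¹ ∈ Q) (hne : g * z * g⁻¹ ≠ z) : g⁻¹ * z * g ∈ Q := by
  set t := g * z * g⁻¹ with ht
  have ht1 : t ≠ 1 := fun e => h.z_ne (conj_eq_one_iff.mp e)
  have htt : t * t = 1 := by rw [ht, conj_mul, h.zz, mul_one, mul_inv_cancel]
  obtain ⟨c, hc, hcs⟩ := h.exists_conj_s P.hs P.hπ hg htt ht1 hne
  set m := w⁻¹ * c * g with hm
  have hmz : m * z = z * m := by
    rw [← mul_inv_eq_iff_eq_mul]
    calc m * z * m⁻¹ = w⁻¹ * (c * t * c⁻¹) * w := by rw [hm, ht]; group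
      _ = z := by rw [hcs, P.w_s]
  have hgm : g⁻¹ * z * g = m⁻¹ * s * m := by
    calc g⁻¹ * z * g = g⁻¹ * (c⁻¹ * (z * c)) * g := by rw [← hc]; group
      _ = m⁻¹ * (w⁻¹ * z * w) * m := by rw [hm]; group
      _ = m⁻¹ * s * m := by rw [P.w_z]
  rw [hgm]
  simpa using h.norm m⁻¹ (h.inv_comm hmz) s P.hs

variable {q0 b0 : G} (X : Std h s w q0 b0)
include X

theorem std_mul_z : Std h s w (q0 * z) b0 := by
  have hzA : InA Q s z := ⟨h.hzQ, P.sz.symm⟩
  have hα : alpha h (q0 * z) = alpha h q0 := by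
    rw [P.alpha_mul X.hq.1 h.hzQ]
    simp [alpha, h.π_z]
  have hxz : q0 * z * b0 = q0 * b0 * z := by rw [mul_assoc, ← X.hb.2, mul_assoc]
  refine ⟨P.InA_mul X.hq hzA, X.hb, hα ▸ X.a_ne, X.u_ne, hα ▸ X.au_ne, ?_, ?_, ?_⟩
  · rw [hxz]
    calc q0 * b0 * z * (q0 * b0 * z) = q0 * b0 * (z * (q0 * b0)) * z := by group
      _ = (q0 * b0 * (q0 * b0)) * (z * z) := by rw [← (P.x_comm X).1]; group
      _ = 1 := by rw [X.sq, h.zz, one_mul]
  · obtain ⟨y, h1, h2, h3⟩ := X.move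
    exact ⟨y, h1, h2, by rw [hxz]; exact ((show Commute y (q0 * b0) from h3).mul_right h1).eq⟩
  · rw [hα]; exact X.aux

/-- A large 2-subgroup moves `s` only to `s z`. -/
theorem big_move {T : Subgroup G} (hT : IsPGroup 2 T)
    (hTc : ∀ g ∈ T, g * z = z * g ∧ g * (q0 * b0) = q0 * b0 * g)
    (hTD : ∀ g, InW z Q s w g → g * (q0 * b0) = q0 * b0 * g → g ∈ T) {g : G} (hg : g ∈ T) :
    g * s * g⁻¹ = s ∨ g * s * g⁻¹ = s * z := by
  obtain ⟨hgz, hgx⟩ := hTc g hg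
  suffices hfix : (h.ρ g : V8 ≃ₗ[ZMod 2] V8) v0 = v0 by
    exact h.π_eq P.hs (h.norm g hgz s P.hs) (by rw [h.ρ_π g hgz s P.hs, P.hπ, hfix])
  by_contra hmove
  set u := theta h b0 with hu
  set e : V8 := (h.ρ g : V8 ≃ₗ[ZMod 2] V8) v0 with he
  have hρx : h.ρ (q0 * b0) = E u := by
    rw [h.ρ_mul _ _ (P.zc X.hq) X.hb.2, h.ρ_Q X.hq.1, one_mul, P.rho_B X.hb]
  -- the range of `x`
  have hrange : ∀ y : V8, ((E u : V8 ≃ₗ[ZMod 2] V8) y + y).1.2 = 0 ∧
      ∃ t : ZMod 2, ((E u : V8 ≃ₗ[ZMod 2] V8) y + y).2 = t • u := fun y => by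
    rw [E_app]
    refine ⟨CharTwo.add_self_eq_zero _, y.1.2, ?_⟩
    show y.2 + y.1.2 • u + y.2 = y.1.2 • u
    rw [add_comm y.2, add_assoc, U6_add_self, add_zero]
  have hcomm : ∀ y, (h.ρ g : V8 ≃ₗ[ZMod 2] V8) ((E u : V8 ≃ₗ[ZMod 2] V8) y + y) =
      (E u : V8 ≃ₗ[ZMod 2] V8) ((h.ρ g : V8 ≃ₗ[ZMod 2] V8) y) +
        (h.ρ g : V8 ≃ₗ[ZMod 2] V8) y := fun y => by
    rw [map_add, ← hρx, ← mul_app, ← mul_app, ← Subgroup.coe_mul, ← Subgroup.coe_mul,
      ← h.ρ_mul _ _ hgz (P.x_comm X).1, ← h.ρ_mul _ _ (P.x_comm X).1 hgz, hgx]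
  obtain ⟨v, hv⟩ : ∃ v : U6, fU u v = 1 := by
    obtain ⟨v, -, hv⟩ := pair_values X.a_ne X.u_ne X.au_ne 0 1
    exact ⟨v, by rw [fU_comm]; exact hv⟩
  have hv0 : (E u : V8 ≃ₗ[ZMod 2] V8) (emb v) + emb v = v0 := by
    rw [E_app]; simp [emb, v0, hv, U6_add_self]
  have he0 : e ≠ 0 := fun e' => v0_ne ((LinearEquiv.map_eq_zero_iff _).mp (he ▸ e'))
  -- the image of `v0`
  obtain ⟨ce, hce⟩ : ∃ c : ZMod 2, e = ((c, 0), u) := by
    obtain ⟨h1, t, h2⟩ := hrange ((h.ρ g : V8 ≃ₗ[ZMod 2] V8) (emb v))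
    rw [← hcomm, hv0, ← he] at h1 h2
    obtain ⟨⟨c, d⟩, eu⟩ := e
    simp only at h1 h2
    subst h1 h2
    rcases two_cases' t with rfl | rfl
    · exfalso
      rcases two_cases' c with rfl | rfl
      · exact he0 (by simp)
      · exact hmove (by simp [v0])
    · exact ⟨c, by simp⟩
  -- an element exchanging `e` and `e + v0`
  obtain ⟨q, b, hq, hb, hbv, hqb⟩ := P.D_left X v
  have hd : q * b ∈ T := hTD _ ⟨q, b, hq, hb, rfl⟩ hqb
  have hρd : h.ρ (q * b) = E v := by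
    rw [h.ρ_mul _ _ (P.zc hq) hb.2, h.ρ_Q hq.1, one_mul, P.rho_B hb, hbv]
  have hde : (E v : V8 ≃ₗ[ZMod 2] V8) e = e + v0 := by
    rw [hce, E_app]; simp [v0, fU_comm v, hv]
  -- the image of `e`
  have hge : (h.ρ g : V8 ≃ₗ[ZMod 2] V8) e = v0 ∨ (h.ρ g : V8 ≃ₗ[ZMod 2] V8) e = e + v0 := by
    obtain ⟨p, hp⟩ : ∃ p, (E u : V8 ≃ₗ[ZMod 2] V8) p + p = e :=
      ⟨_, (hcomm (emb v)).symm.trans (by rw [hv0])⟩
    obtain ⟨h1, t, h2⟩ := hrange ((h.ρ g : V8 ≃ₗ[ZMod 2] V8) p)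
    rw [← hcomm, hp] at h1 h2
    have hne0 : (h.ρ g : V8 ≃ₗ[ZMod 2] V8) e ≠ 0 := fun e' =>
      he0 ((LinearEquiv.map_eq_zero_iff _).mp e')
    have hnee : (h.ρ g : V8 ≃ₗ[ZMod 2] V8) e ≠ e := fun e' => by
      have e'' := (h.ρ g : V8 ≃ₗ[ZMod 2] V8).injective (e'.trans he)
      exact hmove e''
    obtain ⟨⟨⟨c, d⟩, eu⟩, hge⟩ : ∃ r : V8, (h.ρ g : V8 ≃ₗ[ZMod 2] V8) e = r := ⟨_, rfl⟩
    rw [hge] at h1 h2 hne0 hnee ⊢
    simp only at h1 h2
    subst h1 h2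
    rw [hce] at hnee ⊢
    rcases two_cases' t with rfl | rfl <;> rcases two_cases' c with rfl | rfl <;>
      rcases two_cases' ce with rfl | rfl <;>
      simp [v0, show (1 + 1 : ZMod 2) = 0 from rfl] at hne0 hnee ⊢
  -- a three-cycle of two-power order
  have key : ∀ k ∈ T, (h.ρ k : V8 ≃ₗ[ZMod 2] V8) ((h.ρ k : V8 ≃ₗ[ZMod 2] V8)
      ((h.ρ k : V8 ≃ₗ[ZMod 2] V8) v0)) = v0 → (h.ρ k : V8 ≃ₗ[ZMod 2] V8) v0 = v0 := by
    intro k hk h3
    obtain ⟨n, hn⟩ := hT ⟨k, hk⟩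
    have hn' : k ^ 2 ^ n = 1 := congrArg Subtype.val hn
    have hkz := (hTc k hk).1
    have hK : h.ρ k ^ 2 ^ n = 1 := by rw [← h.ρ_pow hkz, hn', h.ρ_one]
    obtain ⟨j, hj⟩ := exists_pow_eq_self_of_coprime (x := h.ρ k) (n := 3)
      (Nat.Coprime.coprime_dvd_right (orderOf_dvd_of_pow_eq_one hK)
        (Nat.Coprime.pow_right n (by norm_num)))
    have h3' : ((h.ρ k ^ 3 : O phi) : V8 ≃ₗ[ZMod 2] V8) v0 = v0 := by
      rw [show h.ρ k ^ 3 = h.ρ k * (h.ρ k * h.ρ k) by simp [pow_succ, mul_assoc], Subgroup.coe_mul,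
        Subgroup.coe_mul, mul_app, mul_app]
      exact h3
    have hall : ∀ j : ℕ, (((h.ρ k ^ 3) ^ j : O phi) : V8 ≃ₗ[ZMod 2] V8) v0 = v0 := by
      intro j
      induction j with
      | zero => rfl
      | succ j ih => rw [pow_succ, Subgroup.coe_mul, mul_app, h3', ih]
    have := hall j
    rwa [hj] at this
  rcases hge with hge | hge
  · -- compose with the exchange
    have hk : g * (q * b) ∈ T := mul_mem hg hd
    have happ : ∀ y, (h.ρ (g * (q * b)) : V8 ≃ₗ[ZMod 2] V8) y =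
        (h.ρ g : V8 ≃ₗ[ZMod 2] V8) ((E v : V8 ≃ₗ[ZMod 2] V8) y) := fun y => by
      rw [h.ρ_mul _ _ hgz (hTc _ hd).1, Subgroup.coe_mul, mul_app, hρd]
    refine hmove ?_
    have := key _ hk (by
      rw [happ v0, E_v0, ← he, happ e, hde, map_add, hge, ← he, happ (v0 + e), map_add, E_v0, hde,
        show v0 + (e + v0) = e by rw [add_comm e, ← add_assoc, add_self', zero_add], hge])
    rwa [happ v0, E_v0] at this
  · refine hmove (key g hg ?_)
    rw [← he, hge, map_add, hge, ← he, show e + v0 + e = v0 by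
      rw [add_comm e, add_assoc, add_self', add_zero]]

/-- A standard involution is not conjugate to `z`. -/
theorem not_conj_z : ¬ IsConj (q0 * b0) z := by
  haveI : Fact (Nat.Prime 2) := ⟨Nat.prime_two⟩
  intro hconj
  obtain ⟨g, hgx⟩ := isConj_iff.mp hconj.symm
  obtain ⟨T, y, hT, hTc, hTD, hyT, hys, hTmax⟩ := P.exists_big X
  set x := q0 * b0 with hx
  have hxz : x * z = z * x := (P.x_comm X).1
  have hxW : InW z Q s w x := ⟨q0, b0, X.hq, X.hb, rfl⟩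
  have hxQ : x ∉ Q := P.x_not_mem X
  have hzW : InW z Q s w z :=
    ⟨z, 1, ⟨h.hzQ, P.sz.symm⟩, ⟨by simp, by simp⟩, (mul_one z).symm⟩
  have hzT : z ∈ T := hTD z hzW hxz.symm
  have hxz1 : x ≠ z := fun e => hxQ (e ▸ h.hzQ)
  -- `T` is not maximal in the centraliser of `x`
  set Q' := Q.map (MulAut.conj g).toMonoidHom with hQ'
  have hQ'mem : ∀ e, e ∈ Q' ↔ g⁻¹ * e * g ∈ Q := fun e => by
    rw [hQ']
    constructor
    · rintro ⟨q, hq, rfl⟩
      show g⁻¹ * (g * q * g⁻¹) * g ∈ Q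
      rwa [show g⁻¹ * (g * q * g⁻¹) * g = q by group]
    · intro he
      exact ⟨_, he, by show g * (g⁻¹ * e * g) * g⁻¹ = e; group⟩
  have hcx : ∀ {t : G}, t * x = x * t → g⁻¹ * t * g * z = z * (g⁻¹ * t * g) := fun {t} ht => by
    rw [← hgx] at ht
    calc g⁻¹ * t * g * z = g⁻¹ * (t * (g * z * g⁻¹)) * g := by group
      _ = z * (g⁻¹ * t * g) := by rw [ht]; group
  have hQ'x : ∀ e ∈ Q', e * x = x * e := fun e he => by
    have := h.le _ ((hQ'mem e).mp he)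
    rw [← hgx]
    calc e * (g * z * g⁻¹) = g * (g⁻¹ * e * g * z) * g⁻¹ := by group
      _ = g * z * g⁻¹ * e := by rw [this]; group
  have hQ'2 : IsPGroup 2 Q' := (show IsPGroup 2 Q from fun q =>
    ⟨2, Subtype.ext (by simpa using h.pow_four q.2)⟩).map _
  have hnorm : T ≤ Subgroup.normalizer (Q' : Set G) := fun t ht => by
    have h1 := hcx (hTc t ht).2
    refine Subgroup.mem_normalizer_iff.mpr fun e => ?_
    rw [hQ'mem, hQ'mem, show g⁻¹ * (t * e * t⁻¹) * g =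
      (g⁻¹ * t * g) * (g⁻¹ * e * g) * (g⁻¹ * t * g)⁻¹ by group]
    refine ⟨fun he => h.norm _ h1 _ he, fun he => ?_⟩
    have := h.norm _ (h.inv_comm h1) _ he
    rwa [show (g⁻¹ * t * g)⁻¹ * ((g⁻¹ * t * g) * (g⁻¹ * e * g) * (g⁻¹ * t * g)⁻¹) *
      (g⁻¹ * t * g)⁻¹⁻¹ = g⁻¹ * e * g by group] at this
  set R := T ⊔ Q' with hR
  have hR2 : IsPGroup 2 R := IsPGroup.to_sup_of_normal_right' hT hQ'2 hnorm
  have hRx : ∀ e ∈ R, e * x = x * e := fun e he =>
    Subgroup.mem_centralizer_singleton_iff.mp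
      ((sup_le (fun t ht => Subgroup.mem_centralizer_singleton_iff.mpr (hTc t ht).2)
        (fun t ht => Subgroup.mem_centralizer_singleton_iff.mpr (hQ'x t ht)) :
          R ≤ Subgroup.centralizer ({x} : Set G)) he)
  have hRne : R ≠ T := by
    intro e
    have hall : ∀ q ∈ Q, q * (g⁻¹ * z * g) = g⁻¹ * z * g * q := fun q hq => by
      have hm : g * q * g⁻¹ ∈ T :=
        e ▸ Subgroup.mem_sup_right ((hQ'mem _).mpr (by
          rwa [show g⁻¹ * (g * q * g⁻¹) * g = q by group]))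
      have h1 := (hTc _ hm).1
      calc q * (g⁻¹ * z * g) = g⁻¹ * (g * q * g⁻¹ * z) * g := by group
        _ = g⁻¹ * z * g * q := by rw [h1]; group
    rcases h.cQ (hcx hxz.symm) hall with e' | e'
    · exact h.z_ne (by
        calc z = g * (g⁻¹ * z * g) * g⁻¹ := by group
          _ = 1 := by rw [e', mul_one, mul_inv_cancel])
    · apply hxz1
      calc x = g * z * g⁻¹ := hgx.symm
        _ = g * (g⁻¹ * z * g) * g⁻¹ := by rw [e']
        _ = z := by group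
  obtain ⟨n, hnR, hnT, hn⟩ := exists_grow hR2 le_sup_left hRne
  -- conjugates of `z` by normalising elements
  have key : ∀ m ∈ R, m ∉ T → (∀ t, t ∈ T ↔ m * t * m⁻¹ ∈ T) → m * z * m⁻¹ = x * z := by
    intro m hmR hmT hm
    have hback : ∀ t ∈ T, (m * z * m⁻¹) * t = t * (m * z * m⁻¹) := fun t ht => by
      have h1 : m⁻¹ * t * m ∈ T := (hm _).mpr (by rwa [show m * (m⁻¹ * t * m) * m⁻¹ = t by group])
      calc m * z * m⁻¹ * t = m * (z * (m⁻¹ * t * m)) * m⁻¹ := by group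
        _ = t * (m * z * m⁻¹) := by rw [← (hTc _ h1).1]; group
    rcases P.center_cases X (e := m * z * m⁻¹) (hback z hzT)
      (fun t ht htx => hback t (hTD t ht htx)) (hTc y hyT).1 hys (hTc y hyT).2
      (hback y hyT).symm with e | e | e | e
    · exact absurd (conj_eq_one_iff.mp e) h.z_ne
    · exfalso
      have hmz : m * z = z * m := mul_inv_eq_iff_eq_mul.mp e
      have hmN : Subgroup.zpowers m ≤ Subgroup.normalizer (T : Set G) :=
        Subgroup.zpowers_le.mpr (Subgroup.mem_normalizer_iff.mpr hm)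
      have hm2 : IsPGroup 2 (Subgroup.zpowers m) := hR2.to_le (Subgroup.zpowers_le.mpr hmR)
      have hsup := hTmax _ (IsPGroup.to_sup_of_normal_left' hT hm2 hmN) le_sup_left fun t ht =>
        (Subgroup.mem_inf.mp ((sup_le
          (fun t ht => Subgroup.mem_inf.mpr ⟨Subgroup.mem_centralizer_singleton_iff.mpr (hTc t ht).1,
            Subgroup.mem_centralizer_singleton_iff.mpr (hTc t ht).2⟩)
          (Subgroup.zpowers_le.mpr (Subgroup.mem_inf.mpr
            ⟨Subgroup.mem_centralizer_singleton_iff.mpr hmz,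
              Subgroup.mem_centralizer_singleton_iff.mpr (hRx m hmR)⟩)) :
          T ⊔ Subgroup.zpowers m ≤
            Subgroup.centralizer ({z} : Set G) ⊓ Subgroup.centralizer ({x} : Set G)) ht)).imp
          Subgroup.mem_centralizer_singleton_iff.mp Subgroup.mem_centralizer_singleton_iff.mp
      exact hmT (hsup ▸ Subgroup.mem_sup_right (Subgroup.mem_zpowers m))
    · exfalso
      apply hxz1
      calc x = m⁻¹ * (m * x) := by group
        _ = m⁻¹ * (x * m) := by rw [hRx m hmR]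
        _ = z := by rw [show x = m * z * m⁻¹ from e.symm]; group
    · exact e
  have hnz : n * z * n⁻¹ = x * z := key n hnR hnT hn
  have hniz : n⁻¹ * z * n = x * z := by
    have := key n⁻¹ (inv_mem hnR) (fun e => hnT (by simpa using inv_mem e)) (fun t => by
      rw [hn (n⁻¹ * t * n⁻¹⁻¹), show n * (n⁻¹ * t * n⁻¹⁻¹) * n⁻¹ = t by group])
    rwa [inv_inv] at this
  have hxzQ : x * z ∉ Q := fun hm => hxQ (by
    have := mul_mem hm h.hzQ
    rwa [mul_assoc, h.zz, mul_one] at this)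
  -- elements commuting with `x z` go into the centraliser
  have hcn : ∀ {t : G}, t * x = x * t → t * z = z * t →
      n⁻¹ * t * n * z = z * (n⁻¹ * t * n) := fun {t} h1 h2 => by
    have h3 : t * (n * z * n⁻¹) = n * z * n⁻¹ * t := by
      rw [hnz]; exact ((show Commute t x from h1).mul_right h2).eq
    calc n⁻¹ * t * n * z = n⁻¹ * (t * (n * z * n⁻¹)) * n := by group
      _ = z * (n⁻¹ * t * n) := by rw [h3]; group
  -- the square root of `x z`
  obtain ⟨a1, ha1q, ha1a, ha1u⟩ := X.aux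
  obtain ⟨q1, hq1, hq1a⟩ := P.exists_A' a1
  have hq1x : q1 * x = x * q1 := by
    have hθ1 : theta h (1 : G) = 0 := by rw [theta, h.ρ_one]; rfl
    have e := (P.commute_W hq1 (b := 1) ⟨by simp, by simp⟩ X.hq X.hb).mpr (by
      rw [hq1a, hθ1, fU_zero_right, fU_zero_left, ha1a, ha1u]; simp)
    rwa [mul_one] at e
  have hq1T : q1 ∈ T := hTD q1 ⟨q1, 1, hq1, ⟨by simp, by simp⟩, (mul_one q1).symm⟩ hq1x
  set y5 := n * q1 * n⁻¹ with hy5
  have hy5T : y5 ∈ T := (hn q1).mp hq1T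
  obtain ⟨hy5z, hy5x⟩ := hTc y5 hy5T
  have hy5sq : y5 * y5 = x * z := by
    rw [hy5, conj_mul, P.sq_A hq1, hq1a, ha1q, ← hnz]
    simp [tt, zp]
  have hy5n : n⁻¹ * y5 * n = q1 := by rw [hy5]; group
  have hsx : s * x = x * s := (P.x_comm X).2.symm
  have hy5s : y5 * s = s * y5 := by
    rcases P.big_move X hT hTc hTD hy5T with e | e
    · exact mul_inv_eq_iff_eq_mul.mp e
    exfalso
    apply hxzQ
    rw [← hniz]
    have h1 : n⁻¹ * (y5 * (s * y5⁻¹ * s⁻¹)) * n =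
        q1 * ((n⁻¹ * s * n) * q1⁻¹ * (n⁻¹ * s * n)⁻¹) := by rw [← hy5n]; group
    have h2 : y5 * (s * y5⁻¹ * s⁻¹) = z := by
      calc y5 * (s * y5⁻¹ * s⁻¹) = y5 * s * y5⁻¹ * s⁻¹ := by group
        _ = s * z * s⁻¹ := by rw [e]
        _ = z := by rw [P.sz, mul_inv_cancel_right]
    rw [h2] at h1
    rw [h1]
    exact mul_mem hq1.1 (h.norm _ (hcn hsx P.sz) _ (inv_mem hq1.1))
  -- the residual action of `y5`
  set a := alpha h q0 with ha
  set u := theta h b0 with hu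
  have hconjy : ∀ a', res (h.ρ y5) (res (h.ρ y5) a') = a' := fun a' => by
    have hzA : InA Q s (q0 * z) := P.InA_mul X.hq ⟨h.hzQ, P.sz.symm⟩
    rw [← P.res_mul hy5z hy5s hy5z hy5s, hy5sq,
      show x * z = q0 * z * b0 by rw [hx, mul_assoc q0 z, ← X.hb.2, mul_assoc]]
    exact P.res_W hzA X.hb a'
  have hRau : res (h.ρ y5) a = a ∧ res (h.ρ y5) u = u := by
    have e : y5 * q0 * y5⁻¹ * (y5 * b0 * y5⁻¹) = q0 * b0 := by
      rw [conj_mul, hy5x, mul_inv_cancel_right]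
    obtain ⟨e1', e2'⟩ :=
      P.pair_unique (P.InA_conj hy5z hy5s X.hq) (P.InB_conj hy5z hy5s X.hb) X.hq X.hb e
    rw [P.alpha_conj hy5z hy5s X.hq] at e1'
    rw [P.theta_conj hy5z hy5s X.hb] at e2'
    exact ⟨e1', e2'⟩
  obtain ⟨r, hr, hπr, hrs⟩ := h.exists_flip P.hs P.hπ
  obtain ⟨hkA, hk⟩ := P.flip_coef hy5z hy5s hr hπr hrs
  set k := y5 * r * y5⁻¹ * r⁻¹ with hkdef
  set N : U6 → U6 := fun a' => res (h.ρ y5) a' + a' with hN
  have hNadd : ∀ p p', N (p + p') = N p + N p' := fun p p' => by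
    simp only [hN, res_add]; abel
  have hNk : N (alpha h k) = u := by
    have hrz := h.le r hr
    have e : y5 * k * y5⁻¹ * k = x * r * x⁻¹ * r⁻¹ := by
      calc y5 * k * y5⁻¹ * k = (y5 * y5) * r * (y5 * y5)⁻¹ * r⁻¹ := by rw [hkdef]; group
        _ = x * (z * r * z⁻¹) * x⁻¹ * r⁻¹ := by rw [hy5sq]; group
        _ = x * r * x⁻¹ * r⁻¹ := by rw [← hrz, mul_inv_cancel_right]
    have e2 := congrArg (alpha h) e
    rw [P.alpha_mul (P.InA_conj hy5z hy5s hkA).1 hkA.1, P.alpha_conj hy5z hy5s hkA] at e2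
    show res (h.ρ y5) (alpha h k) + alpha h k = u
    rw [e2, alpha, h.π_mul _ (h.norm x hxz r hr) _ (inv_mem hr), h.ρ_π x hxz r hr, h.π_inv hr, hπr,
      hx, h.ρ_mul _ _ (P.zc X.hq) X.hb.2, h.ρ_Q X.hq.1, one_mul, P.rho_B X.hb, Prod.snd_add, E_f0,
      ← hu]
    simp [f0]
  have hNN : ∀ p, N (N p) = 0 := fun p => by
    simp only [hN, res_add, hconjy]
    rw [add_comm p, U6_add_self]
  have hsym : ∀ p p', fU (N p) p' = fU p (N p') := fun p p' => by
    simp only [hN]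
    rw [fU_add_left, fU_add_right, ← res_form (P.rho_fix hy5z hy5s) p (res (h.ρ y5) p'), hconjy]
  set L : U6 →ₗ[ZMod 2] U6 := (AddMonoidHom.mk' N hNadd).toZModLinearMap 2
  have hL : ∀ p, L p = N p := fun p => rfl
  have hNa : N a = 0 := by show _ + _ = 0; rw [hRau.1, U6_add_self]
  set S := LinearMap.range L ⊔ Submodule.span (ZMod 2) {a} with hS
  have hkS : alpha h k ∉ S := by
    intro hmem
    obtain ⟨p, hp, p', hp', hpp⟩ := Submodule.mem_sup.mp hmem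
    obtain ⟨pp, rfl⟩ := hp
    obtain ⟨c, rfl⟩ := Submodule.mem_span_singleton.mp hp'
    apply X.u_ne
    show u = 0
    rw [← hNk, ← hpp, hL, hNadd, hNN, ← hL (c • a), map_smul, hL, hNa, smul_zero, add_zero]
  obtain ⟨f, hf, hfS⟩ := Submodule.exists_dual_map_eq_bot_of_notMem hkS inferInstance
  obtain ⟨α', hα'⟩ := exists_repr (fun p => f p) (fun p p' => map_add f p p')
  have hSz : ∀ p ∈ S, fU α' p = 0 := fun p hp => by
    rw [← hα']
    exact (Submodule.mem_bot (ZMod 2)).mp (hfS ▸ Submodule.mem_map_of_mem hp)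
  have hα1 : fU (alpha h k) α' = 1 := by
    rw [fU_comm, ← hα']
    exact (two_cases' _).resolve_left hf
  have hαN : N α' = 0 := fU_inj _ _ fun p => by
    rw [hsym, fU_zero_left, hSz _ (Submodule.mem_sup_left ⟨p, hL p⟩)]
  have hαa : fU α' a = 0 := hSz a (Submodule.mem_sup_right (Submodule.mem_span_singleton_self a))
  have hαu : fU α' u = 0 := hSz u (Submodule.mem_sup_left ⟨_, (hL _).trans hNk⟩)
  obtain ⟨q, hq, hqa⟩ := P.exists_A' α'
  have hqx : q * x = x * q := by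
    have hθ1 : theta h (1 : G) = 0 := by rw [theta, h.ρ_one]; rfl
    have e := (P.commute_W hq (b := 1) ⟨by simp, by simp⟩ X.hq X.hb).mpr (by
      rw [hqa, hθ1, fU_zero_right, fU_zero_left, ← ha, ← hu, hαa, hαu]; simp)
    rwa [mul_one] at e
  obtain ⟨i, j, hij⟩ := P.eq_mul_tt_A hq (P.InA_conj hy5z hy5s hq) (by
    rw [P.alpha_conj hy5z hy5s hq, hqa]
    exact (eq_of_add_zero_U hαN).symm)
  have hj : j = 1 := by rw [hk q hq i j hij, hqa, hα1]
  subst hj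
  have htQ : n⁻¹ * tt z s i 1 * n ∈ Q := by
    have h2 : y5 * (q * y5⁻¹ * q⁻¹) = tt z s i 1 := by
      calc y5 * (q * y5⁻¹ * q⁻¹) = y5 * q * y5⁻¹ * q⁻¹ := by group
        _ = tt z s i 1 := by rw [hij, P.tt_comm_A hq, mul_inv_cancel_right]
    rw [← h2, show n⁻¹ * (y5 * (q * y5⁻¹ * q⁻¹)) * n =
      q1 * ((n⁻¹ * q * n) * q1⁻¹ * (n⁻¹ * q * n)⁻¹) by rw [← hy5n]; group]
    exact mul_mem hq1.1 (h.norm _ (hcn hqx (P.zc hq)) _ (inv_mem hq1.1))
  obtain ⟨v, hvz, hvQ⟩ : ∃ v, v * z * v⁻¹ = tt z s i 1 ∧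
      (v⁻¹ * (x * z) * v ∈ Q → False) := by
    have hzero : ∀ q' b' : G, InA Q s q' → InB z Q w b' → alpha h q' ≠ 0 →
        w⁻¹ * (q' * b' * z) * w ∈ Q → False := by
      intro q' b' hq' hb' hne hm
      rw [show w⁻¹ * (q' * b' * z) * w = (w⁻¹ * q' * w) * ((w⁻¹ * b' * w) * (w⁻¹ * z * w)) by group,
        P.w_z] at hm
      have hm' := mul_mem hm (inv_mem (mul_mem hb'.1 P.hs))
      rw [mul_inv_cancel_right] at hm'
      obtain ⟨i', j', he⟩ := P.inter hq'.1 hm'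
      exact hne (by rw [he, P.alpha_tt])
    rcases two_cases' i with rfl | rfl
    · exact ⟨w, by rw [P.hw1]; simp [tt, zp_zero, zp_one], hzero q0 b0 X.hq X.hb X.a_ne⟩
    · refine ⟨r * w, ?_, fun hm => ?_⟩
      · rw [show r * w * z * (r * w)⁻¹ = r * (w * z * w⁻¹) * r⁻¹ by group, P.hw1, hrs, P.sz]
        simp [tt, zp_one]
      · obtain ⟨q', hq', hqα, he⟩ := P.flip_W hr hπr hrs X.hq X.hb
        have hri : r⁻¹ = r := inv_eq_of_mul_eq_one_right (P.flip_inv hr hπr)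
        refine hzero q' b0 hq' X.hb ?_ ?_
        · rw [hqα, ← ha, ← hu]
          exact fun e' => X.au_ne (eq_of_add_zero_U e')
        · have hzr : r * z * r⁻¹ = z := mul_inv_eq_iff_eq_mul.mpr (h.le r hr)
          rwa [← he, ← hx, show w⁻¹ * (r * x * r⁻¹ * z) * w = w⁻¹ * (r * x * r⁻¹ * (r * z * r⁻¹)) * w
            by rw [hzr], conj_mul, show w⁻¹ * (r * (x * z) * r⁻¹) * w =
              (r * w)⁻¹ * (x * z) * (r * w) by
                rw [show (r * w)⁻¹ = w⁻¹ * r by rw [mul_inv_rev, hri], hri]; group]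
  have hne : n⁻¹ * v * z * (n⁻¹ * v)⁻¹ ≠ z := by
    intro e
    apply hxQ
    have e' : tt z s i 1 = x * z := by
      rw [← hvz, ← hnz]
      calc v * z * v⁻¹ = n * (n⁻¹ * v * z * (n⁻¹ * v)⁻¹) * n⁻¹ := by group
        _ = n * z * n⁻¹ := by rw [e]
    have := mul_mem (e' ▸ P.tt_Q i 1) h.hzQ
    rwa [mul_assoc, h.zz, mul_one] at this
  have hsymm := P.symm_mem (g := n⁻¹ * v) (by
    rw [show n⁻¹ * v * z * (n⁻¹ * v)⁻¹ = n⁻¹ * (v * z * v⁻¹) * n by group, hvz]; exact htQ) hne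
  rw [show (n⁻¹ * v)⁻¹ * z * (n⁻¹ * v) = v⁻¹ * (n * z * n⁻¹) * v by group, hnz] at hsymm
  exact hvQ hsymm

/-- Conjugate standard involutions are conjugate in the centraliser of `z`. -/
theorem conj_in_cent {q1 b1 : G} (Y : Std h s w q1 b1) (hconj : IsConj (q0 * b0) (q1 * b1)) :
    ∃ c, c * z = z * c ∧ c * (q0 * b0) * c⁻¹ = q1 * b1 := by
  haveI : Fact (Nat.Prime 2) := ⟨Nat.prime_two⟩
  obtain ⟨T, y, hT, hTc, hTD, hyT, hys, hTmax⟩ := P.exists_big X
  obtain ⟨T', y', hT', hTc', hTD', hyT', hys', -⟩ := P.exists_big Y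
  set x := q0 * b0 with hx
  set x' := q1 * b1 with hx'
  have huniq : ∀ {q b : G} (Z : Std h s w q b) {U : Subgroup G} {y e : G},
      (∀ g, InW z Q s w g → g * (q * b) = q * b * g → g ∈ U) → y ∈ U →
      (∀ g ∈ U, g * z = z * g ∧ g * (q * b) = q * b * g) → y * s * y⁻¹ = s * z →
      (∀ g ∈ U, g * e = e * g) → IsConj e z → e = z := by
    intro q b Z U y e hD hy hU hys he hez
    have hzU : z ∈ U := hD z ⟨z, 1, ⟨h.hzQ, P.sz.symm⟩, ⟨by simp, by simp⟩, (mul_one z).symm⟩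
      (P.x_comm Z).1.symm
    rcases P.center_cases Z (he z hzU).symm (fun g hg hgx => (he g (hD g hg hgx)).symm)
      (hU y hy).1 hys (hU y hy).2 (he y hy) with r | r | r | r
    · obtain ⟨c, hc⟩ := isConj_iff.mp hez
      rw [r, mul_one, mul_inv_cancel] at hc
      exact absurd hc.symm h.z_ne
    · exact r
    · exact absurd (r ▸ hez) (P.not_conj_z Z)
    · have hq : q * z * b = q * b * z := by rw [mul_assoc q z, ← Z.hb.2, mul_assoc]
      exact absurd (hq ▸ r ▸ hez) (P.not_conj_z (P.std_mul_z Z))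
  -- `T` is maximal in the centraliser of `x`
  have hmax : ∀ R : Subgroup G, IsPGroup 2 R → T ≤ R →
      R ≤ Subgroup.centralizer ({x} : Set G) → R = T := by
    intro R hR hTR hRC
    by_contra hne
    obtain ⟨n, hnR, hnT, hn⟩ := exists_grow hR hTR hne
    have hnx : n * x = x * n := Subgroup.mem_centralizer_singleton_iff.mp (hRC hnR)
    have hz : n * z * n⁻¹ = z := by
      refine huniq X hTD hyT hTc hys (fun t ht => ?_) (isConj_iff.mpr ⟨n⁻¹, by group⟩)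
      have h1 : n⁻¹ * t * n ∈ T :=
        (hn _).mpr (by rwa [show n * (n⁻¹ * t * n) * n⁻¹ = t by group])
      calc t * (n * z * n⁻¹) = n * (n⁻¹ * t * n * z) * n⁻¹ := by group
        _ = n * z * n⁻¹ * t := by rw [(hTc _ h1).1]; group
    have hsup := hTmax (T ⊔ Subgroup.zpowers n)
      (IsPGroup.to_sup_of_normal_left' hT (hR.to_le (Subgroup.zpowers_le.mpr hnR))
        (Subgroup.zpowers_le.mpr (Subgroup.mem_normalizer_iff.mpr hn))) le_sup_left fun t ht => by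
      have hle : T ⊔ Subgroup.zpowers n ≤
          Subgroup.centralizer ({z} : Set G) ⊓ Subgroup.centralizer ({x} : Set G) :=
        sup_le (fun t ht => Subgroup.mem_inf.mpr
          ⟨Subgroup.mem_centralizer_singleton_iff.mpr (hTc t ht).1,
            Subgroup.mem_centralizer_singleton_iff.mpr (hTc t ht).2⟩)
          (Subgroup.zpowers_le.mpr (Subgroup.mem_inf.mpr
            ⟨Subgroup.mem_centralizer_singleton_iff.mpr (mul_inv_eq_iff_eq_mul.mp hz),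
              Subgroup.mem_centralizer_singleton_iff.mpr hnx⟩))
      have := hle ht
      simpa only [Subgroup.mem_inf, Subgroup.mem_centralizer_singleton_iff] using this
    exact hnT (hsup ▸ Subgroup.mem_sup_right (Subgroup.mem_zpowers n))
  obtain ⟨g, hg⟩ := isConj_iff.mp hconj
  set S := T'.map (MulAut.conj g⁻¹).toMonoidHom with hS
  have hSC : S ≤ Subgroup.centralizer ({x} : Set G) := by
    rintro - ⟨t, ht, rfl⟩
    refine Subgroup.mem_centralizer_singleton_iff.mpr ?_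
    show g⁻¹ * t * g⁻¹⁻¹ * x = x * (g⁻¹ * t * g⁻¹⁻¹)
    have h1 := (hTc' t ht).2
    rw [← hg] at h1
    calc g⁻¹ * t * g⁻¹⁻¹ * x = g⁻¹ * (t * (g * x * g⁻¹)) * g := by group
      _ = x * (g⁻¹ * t * g⁻¹⁻¹) := by rw [h1]; group
  obtain ⟨c, hc, hcT⟩ := exists_conj_max (fun t ht => Subgroup.mem_centralizer_singleton_iff.mpr
    (hTc t ht).2) hT hmax hSC (hT'.map _)
  have hcx : c * x = x * c := Subgroup.mem_centralizer_singleton_iff.mp hc
  have hz' : g * c⁻¹ * z * (g * c⁻¹)⁻¹ = z := by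
    refine huniq Y hTD' hyT' hTc' hys' (fun t ht => ?_)
      (isConj_iff.mpr ⟨(g * c⁻¹)⁻¹, by group⟩)
    have h1 := (hTc _ (hcT (g⁻¹ * t * g⁻¹⁻¹) ⟨t, ht, rfl⟩)).1
    calc t * (g * c⁻¹ * z * (g * c⁻¹)⁻¹) =
          g * c⁻¹ * (c * (g⁻¹ * t * g⁻¹⁻¹) * c⁻¹ * z) * (g * c⁻¹)⁻¹ := by group
      _ = g * c⁻¹ * z * (g * c⁻¹)⁻¹ * t := by rw [h1]; group
  refine ⟨g * c⁻¹, mul_inv_eq_iff_eq_mul.mp hz', ?_⟩
  calc g * c⁻¹ * x * (g * c⁻¹)⁻¹ = g * (c⁻¹ * (x * c)) * g⁻¹ := by group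
    _ = g * x * g⁻¹ := by rw [← hcx]; group
    _ = x' := hg

end Pair

end Cfsg.Agent.H73.Conway
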