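import Cfsg.Agent.H73.Conway.UFacts

/-!
The root involution of the six-dimensional hyperbolic space with range spanned by `e1` and `e2`.
-/

set_option autoImplicit false
set_option maxRecDepth 100000
set_option synthInstance.maxSize 4000
set_option synthInstance.maxHeartbeats 400000

namespace Cfsg.Agent.H73.Conway

/-- The root involution minus one. -/
def sigN (a : U6) : U6 := fU e2 a • e1 + fU e1 a • e2

/-- The residual coordinates. -/
def cl (a : U6) : ZMod 2 × ZMod 2 := a.2.2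

/-- The lift of residual coordinates. -/
def emP (p : ZMod 2 × ZMod 2) : U6 := ((0, 0), (0, 0), p)

/-- The residual form. -/
def qP (p : ZMod 2 × ZMod 2) : ZMod 2 := p.1 * p.2

/-- The residual polar form. -/
def fP (p r : ZMod 2 × ZMod 2) : ZMod 2 := p.1 * r.2 + r.1 * p.2

/-- The fixed space of the root involution. -/
def InF (a : U6) : Prop := fU e1 a = 0 ∧ fU e2 a = 0

theorem fU_e1 (a : U6) : fU e1 a = a.1.2 := by simp [fU, e1]

theorem fU_e2 (a : U6) : fU e2 a = a.2.1.2 := by simp [fU, e2]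

theorem InF.add {a b : U6} (ha : InF a) (hb : InF b) : InF (a + b) :=
  ⟨by rw [fU_add_right, ha.1, hb.1, add_zero], by rw [fU_add_right, ha.2, hb.2, add_zero]⟩

theorem InF.zero : InF 0 := ⟨fU_zero_right _, fU_zero_right _⟩

theorem InF.emP (p : ZMod 2 × ZMod 2) : InF (emP p) := by
  constructor <;> simp [fU, e1, e2, Conway.emP]

theorem InF.e1 : InF e1 := by constructor <;> decide

theorem InF.e2 : InF e2 := by constructor <;> decide

theorem cl_add (a b : U6) : cl (a + b) = cl a + cl b := rfl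

theorem cl_emP (p : ZMod 2 × ZMod 2) : cl (emP p) = p := rfl

theorem InF.decomp {a : U6} (ha : InF a) :
    a = a.1.1 • Conway.e1 + a.2.1.1 • Conway.e2 + Conway.emP (cl a) := by
  obtain ⟨h1, h2⟩ := ha
  rw [fU_e1] at h1
  rw [fU_e2] at h2
  obtain ⟨⟨x1, y1⟩, ⟨x2, y2⟩, x3, y3⟩ := a
  simp only at h1 h2
  subst h1 h2
  simp [Conway.e1, Conway.e2, Conway.emP, cl]

theorem InF.fU_eq {a b : U6} (ha : InF a) (hb : InF b) : fU a b = fP (cl a) (cl b) := by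
  obtain ⟨h1, h2⟩ := ha
  obtain ⟨h3, h4⟩ := hb
  rw [fU_e1] at h1 h3
  rw [fU_e2] at h2 h4
  simp [fU, fP, cl, h1, h2, h3, h4]

theorem InF.qU_eq {a : U6} (ha : InF a) : qU a = qP (cl a) := by
  obtain ⟨h1, h2⟩ := ha
  rw [fU_e1] at h1
  rw [fU_e2] at h2
  simp [qU, qP, cl, h1, h2]

theorem sigN_eq_zero {a : U6} : sigN a = 0 ↔ InF a := by
  refine ⟨fun h => ?_, fun h => by rw [sigN, h.1, h.2]; simp⟩
  have h1 := congrArg (fun u : U6 => u.1.1) h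
  have h2 := congrArg (fun u : U6 => u.2.1.1) h
  simp [sigN, Conway.e1, Conway.e2] at h1 h2
  exact ⟨h2, h1⟩

theorem fP_inj : ∀ p r : ZMod 2 × ZMod 2, (∀ x, fP p x = fP r x) → p = r := by decide

theorem triple : ∀ m p r : ZMod 2 × ZMod 2, qP p = fP m p → qP r = fP m r → p ≠ 0 → r ≠ 0 →
    p ≠ r → qP (m + p + r) = 1 := by decide

/-- The basis values forced on a self-adjoint square-zero map with range containing `e1` and `e2`. -/
theorem root_aux : ∀ k α₁ β₁ α₂ β₂ : ZMod 2, ∀ i₁ i₂ i₃ i₄ j₁ j₂ j₃ j₄ : ZMod 2,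
    α₁ * β₁ = 0 → α₂ * β₂ = 0 → α₁ * β₂ + α₂ * β₁ = 0 →
    i₁ • (((0, 0), (k, 0), α₁, β₁) : U6) + i₂ • ((k, 0), (0, 0), α₂, β₂) +
        i₃ • ((β₁, 0), (β₂, 0), 0, 0) + i₄ • ((α₁, 0), (α₂, 0), 0, 0) = e1 →
    j₁ • (((0, 0), (k, 0), α₁, β₁) : U6) + j₂ • ((k, 0), (0, 0), α₂, β₂) +
        j₃ • ((β₁, 0), (β₂, 0), 0, 0) + j₄ • ((α₁, 0), (α₂, 0), 0, 0) = e2 →
    k = 1 ∧ α₁ = 0 ∧ β₁ = 0 ∧ α₂ = 0 ∧ β₂ = 0 := by decide +kernel

/-- A self-adjoint square-zero map with totally singular range containing `e1` and `e2` is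
`sigN`. -/
theorem root_unique (N : U6 → U6) (hadd : ∀ a b, N (a + b) = N a + N b)
    (hsym : ∀ a b, fU (N a) b = fU a (N b)) (halt : ∀ a, fU a (N a) = 0)
    (hNN : ∀ a, N (N a) = 0) (hts : ∀ a b, fU (N a) (N b) = 0) (hq : ∀ a, qU (N a) = 0)
    (h1 : ∃ a, N a = e1) (h2 : ∃ a, N a = e2) : ∀ a, N a = sigN a := by
  obtain ⟨a1, ha1⟩ := h1
  obtain ⟨a2, ha2⟩ := h2
  set A := N ((0, 1), (0, 0), 0, 0) with hA
  set B := N ((0, 0), (0, 1), 0, 0) with hB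
  set C := N ((0, 0), (0, 0), 1, 0) with hC
  set D := N ((0, 0), (0, 0), 0, 1) with hD
  have hz : N 0 = 0 := by
    have := hadd 0 0
    rw [add_zero] at this
    exact left_eq_add.mp this
  have hsm : ∀ (c : ZMod 2) (a : U6), N (c • a) = c • N a := fun c a => by
    rcases two_cases' c with rfl | rfl <;> simp [hz]
  have hN1 : N e1 = 0 := ha1 ▸ hNN a1
  have hN2 : N e2 = 0 := ha2 ▸ hNN a2
  have hexp : ∀ a : U6, N a = a.1.2 • A + a.2.1.2 • B + a.2.2.1 • C + a.2.2.2 • D := fun a => by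
    conv_lhs => rw [basis_expand a]
    rw [hadd, hadd, hadd, hadd, hadd, hsm, hsm, hsm, hsm, hsm, hsm,
      show N ((1, 0), (0, 0), 0, 0) = 0 from hN1, show N ((0, 0), (1, 0), 0, 0) = 0 from hN2]
    simp [hA, hB, hC, hD]
  have hperp : ∀ a, (N a).1.2 = 0 ∧ (N a).2.1.2 = 0 := fun a => by
    rw [← fU_e1, ← fU_e2, ← ha1, ← ha2]
    exact ⟨hts _ _, hts _ _⟩
  obtain ⟨A11, A12⟩ := hperp ((0, 1), (0, 0), 0, 0)
  obtain ⟨B11, B12⟩ := hperp ((0, 0), (0, 1), 0, 0)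
  obtain ⟨C11, C12⟩ := hperp ((0, 0), (0, 0), 1, 0)
  obtain ⟨D11, D12⟩ := hperp ((0, 0), (0, 0), 0, 1)
  rw [← hA] at A11 A12
  rw [← hB] at B11 B12
  rw [← hC] at C11 C12
  rw [← hD] at D11 D12
  have dA := halt ((0, 1), (0, 0), 0, 0)
  have dB := halt ((0, 0), (0, 1), 0, 0)
  have dC := halt ((0, 0), (0, 0), 1, 0)
  have dD := halt ((0, 0), (0, 0), 0, 1)
  have sAB := hsym ((0, 1), (0, 0), 0, 0) ((0, 0), (0, 1), 0, 0)
  have sAC := hsym ((0, 1), (0, 0), 0, 0) ((0, 0), (0, 0), 1, 0)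
  have sAD := hsym ((0, 1), (0, 0), 0, 0) ((0, 0), (0, 0), 0, 1)
  have sBC := hsym ((0, 0), (0, 1), 0, 0) ((0, 0), (0, 0), 1, 0)
  have sBD := hsym ((0, 0), (0, 1), 0, 0) ((0, 0), (0, 0), 0, 1)
  have sCD := hsym ((0, 0), (0, 0), 1, 0) ((0, 0), (0, 0), 0, 1)
  rw [← hA, ← hB] at sAB
  rw [← hA, ← hC] at sAC
  rw [← hA, ← hD] at sAD
  rw [← hB, ← hC] at sBC
  rw [← hB, ← hD] at sBD
  rw [← hC, ← hD] at sCD
  rw [← hA] at dA
  rw [← hB] at dB
  rw [← hC] at dC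
  rw [← hD] at dD
  simp [fU] at dA dB dC dD sAB sAC sAD sBC sBD sCD
  have qA := hq ((0, 1), (0, 0), 0, 0)
  have qB := hq ((0, 0), (0, 1), 0, 0)
  have fAB := hts ((0, 1), (0, 0), 0, 0) ((0, 0), (0, 1), 0, 0)
  have nC := hNN ((0, 0), (0, 0), 1, 0)
  rw [← hA] at qA fAB
  rw [← hB] at qB fAB
  rw [← hC, hexp, C11, C12, dC] at nC
  simp [qU, A11, A12] at qA
  simp [qU, B11, B12] at qB
  simp [fU, A11, A12, B11, B12] at fAB
  simp at nC
  have hc : C.2.2.1 = 0 := by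
    rcases nC with e | e
    · exact e
    · rw [e]; rfl
  have hCv : C = ((A.2.2.2, 0), (B.2.2.2, 0), 0, 0) := by
    refine Prod.ext (Prod.ext ?_ C11) (Prod.ext (Prod.ext ?_ C12) (Prod.ext hc dC))
    · exact sAC.symm
    · exact sBC.symm
  have hDv : D = ((A.2.2.1, 0), (B.2.2.1, 0), 0, 0) := by
    refine Prod.ext (Prod.ext ?_ D11) (Prod.ext (Prod.ext ?_ D12) (Prod.ext dD ?_))
    · exact sAD.symm
    · exact sBD.symm
    · exact sCD.symm.trans hc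
  have hAv : A = ((0, 0), (A.2.1.1, 0), A.2.2.1, A.2.2.2) := by
    refine Prod.ext (Prod.ext dA A11) (Prod.ext (Prod.ext rfl A12) rfl)
  have hBv : B = ((A.2.1.1, 0), (0, 0), B.2.2.1, B.2.2.2) := by
    refine Prod.ext (Prod.ext sAB.symm B11) (Prod.ext (Prod.ext dB B12) rfl)
  have e1' := (hexp a1).symm.trans ha1
  have e2' := (hexp a2).symm.trans ha2
  rw [hAv, hBv, hCv, hDv] at e1' e2'
  obtain ⟨hk, h3, h4, h5, h6⟩ := root_aux _ _ _ _ _ _ _ _ _ _ _ _ _ (mul_eq_zero.mpr qA) (mul_eq_zero.mpr qB) fAB e1' e2'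
  intro a
  rw [hexp, hAv, hBv, hCv, hDv, hk, h3, h4, h5, h6, sigN, fU_e1, fU_e2]
  simp [Conway.e1, Conway.e2]

end Cfsg.Agent.H73.Conway
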