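import Cfsg.Agent.H73.Conway.Classes
import Cfsg.Agent.H73.Conway.Root

/-!
An involution of the centraliser of rank four is conjugate to one of rank two.
-/

set_option autoImplicit false
set_option linter.unusedSectionVars false
set_option linter.unusedVariables false

namespace Cfsg.Agent.H73.Conway

open QuadraticMap Cfsg.Agent.Orthogonal Cfsg.Agent.H92.ExtraForm Module

variable {G : Type*} [Group G] [Finite G] {z : G} {Q : Subgroup G}

/-- The rank of an element of the centraliser on the quadratic space. -/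
noncomputable def rk (h : Setup z Q) (x : G) : ℕ :=
  finrank (ZMod 2) (perp phi (fixSpace (h.ρ x)))

theorem res_add (k : O phi) (a b : U6) : res k (a + b) = res k a + res k b := by
  rw [res, show emb (a + b) = emb a + emb b by simp [emb], map_add]; rfl

theorem exists_repr2 (g : ZMod 2 × ZMod 2 → ZMod 2) (hg : ∀ p r, g (p + r) = g p + g r) :
    ∃ m, ∀ p, g p = fP m p := by
  refine ⟨(g (0, 1), g (1, 0)), fun p => ?_⟩
  have h0 : g 0 = 0 := by
    have := hg 0 0
    rw [add_zero] at this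
    exact left_eq_add.mp this
  obtain ⟨a, b⟩ := p
  rcases two_cases' a with rfl | rfl <;> rcases two_cases' b with rfl | rfl
  · simp [fP, show ((0, 0) : ZMod 2 × ZMod 2) = 0 from rfl, h0]
  · simp [fP]
  · simp [fP]
  · rw [show ((1, 1) : ZMod 2 × ZMod 2) = (1, 0) + (0, 1) by decide, hg]
    simp [fP, add_comm]

theorem eq_of_rho {h : Setup z Q} {y : G} (e : h.ρ y = 1) (a : U6) : res (h.ρ y) a = a := by
  rw [e]; rfl

namespace Pair

variable {h : Setup z Q} {s w : G} (P : Pair h s w)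
include P

/-- The commutator of `B`. -/
theorem comm_BB {b b' : G} (hb : InB z Q w b) (hb' : InB z Q w b') :
    b' * b = b * b' * tt z s 0 (fU (theta h b) (theta h b')) := by
  have hA := P.InA_of_B hb
  have hA' := P.InA_of_B hb'
  have e := P.comm_AA hA hA'
  have e2 : b' * b = b * b' * tt z s 0 (fU (alpha h (w⁻¹ * b * w)) (alpha h (w⁻¹ * b' * w))) := by
    rw [← P.w_tt]
    calc b' * b = w * ((w⁻¹ * b' * w) * (w⁻¹ * b * w)) * w⁻¹ := by group
      _ = _ := by rw [e]; group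
  generalize fU (alpha h (w⁻¹ * b * w)) (alpha h (w⁻¹ * b' * w)) = j at e2
  have e3 : tt z s 0 (qU (theta h (b * b'))) =
      tt z s 0 (qU (theta h b) + qU (theta h b') + j) := by
    rw [← P.sq_B (P.InB_mul hb hb')]
    calc b * b' * (b * b') = b * (b' * b) * b' := by group
      _ = b * b * (b' * (tt z s 0 j * b')) := by rw [e2]; group
      _ = (b * b) * (b' * b') * tt z s 0 j := by rw [← P.tt_comm_B hb' 0 j]; group
      _ = _ := by rw [P.sq_B hb, P.sq_B hb', P.tt_mul, P.tt_mul]; simp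
  rw [e2]
  congr 2
  have e4 := (P.tt_inj e3).2
  rw [P.theta_mul hb hb', qU_add] at e4
  exact (add_left_cancel e4).symm

theorem kappa_form {b b' : G} (hb : InB z Q w b) (hb' : InB z Q w b') :
    fU (alpha h (w⁻¹ * b * w)) (alpha h (w⁻¹ * b' * w)) = fU (theta h b) (theta h b') := by
  have e1 := P.comm_AA (P.InA_of_B hb) (P.InA_of_B hb')
  have e2 := P.comm_BB hb hb'
  have e3 : b * b' * tt z s 0 (fU (alpha h (w⁻¹ * b * w)) (alpha h (w⁻¹ * b' * w))) = b' * b := by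
    rw [← P.w_tt]
    calc _ = w * ((w⁻¹ * b * w) * (w⁻¹ * b' * w) *
        tt z s (fU (alpha h (w⁻¹ * b * w)) (alpha h (w⁻¹ * b' * w))) 0) * w⁻¹ := by group
      _ = b' * b := by rw [← e1]; group
  rw [e2] at e3
  exact (P.tt_inj (mul_left_cancel e3)).2

theorem theta_inv {b : G} (hb : InB z Q w b) : theta h b⁻¹ = theta h b := by
  have e := P.theta_mul (P.InB_inv hb) hb
  rw [inv_mul_cancel] at e
  have h1 : theta h (1 : G) = 0 := by rw [theta, h.ρ_one]; rfl
  rw [h1] at e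
  calc theta h b⁻¹ = theta h b⁻¹ + (theta h b + theta h b) := by rw [U6_add_self, add_zero]
    _ = theta h b := by rw [← add_assoc, ← e, zero_add]

theorem tt_fix {x : G} (hxz : x * z = z * x) (hxs : x * s = s * x) (i j : ZMod 2) :
    x * tt z s i j * x⁻¹ = tt z s i j := by
  have hcm : Commute x (tt z s i j) := by
    refine (show Commute x (zp z _) from ?_).mul_right (show Commute x (zp s _) from ?_) <;>
      unfold zp <;> split_ifs
    exacts [Commute.one_right _, hxz, Commute.one_right _, hxs]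
  rw [hcm.eq, mul_inv_cancel_right]

theorem conj_tt_mul {x a b : G} {i j i' j' : ZMod 2} (ha : x * a * x⁻¹ = a * tt z s i j)
    (hb : x * b * x⁻¹ = b * tt z s i' j') (hcm : tt z s i j * b = b * tt z s i j) :
    x * (a * b) * x⁻¹ = a * b * tt z s (i + i') (j + j') := by
  rw [← conj_mul, ha, hb, ← P.tt_mul, mul_assoc a, ← mul_assoc (tt z s i j) b, hcm]
  group

/-- The coefficients of an element of `C(z) ∩ C(s)` on the fixed residues of `A` or `B`. -/
theorem coef_exists {x : G} (hxz : x * z = z * x) (hxs : x * s = s * x)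
    (hres : ∀ a, res (h.ρ x) a = a + sigN a) {S : G → Prop} {τ : G → U6}
    (hmul : ∀ a b, S a → S b → S (a * b)) (hinv : ∀ a, S a → S a⁻¹)
    (hτ : ∀ a b, S a → S b → τ (a * b) = τ a + τ b)
    (hlift : ∀ u, ∃ a, S a ∧ τ a = u)
    (heq : ∀ a b, S a → S b → τ a = τ b → ∃ i j, b = a * tt z s i j)
    (hconj : ∀ a, S a → S (x * a * x⁻¹) ∧ τ (x * a * x⁻¹) = res (h.ρ x) (τ a))
    (hsq : ∀ a, S a → qU (τ a) = 0 → a * a = 1)
    (hcomm : ∀ a, S a → ∀ i j, tt z s i j * a = a * tt z s i j) (hx2 : x * x = 1) :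
    ∃ m p : ZMod 2 × ZMod 2, ∀ a, S a → InF (τ a) →
      x * a * x⁻¹ = a * tt z s (fP m (cl (τ a))) (fP p (cl (τ a))) := by
  classical
  have hinvτ : ∀ a, S a → τ a⁻¹ = τ a := fun a ha => by
    have h1 : τ (a * a⁻¹) + τ (a * a⁻¹) = τ (a * a⁻¹) := by
      rw [← hτ _ _ (hmul _ _ ha (hinv _ ha)) (hmul _ _ ha (hinv _ ha)), mul_inv_cancel, one_mul]
    rw [U6_add_self, hτ _ _ ha (hinv _ ha)] at h1
    calc τ a⁻¹ = τ a + τ a + τ a⁻¹ := by rw [U6_add_self, zero_add]
      _ = τ a := by rw [add_assoc, ← h1, add_zero]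
  have hzero : ∀ u, qU (sigN u) = 0 → ∃ a, S a ∧ τ a = sigN u ∧ x * a * x⁻¹ = a := by
    intro u hu
    obtain ⟨a, ha, rfl⟩ := hlift u
    set k := x * a * x⁻¹ * a⁻¹ with hk
    have hkS : S k := hmul _ _ (hconj a ha).1 (hinv _ ha)
    have hkτ : τ k = sigN (τ a) := by
      rw [hk, hτ _ _ (hconj a ha).1 (hinv _ ha), (hconj a ha).2, hinvτ a ha, hres,
        add_comm (τ a), add_assoc, U6_add_self, add_zero]
    refine ⟨k, hkS, hkτ, ?_⟩
    have hkk := hsq k hkS (by rw [hkτ, hu])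
    have hxinv : x⁻¹ = x := inv_eq_of_mul_eq_one_right hx2
    calc x * k * x⁻¹ = (x * x) * a * (x * x)⁻¹ * (x * a * x⁻¹)⁻¹ := by rw [hk]; group
      _ = k⁻¹ := by rw [hx2, hk]; group
      _ = k := inv_eq_of_mul_eq_one_right hkk
  obtain ⟨k1, hk1, hk1τ, hk1x⟩ := hzero ((0, 0), (0, 1), 0, 0) (by decide)
  obtain ⟨k2, hk2, hk2τ, hk2x⟩ := hzero ((0, 1), (0, 0), 0, 0) (by decide)
  rw [show sigN ((0, 0), (0, 1), 0, 0) = e1 by decide] at hk1τ
  rw [show sigN ((0, 1), (0, 0), 0, 0) = e2 by decide] at hk2τ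
  have hfix : ∀ a, S a → InF (τ a) → ∃ i j, x * a * x⁻¹ = a * tt z s i j := fun a ha hF => by
    refine heq a _ ha (hconj a ha).1 ?_
    rw [(hconj a ha).2, hres, sigN_eq_zero.mpr hF, add_zero]
  choose f hf hfτ using fun p => hlift (emP p)
  choose i j hij using fun p => hfix (f p) (hf p) (by rw [hfτ]; exact InF.emP p)
  have hR : ∀ c1 c2 : ZMod 2, ∃ a, S a ∧ τ a = c1 • e1 + c2 • e2 ∧
      x * a * x⁻¹ = a * tt z s 0 0 := by
    have h00 : tt z s 0 0 = 1 := by simp [tt, zp]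
    intro c1 c2
    rw [h00]
    simp only [mul_one]
    rcases two_cases' c1 with rfl | rfl <;> rcases two_cases' c2 with rfl | rfl
    · exact ⟨k1 * k1, hmul _ _ hk1 hk1, by simp [hτ _ _ hk1 hk1, U6_add_self],
        by rw [← conj_mul, hk1x]⟩
    · exact ⟨k2, hk2, by simp [hk2τ], hk2x⟩
    · exact ⟨k1, hk1, by simp [hk1τ], hk1x⟩
    · exact ⟨k1 * k2, hmul _ _ hk1 hk2, by simp [hτ _ _ hk1 hk2, hk1τ, hk2τ],
        by rw [← conj_mul, hk1x, hk2x]⟩
  have general : ∀ a, S a → InF (τ a) →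
      x * a * x⁻¹ = a * tt z s (i (cl (τ a))) (j (cl (τ a))) := by
    intro a ha hF
    obtain ⟨d, hd, hdτ, hdx⟩ := hR (τ a).1.1 (τ a).2.1.1
    have hb := hmul _ _ hd (hf (cl (τ a)))
    obtain ⟨i', j', he⟩ := heq _ a hb ha (by rw [hτ _ _ hd (hf _), hdτ, hfτ, ← hF.decomp])
    have e1' := P.conj_tt_mul hdx (hij (cl (τ a))) (hcomm _ (hf _) 0 0)
    rw [zero_add, zero_add] at e1'
    generalize cl (τ a) = p at he e1' ⊢
    conv_lhs => rw [he, ← conj_mul, e1', P.tt_fix hxz hxs]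
    conv_rhs => rw [he]
    simp only [mul_assoc, P.tt_mul]
    rw [add_comm (i p), add_comm (j p)]
  have hadd : ∀ p r, i (p + r) = i p + i r ∧ j (p + r) = j p + j r := fun p r => by
    have hpr := hmul _ _ (hf p) (hf r)
    have e := general _ hpr (by rw [hτ _ _ (hf p) (hf r), hfτ, hfτ]; exact (InF.emP p).add (InF.emP r))
    rw [hτ _ _ (hf p) (hf r), hfτ, hfτ, cl_add, cl_emP, cl_emP,
      P.conj_tt_mul (hij p) (hij r) (hcomm _ (hf r) _ _)] at e
    obtain ⟨e1', e2'⟩ := P.tt_inj (mul_left_cancel e)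
    exact ⟨e1'.symm, e2'.symm⟩
  obtain ⟨m, hm⟩ := exists_repr2 i fun p r => (hadd p r).1
  obtain ⟨p, hp⟩ := exists_repr2 j fun p r => (hadd p r).2
  exact ⟨m, p, fun a ha hF => by rw [general a ha hF, hm, hp]⟩

/-- The commutator with a partner measures the commutators with `A`. -/
theorem flip_coef {x r : G} (hxz : x * z = z * x) (hxs : x * s = s * x) (hr : r ∈ Q)
    (hπr : h.π r = f0) (hrs : r * s * r⁻¹ = s * z) :
    InA Q s (x * r * x⁻¹ * r⁻¹) ∧ ∀ q, InA Q s q → ∀ i j, x * q * x⁻¹ = q * tt z s i j →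
      j = fU (alpha h (x * r * x⁻¹ * r⁻¹)) (alpha h q) := by
  set k := x * r * x⁻¹ * r⁻¹ with hk
  have hkQ : k ∈ Q := mul_mem (h.norm x hxz r hr) (inv_mem hr)
  have hkA : InA Q s k := ⟨hkQ, (P.commA hkQ).mpr (by
    rw [hk, h.π_mul _ (h.norm x hxz r hr) _ (inv_mem hr), h.ρ_π x hxz r hr, h.π_inv hr, hπr,
      Prod.fst_add, Prod.snd_add, ← polar_v0, polar_fixed (P.rho_fix hxz hxs), polar_v0]
    decide)⟩
  refine ⟨hkA, ?_⟩
  intro q hq i j hij
  have hrq : r * q * r⁻¹ = q * zp z (polar (⇑phi) (h.π q) f0) := by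
    have e := h.comm q hq.1 r hr
    rw [hπr] at e
    rw [e]
    have hcz : Commute r (zp z (polar (⇑phi) (h.π q) f0)) := by
      unfold zp; split_ifs
      exacts [Commute.one_right _, h.le r hr]
    rw [mul_assoc (q * r), ← hcz.inv_left.eq, mul_assoc q, mul_inv_cancel_left]
  have hrt : r * tt z s i j * r⁻¹ = tt z s (i + j) j := by
    rcases two_cases' i with rfl | rfl <;> rcases two_cases' j with rfl | rfl <;>
      simp only [tt, zp_zero, zp_one, mul_one, one_mul, add_zero, zero_add,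
        show (1 + 1 : ZMod 2) = 0 from rfl]
    · group
    · rw [hrs, h.le s P.hs]
    · rw [h.le r hr, mul_inv_cancel_right]
    · rw [← mul_assoc r z s, h.le r hr, mul_assoc z r s, mul_assoc z, hrs, h.le s P.hs,
        ← mul_assoc, h.zz, one_mul]
  generalize polar (⇑phi) (h.π q) f0 = c at hrq
  have hzc : zp z c = tt z s c 0 := by simp [tt, zp_zero]
  rw [hzc] at hrq
  have hkq := P.comm_AA hq hkA
  have e : x * (r * q * r⁻¹) * x⁻¹ = k * (r * (x * q * x⁻¹) * r⁻¹) * k⁻¹ := by rw [hk]; group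
  have e2 : q * tt z s (i + c) j =
      q * tt z s (fU (alpha h q) (alpha h k) + (c + (i + j))) j := by
    calc q * tt z s (i + c) j = q * tt z s i j * tt z s c 0 := by
          rw [mul_assoc, P.tt_mul, add_zero]
      _ = (x * q * x⁻¹) * (x * tt z s c 0 * x⁻¹) := by rw [hij, P.tt_fix hxz hxs]
      _ = x * (r * q * r⁻¹) * x⁻¹ := by rw [hrq]; group
      _ = k * ((r * q * r⁻¹) * (r * tt z s i j * r⁻¹)) * k⁻¹ := by rw [e, hij]; group
      _ = k * q * (tt z s (c + (i + j)) j * k⁻¹) := by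
          rw [hrq, hrt, mul_assoc q, P.tt_mul, zero_add]; group
      _ = k * q * (k⁻¹ * tt z s (c + (i + j)) j) := by rw [P.tt_comm_A (P.InA_inv hkA)]
      _ = q * (k * tt z s (fU (alpha h q) (alpha h k)) 0) * k⁻¹ *
            tt z s (c + (i + j)) j := by rw [hkq]; group
      _ = q * tt z s (fU (alpha h q) (alpha h k) + (c + (i + j))) j := by
          rw [P.tt_comm_A hkA, ← mul_assoc q, mul_inv_cancel_right, mul_assoc, P.tt_mul, zero_add]
  have e3 := (P.tt_inj (mul_left_cancel e2)).1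
  rw [fU_comm]
  generalize fU (alpha h q) (alpha h k) = d at e3
  clear hij hrt hrq hzc e2
  revert e3
  revert i j c d
  decide

/-- An element inverted by an involution of `C(z) ∩ C(s)` and measuring its commutators. -/
theorem exists_inverted {x : G} (hxz : x * z = z * x) (hxs : x * s = s * x) (hxx : x * x = 1) :
    ∃ k, InA Q s k ∧ x * k * x⁻¹ = k⁻¹ ∧ res (h.ρ x) (alpha h k) = alpha h k ∧
      ∀ q, InA Q s q → ∀ i j, x * q * x⁻¹ = q * tt z s i j →
        j = fU (alpha h k) (alpha h q) := by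
  obtain ⟨r, hr, hπr, hrs⟩ := h.exists_flip P.hs P.hπ
  obtain ⟨hkA, hk⟩ := P.flip_coef hxz hxs hr hπr hrs
  have hinvx : x * (x * r * x⁻¹ * r⁻¹) * x⁻¹ = (x * r * x⁻¹ * r⁻¹)⁻¹ := by
    calc x * (x * r * x⁻¹ * r⁻¹) * x⁻¹ = (x * x) * r * (x * x)⁻¹ * (x * r * x⁻¹)⁻¹ := by group
      _ = (x * r * x⁻¹ * r⁻¹)⁻¹ := by rw [hxx]; group
  refine ⟨_, hkA, hinvx, ?_, hk⟩
  rw [← P.alpha_conj hxz hxs hkA, hinvx, P.alpha_inv hkA.1]

/-- An element of rank four has a witness in `A`. -/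
theorem rank_four_witness {x : G} (hxz : x * z = z * x) (hxs : x * s = s * x)
    (hρ2 : h.ρ x * h.ρ x = 1) (h4 : rk h x = 4) :
    ∃ q, InA Q s q ∧ res (h.ρ x) (alpha h q) = alpha h q ∧
      ∃ i, x * q * x⁻¹ = q * tt z s i 1 := by
  have hle := perp_fix_le hρ2
  have hsum := phi_nondeg.finrank_add_perp (fixSpace (h.ρ x))
  rw [finrank_V8] at hsum
  unfold rk at h4
  have heq : perp phi (fixSpace (h.ρ x)) = fixSpace (h.ρ x) :=
    Submodule.eq_of_le_of_finrank_eq hle (by omega)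
  have hv : v0 ∈ perp phi (fixSpace (h.ρ x)) := by
    rw [heq, mem_fixSpace]; exact P.rho_fix hxz hxs
  rw [← range_sub_eq_perp_fixSpace phi_nondeg] at hv
  obtain ⟨y, hy⟩ := hv
  have hy' : (h.ρ x : V8 ≃ₗ[ZMod 2] V8) y = y + v0 := by
    rw [← hy]; simp
  have hperp : polar (⇑phi) v0 y = 0 := by
    have e := O.map_app (h.ρ x) y
    rw [hy', map_add_polar, phi_v0, add_zero] at e
    rw [polar_comm]
    exact left_eq_add.mp e.symm
  obtain ⟨q, hq, rfl⟩ := h.π_surj y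
  have hqA : InA Q s q := ⟨hq, (P.commA hq).mpr (by rwa [polar_v0] at hperp)⟩
  have hα : alpha h (x * q * x⁻¹) = alpha h q := by
    rw [alpha, h.ρ_π x hxz q hq, hy', alpha]; simp [v0]
  obtain ⟨i, j, hij⟩ := P.eq_mul_tt_A hqA (P.InA_conj hxz hxs hqA) hα.symm
  refine ⟨q, hqA, by rw [← P.alpha_conj hxz hxs hqA, hα], i, ?_⟩
  have e := congrArg h.π hij
  rw [h.ρ_π x hxz q hq, hy', h.π_mul _ hq _ (P.tt_Q i j), P.π_tt] at e
  have e' := add_left_cancel e
  have hj : j = 1 := by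
    have e'' := congrArg (fun v : V8 => v.1.1) e'
    simpa [v0] using e''.symm
  rw [hij, hj]

/-- Elements acting as a root involution without `v0` in the range. -/
theorem root_like {y : G} (hyz : y * z = z * y) (hys : y * s = s * y)
    (hρ2 : h.ρ y * h.ρ y = 1) (hρ1 : h.ρ y ≠ 1) (h2 : rk h y = 2)
    (hres : ∀ a, res (h.ρ y) a = a + sigN a)
    (hA0 : ∀ q, InA Q s q → InF (alpha h q) → ∃ i, y * q * y⁻¹ = q * tt z s i 0) :
    ∃ a1 : U6,
      (∀ q, InA Q s q → InF (alpha h q) → y * q * y⁻¹ = q * tt z s (fU a1 (alpha h q)) 0) ∧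
      (∀ b, InB z Q w b → InF (theta h b) → ∀ i j, y * b * y⁻¹ = b * tt z s i j →
        j = fU a1 (theta h b)) ∧
      (y * y = 1 → qU a1 = 0) := by
  obtain ⟨k, hk, u, hu, hku⟩ := exists_conj_E hρ2 hρ1 h2
  obtain ⟨c, hc, rfl⟩ := h.ρ_surj k hk
  obtain ⟨b1, hb1, hb1u⟩ := P.exists_B u
  set g := h.ρ y with hg
  set kk := h.ρ c with hkk
  set y1 := c * y * c⁻¹ with hy1
  have hy1z : y1 * z = z * y1 := h.conj_comm hc hyz
  have hρy1 : h.ρ y1 = E u := by rw [hy1, h.ρ_conj hc hyz]; exact hku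
  set q1 := y1 * b1⁻¹ with hq1
  have hq1Q : q1 ∈ Q := (h.ρ_ker _ (h.mul_comm' hy1z (h.inv_comm hb1.2))).mp (by
    rw [h.ρ_mul _ _ hy1z (h.inv_comm hb1.2), h.ρ_inv hb1.2, hρy1, P.rho_B hb1, hb1u,
      mul_inv_cancel])
  have hy1qb : y1 = q1 * b1 := by rw [hq1, inv_mul_cancel_right]
  have happ : ∀ p, (kk : V8 ≃ₗ[ZMod 2] V8) ((g : V8 ≃ₗ[ZMod 2] V8) p) =
      (E u : V8 ≃ₗ[ZMod 2] V8) ((kk : V8 ≃ₗ[ZMod 2] V8) p) := fun p => by
    rw [← hku, ← mul_app, ← mul_app, ← Subgroup.coe_mul, ← Subgroup.coe_mul]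
    congr 2
    group
  -- fixed vectors are sent into the hyperplane orthogonal to `v0` and `emb u`
  have hfixed : ∀ p, (g : V8 ≃ₗ[ZMod 2] V8) p = p →
      ((kk : V8 ≃ₗ[ZMod 2] V8) p).1.2 = 0 ∧ fU u ((kk : V8 ≃ₗ[ZMod 2] V8) p).2 = 0 := by
    intro p hp
    have e := happ p
    rw [hp, E_app] at e
    generalize (kk : V8 ≃ₗ[ZMod 2] V8) p = r at e
    obtain ⟨⟨rc, rd⟩, ru⟩ := r
    simp only [Prod.mk.injEq] at e
    obtain ⟨⟨e1, -⟩, e2⟩ := e
    have hd : rd = 0 := by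
      rcases two_cases' rd with rfl | rfl
      · rfl
      · exfalso
        rw [one_smul] at e2
        exact hu (add_eq_left.mp e2.symm)
    subst hd
    refine ⟨rfl, ?_⟩
    rw [mul_zero, add_zero] at e1
    exact add_eq_left.mp e1.symm
  have hgv : (g : V8 ≃ₗ[ZMod 2] V8) v0 = v0 := P.rho_fix hyz hys
  -- two independent singular vectors of the range
  have hrange : ∀ a : U6, ∃ e : V8, e = (g : V8 ≃ₗ[ZMod 2] V8) (emb a) + emb a ∧
      e.1.2 = 0 ∧ e.2 = sigN a := fun a => by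
    refine ⟨_, rfl, ?_, ?_⟩
    · rw [Prod.fst_add, Prod.snd_add, ← polar_v0, polar_fixed hgv, polar_v0]
      simp [emb]
    · have e := hres a
      rw [res] at e
      rw [Prod.snd_add, e, emb_snd, add_comm a, add_assoc, U6_add_self, add_zero]
  obtain ⟨eA, heA, hA2, hA3⟩ := hrange ((0, 1), (0, 0), 0, 0)
  obtain ⟨eB, heB, hB2, hB3⟩ := hrange ((0, 0), (0, 1), 0, 0)
  rw [show sigN ((0, 1), (0, 0), 0, 0) = e2 by decide] at hA3
  rw [show sigN ((0, 0), (0, 1), 0, 0) = e1 by decide] at hB3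
  have hphA : phi eA = 0 := by rw [phi_apply, hA2, hA3, mul_zero, zero_add]; decide
  have hphB : phi eB = 0 := by rw [phi_apply, hB2, hB3, mul_zero, zero_add]; decide
  have hu0 : qU u = 0 := by
    rcases two_cases' (qU u) with e | e
    · exact e
    exfalso
    have hall : ∀ p, phi ((kk : V8 ≃ₗ[ZMod 2] V8) ((g : V8 ≃ₗ[ZMod 2] V8) p + p)) = 0 →
        (kk : V8 ≃ₗ[ZMod 2] V8) ((g : V8 ≃ₗ[ZMod 2] V8) p + p) = 0 ∨
        (kk : V8 ≃ₗ[ZMod 2] V8) ((g : V8 ≃ₗ[ZMod 2] V8) p + p) = v0 := by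
      intro p hp
      rw [map_add, happ, E_app] at hp ⊢
      generalize (kk : V8 ≃ₗ[ZMod 2] V8) p = r at hp ⊢
      obtain ⟨⟨rc, rd⟩, ru⟩ := r
      rcases two_cases' rd with rfl | rfl
      · simp only [zero_smul, add_zero, mul_zero, Prod.mk_add_mk, U6_add_self] at hp ⊢
        rcases two_cases' (rc + fU u ru + rc) with e' | e' <;> rw [e']
        · exact Or.inl rfl
        · exact Or.inr rfl
      · exfalso
        simp only [one_smul, Prod.mk_add_mk] at hp
        rw [phi_apply, show ru + u + ru = u by rw [add_comm ru u, add_assoc, U6_add_self, add_zero],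
          e, show (1 + 1 : ZMod 2) = 0 from rfl, mul_zero, zero_add] at hp
        exact one_ne_zero hp
    have h0A : eA ≠ 0 := fun e' => by rw [e'] at hA3; exact absurd hA3 (by decide)
    have h0B : eB ≠ 0 := fun e' => by rw [e'] at hB3; exact absurd hB3 (by decide)
    rcases hall (emb ((0, 1), (0, 0), 0, 0)) (by rw [← heA, O.map_app, hphA]) with e' | e'
    · exact h0A (by rw [heA]; exact (LinearEquiv.map_eq_zero_iff _).mp e')
    rcases hall (emb ((0, 0), (0, 1), 0, 0)) (by rw [← heB, O.map_app, hphB]) with e'' | e''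
    · exact h0B (by rw [heB]; exact (LinearEquiv.map_eq_zero_iff _).mp e'')
    rw [← heA] at e'
    rw [← heB] at e''
    have := (kk : V8 ≃ₗ[ZMod 2] V8).injective (e'.trans e''.symm)
    rw [this] at hA3
    exact absurd (hA3.symm.trans hB3) (by decide)
  -- the image of `s`
  set s' := c * s * c⁻¹ with hs'
  have hs'Q : s' ∈ Q := h.norm c hc s P.hs
  have hπs' : h.π s' = (kk : V8 ≃ₗ[ZMod 2] V8) v0 := by rw [hs', h.ρ_π c hc s P.hs, P.hπ]
  have hs'f := hfixed v0 hgv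
  rw [← hπs'] at hs'f
  have hs'A : InA Q s s' := ⟨hs'Q, (P.commA hs'Q).mpr hs'f.1⟩
  have hs'b1 : Commute b1 s' := by
    have e := P.comm_AB hs'A hb1
    rw [hb1u, fU_comm, show fU u (alpha h s') = 0 from hs'f.2] at e
    show b1 * s' = s' * b1
    calc b1 * s' = (s' * b1 * s'⁻¹ * b1⁻¹)⁻¹ * (s' * b1) := by group
      _ = s' * b1 := by rw [e]; simp [tt, zp]
  have hy1s' : Commute y1 s' := by
    show c * y * c⁻¹ * (c * s * c⁻¹) = c * s * c⁻¹ * (c * y * c⁻¹)
    rw [conj_mul, conj_mul, hys]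
  set q0 := c⁻¹ * q1 * c with hq0
  have hq0A : InA Q s q0 := by
    refine ⟨by simpa using h.norm c⁻¹ (h.inv_comm hc) q1 hq1Q, ?_⟩
    have e : Commute q1 s' := by rw [hq1]; exact hy1s'.mul_left hs'b1.inv_left
    calc q0 * s = c⁻¹ * (q1 * s') * c := by rw [hq0, hs']; group
      _ = s * q0 := by rw [e.eq, hq0, hs']; group
  have hq0Q : c * q0 * c⁻¹ = q1 := by rw [hq0]; group
  -- the action on the fixed part of `A`
  have hgA : ∀ q, InA Q s q → InF (alpha h q) → (g : V8 ≃ₗ[ZMod 2] V8) (h.π q) = h.π q := by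
    intro q hq hF
    obtain ⟨i, hi⟩ := hA0 q hq hF
    rw [hg, ← h.ρ_π y hyz q hq.1, hi, h.π_mul _ hq.1 _ (P.tt_Q i 0), P.π_tt, zero_smul, add_zero]
  have hA : ∀ q, InA Q s q → InF (alpha h q) →
      y * q * y⁻¹ = q * tt z s (fU (alpha h q0) (alpha h q)) 0 := by
    intro q hq hF
    set q' := c * q * c⁻¹ with hq'
    have hq'Q : q' ∈ Q := h.norm c hc q hq.1
    have hq'f := hfixed _ (hgA q hq hF)
    rw [hkk, ← h.ρ_π c hc q hq.1, ← hq'] at hq'f
    have hq'A : InA Q s q' := ⟨hq'Q, (P.commA hq'Q).mpr hq'f.1⟩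
    have e := P.comm_AB hq'A hb1
    rw [hb1u, fU_comm, show fU u (alpha h q') = 0 from hq'f.2] at e
    have hcb : b1 * q' * b1⁻¹ = q' := by
      calc b1 * q' * b1⁻¹ = (q' * b1 * q'⁻¹ * b1⁻¹)⁻¹ * q' := by group
        _ = q' := by rw [e]; simp [tt, zp]
    calc y * q * y⁻¹ = c⁻¹ * (q1 * (b1 * q' * b1⁻¹) * q1⁻¹) * c := by
          rw [show y = c⁻¹ * y1 * c by rw [hy1]; group, hy1qb, hq']; group
      _ = q0 * q * q0⁻¹ := by rw [hcb, hq', hq0]; group
      _ = q * tt z s (fU (alpha h q0) (alpha h q)) 0 := by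
          rw [P.comm_AA hq hq0A, fU_comm (alpha h q), mul_assoc q q0, P.tt_comm_A hq0A,
            ← mul_assoc q, mul_inv_cancel_right]
  refine ⟨alpha h q0, hA, ?_, ?_⟩
  · intro b hb hF i j hij
    obtain ⟨q, hq, hqπ⟩ := P.exists_A (theta h b)
    have hqa : alpha h q = theta h b := by rw [alpha, hqπ]; rfl
    set v1 := ((kk⁻¹ : O phi) : V8 ≃ₗ[ZMod 2] V8) v0 with hv1
    obtain ⟨s1, hs1, hπs1⟩ := h.π_surj v1
    have hkv1 : (kk : V8 ≃ₗ[ZMod 2] V8) v1 = v0 := by
      rw [hv1, ← mul_app, ← Subgroup.coe_mul, mul_inv_cancel]; rfl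
    -- `v1` lies in the range of `g`
    obtain ⟨p, hp⟩ : ∃ p, (g : V8 ≃ₗ[ZMod 2] V8) p + p = v1 := by
      obtain ⟨e, he⟩ : ∃ e, fU u e = 1 := by
        obtain ⟨e, he⟩ := pair_values hu (show u + u0 ≠ 0 from fun e' => by
          have : u = u0 := by
            calc u = u + u0 + u0 := by rw [add_assoc, U6_add_self, add_zero]
              _ = u0 := by rw [e', zero_add]
          rw [this] at hu0; exact absurd hu0 (by decide))
          (fun e' => absurd (left_eq_add.mp e') (by decide)) 1 0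
        exact ⟨e, by rw [fU_comm]; exact he.1⟩
      refine ⟨((kk⁻¹ : O phi) : V8 ≃ₗ[ZMod 2] V8) (emb e), ?_⟩
      apply (kk : V8 ≃ₗ[ZMod 2] V8).injective
      rw [map_add, happ, hkv1, ← mul_app (kk : V8 ≃ₗ[ZMod 2] V8), ← Subgroup.coe_mul,
        mul_inv_cancel, show ((1 : O phi) : V8 ≃ₗ[ZMod 2] V8) (emb e) = emb e from rfl, E_app]
      simp [emb, v0, he, U6_add_self]
    have hv1perp : ∀ p', (g : V8 ≃ₗ[ZMod 2] V8) p' = p' → polar (⇑phi) v1 p' = 0 := by
      intro p' hp'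
      rw [← hp, polar_add_left]
      nth_rw 1 [← hp']
      rw [O.polar_app]
      exact CharTwo.add_self_eq_zero _
    have hs1A : InA Q s s1 := ⟨hs1, (P.commA hs1).mpr (by
      rw [hπs1, ← polar_v0, polar_comm]; exact hv1perp v0 hgv)⟩
    have hzero : fU (alpha h s1) (theta h b) = 0 := by
      rw [← hqa]
      have e := hv1perp _ (hgA q hq (hqa ▸ hF))
      rwa [← hπs1, polar_of_perp (P.perpA hs1A) (P.perpA hq)] at e
    have hbs1 : Commute b s1 := by
      have e := P.comm_AB hs1A hb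
      rw [hzero] at e
      show b * s1 = s1 * b
      calc b * s1 = (s1 * b * s1⁻¹ * b⁻¹)⁻¹ * (s1 * b) := by group
        _ = s1 * b := by rw [e]; simp [tt, zp]
    set b' := c * b * c⁻¹ with hb'
    have hb'z : b' * z = z * b' := h.conj_comm hc hb.2
    have hb's : b' * s = s * b' := by
      have hcs1 : c * s1 * c⁻¹ = s ∨ c * s1 * c⁻¹ = s * z := by
        refine h.π_eq P.hs (h.norm c hc s1 hs1) ?_
        rw [h.ρ_π c hc s1 hs1, hπs1, ← hkk, hkv1, P.hπ]
      have e : Commute b' (c * s1 * c⁻¹) := by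
        show c * b * c⁻¹ * (c * s1 * c⁻¹) = c * s1 * c⁻¹ * (c * b * c⁻¹)
        rw [conj_mul, conj_mul, hbs1.eq]
      rcases hcs1 with e' | e' <;> rw [e'] at e
      · exact e.eq
      · have e2 := e.mul_right (show Commute b' z from hb'z)
        rw [mul_assoc, h.zz, mul_one] at e2
        exact e2.eq
    -- the commutator of `b1` and `b'`
    set f0' := fU (alpha h q0) (theta h b) with hf0'
    have hq0b := P.comm_AB hq0A hb
    rw [← hf0'] at hq0b
    have hcomm : b1 * b' * b1⁻¹ * b'⁻¹ = c * tt z s (i + f0') (j + f0') * c⁻¹ := by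
      have e1 : y * b * y⁻¹ * b⁻¹ = tt z s i j := by
        rw [hij, P.tt_comm_B hb, mul_inv_cancel_right]
      have e2 : q1 * (b1 * b' * b1⁻¹ * b'⁻¹) * q1⁻¹ =
          c * (tt z s i j * tt z s f0' f0') * c⁻¹ := by
        have hinv : (q0 * b * q0⁻¹ * b⁻¹)⁻¹ = tt z s f0' f0' := by
          rw [hq0b]
          refine inv_eq_of_mul_eq_one_left ?_
          rw [P.tt_mul, CharTwo.add_self_eq_zero]
          simp [tt, zp]
        calc q1 * (b1 * b' * b1⁻¹ * b'⁻¹) * q1⁻¹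
            = c * ((y * b * y⁻¹ * b⁻¹) * (q0 * b * q0⁻¹ * b⁻¹)⁻¹) * c⁻¹ := by
              rw [show b1 = q1⁻¹ * y1 by rw [hy1qb]; group, hy1, ← hq0Q, hb']; group
          _ = _ := by rw [e1, hinv]
      calc b1 * b' * b1⁻¹ * b'⁻¹ = q1⁻¹ * (q1 * (b1 * b' * b1⁻¹ * b'⁻¹) * q1⁻¹) * q1 := by group
        _ = c * (q0⁻¹ * (tt z s (i + f0') (j + f0') * q0)) * c⁻¹ := by
          rw [e2, P.tt_mul, ← hq0Q]; group
        _ = _ := by rw [← P.tt_comm_A hq0A, inv_mul_cancel_left]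
    have hB : InB z Q w (b1 * b' * b1⁻¹ * b'⁻¹) := by
      rw [show b1 * b' * b1⁻¹ * b'⁻¹ = b1 * (b' * b1⁻¹ * b'⁻¹) by group]
      exact P.InB_mul hb1 (P.InB_conj hb'z hb's (P.InB_inv hb1))
    rw [hcomm] at hB
    obtain ⟨i', j', he⟩ := P.inter (h.norm c hc _ (P.tt_Q _ _)) hB.1
    have hπ := congrArg h.π he
    rw [h.ρ_π c hc _ (P.tt_Q _ _), P.π_tt, P.π_tt, map_smul, ← hkk] at hπ
    have hne : (kk : V8 ≃ₗ[ZMod 2] V8) v0 ≠ v0 := by
      intro e'
      -- otherwise `v0` would be in the range of `g`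
      obtain ⟨q', hq', hπq'⟩ := h.π_surj p
      have hv : v1 = v0 := (kk : V8 ≃ₗ[ZMod 2] V8).injective (hkv1.trans e'.symm)
      rw [hv] at hp
      have hgp : (g : V8 ≃ₗ[ZMod 2] V8) p = p + v0 := by
        calc (g : V8 ≃ₗ[ZMod 2] V8) p = (g : V8 ≃ₗ[ZMod 2] V8) p + p + p := by
              rw [add_assoc, add_self', add_zero]
          _ = p + v0 := by rw [hp, add_comm]
      have hpp : polar (⇑phi) v0 p = 0 := by
        have e2 := O.map_app g p
        rw [hgp, map_add_polar, phi_v0, add_zero] at e2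
        rw [polar_comm]
        exact left_eq_add.mp e2.symm
      have hq'A : InA Q s q' := ⟨hq', (P.commA hq').mpr (by rwa [hπq', ← polar_v0])⟩
      have hF' : InF (alpha h q') := by
        rw [← sigN_eq_zero]
        have e3 : res g (alpha h q') = alpha h q' := by
          rw [hg, ← P.alpha_conj hyz hys hq'A, alpha, h.ρ_π y hyz q' hq', hπq', ← hg, hgp, alpha,
            hπq']
          simp [v0]
        rw [hres] at e3
        exact add_eq_left.mp e3
      have e4 := hgA q' hq'A hF'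
      rw [hπq', hgp] at e4
      exact v0_ne (add_eq_left.mp e4)
    rcases two_cases' (j + f0') with e | e
    · exact CharTwo.add_eq_zero.mp e
    · exfalso
      rw [e, one_smul] at hπ
      rcases two_cases' j' with rfl | rfl
      · rw [zero_smul] at hπ
        exact v0_ne ((LinearEquiv.map_eq_zero_iff _).mp hπ)
      · rw [one_smul] at hπ
        exact hne hπ
  · intro hyy
    have hq1A : InA Q s q1 := by
      refine ⟨hq1Q, (P.commA hq1Q).mpr ?_⟩
      have hbb : b1 * b1 ∈ Q := by rw [P.sq_B hb1]; exact P.tt_Q _ _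
      have hsq : q1 * (b1 * q1 * b1⁻¹) * (b1 * b1) = 1 := by
        calc q1 * (b1 * q1 * b1⁻¹) * (b1 * b1) = y1 * y1 := by rw [hy1qb]; group
          _ = 1 := by rw [hy1, conj_mul, hyy, mul_one, mul_inv_cancel]
      have hπ := congrArg h.π hsq
      rw [h.π_mul _ (mul_mem hq1Q (h.norm b1 hb1.2 q1 hq1Q)) _ hbb,
        h.π_mul _ hq1Q _ (h.norm b1 hb1.2 q1 hq1Q), h.ρ_π b1 hb1.2 q1 hq1Q, P.rho_B hb1, hb1u,
        E_app, P.sq_B hb1, P.π_tt, h.π_one] at hπ
      have h2' := congrArg Prod.snd hπ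
      generalize h.π q1 = r at h2' ⊢
      obtain ⟨⟨rc, rd⟩, ru⟩ := r
      simp only [v0, Prod.smul_mk, Prod.mk_add_mk, smul_zero, add_zero, Prod.snd_zero] at h2'
      rcases two_cases' rd with e | e
      · exact e
      · exfalso
        rw [e, one_smul, ← add_assoc, U6_add_self, zero_add] at h2'
        exact hu h2'
    have e := P.sq_AB hq1A hb1
    rw [← hy1qb, hy1, conj_mul, hyy, mul_one, mul_inv_cancel, hb1u, hu0] at e
    have e' : tt z s 0 0 = tt z s (qU (alpha h q1) + fU (alpha h q1) u) (fU (alpha h q1) u + 0) := by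
      rw [← e]; simp [tt, zp]
    obtain ⟨e1', e2'⟩ := P.tt_inj e'
    rw [add_zero] at e2'
    rw [← e2', add_zero] at e1'
    have hphi : phi (h.π q1) = 0 := by rw [phi_of_perp (P.perpA hq1A)]; exact e1'.symm
    rw [← hq0Q, h.ρ_π c hc q0 hq0A.1, O.map_app, phi_of_perp (P.perpA hq0A)] at hphi
    exact hphi

end Pair

end Cfsg.Agent.H73.Conway
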