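import Cfsg.Agent.H73.Conway.Invol

/-!
Elements of order seven centralise no involution of the commutator subgroup.
-/

set_option autoImplicit false
set_option linter.style.haveILetI false
set_option maxRecDepth 100000
set_option synthInstance.maxSize 4000
set_option synthInstance.maxHeartbeats 400000

namespace Cfsg.Agent.H73.Conway

open QuadraticMap Cfsg.Agent.Orthogonal Module

theorem f7U_add (u w : U6) : f7U (u + w) = f7U u + f7U w := by
  refine Prod.ext (Prod.ext rfl ?_) (Prod.ext (Prod.ext ?_ rfl) (Prod.ext rfl rfl)) <;>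
    simp only [f7U, Prod.fst_add, Prod.snd_add] <;> ring

theorem f7U_zero : f7U 0 = 0 := by decide

theorem f7U_iter_add (n : ℕ) (u w : U6) : f7U^[n] (u + w) = f7U^[n] u + f7U^[n] w := by
  induction n with
  | zero => rfl
  | succ n ih =>
    rw [Function.iterate_succ_apply', ih, f7U_add, Function.iterate_succ_apply',
      Function.iterate_succ_apply']

/-- The element of order seven as a linear map. -/
def f7Lin : V8 →ₗ[ZMod 2] V8 where
  toFun y := (y.1, f7U y.2)
  map_add' x y := Prod.ext rfl (f7U_add x.2 y.2)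
  map_smul' c x := by
    rcases two_cases' c with rfl | rfl
    · simp only [zero_smul, RingHom.id_apply]
      exact Prod.ext rfl f7U_zero
    · simp

/-- The inverse of `f7Lin`. -/
def f7Inv : V8 →ₗ[ZMod 2] V8 where
  toFun y := (y.1, f7U^[6] y.2)
  map_add' x y := Prod.ext rfl (f7U_iter_add 6 x.2 y.2)
  map_smul' c x := by
    rcases two_cases' c with rfl | rfl
    · simp only [zero_smul, RingHom.id_apply]
      exact Prod.ext rfl (by decide)
    · simp

/-- An element of order seven fixing the first hyperbolic plane. -/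
def f7 : O phi :=
  ⟨LinearEquiv.ofLinearMap f7Lin f7Inv
    (LinearMap.ext fun y => Prod.ext rfl (by
      show f7U (f7U^[6] y.2) = y.2
      rw [← Function.iterate_succ_apply' f7U 6 y.2]; exact f7U_iter _))
    (LinearMap.ext fun y => Prod.ext rfl (by
      show f7U^[6] (f7U y.2) = y.2
      rw [← Function.iterate_succ_apply f7U 6 y.2]; exact f7U_iter _)),
    fun y => by
      show phi (y.1, f7U y.2) = phi y
      rw [phi_apply, phi_apply, qU_f7U]⟩

theorem f7_app (y : V8) : (f7 : V8 ≃ₗ[ZMod 2] V8) y = (y.1, f7U y.2) := rfl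

theorem f7_iterate (n : ℕ) (y : V8) :
    ((f7 : V8 ≃ₗ[ZMod 2] V8) : V8 → V8)^[n] y = (y.1, f7U^[n] y.2) := by
  induction n with
  | zero => rfl
  | succ n ih =>
    rw [Function.iterate_succ_apply', Function.iterate_succ_apply', ih]
    rfl

theorem f7_seven : f7 ^ 7 = 1 := O.ext_app fun y => by
  rw [pow_app, f7_iterate, f7U_iter]
  rfl

theorem f7_ne : f7 ≠ 1 := fun h => by
  have h2 := congrArg (fun g : O phi => ((g : V8 ≃ₗ[ZMod 2] V8) (emb g7)).2) h
  simp only [f7_app] at h2
  have : g7 = 0 := f7U_fixed g7 h2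
  exact absurd this (by decide)

theorem mem_K_of_pow_seven {g : O phi} (h : g ^ 7 = 1) : g ∈ commutator (O phi) := by
  rw [mem_K_iff]
  have h7 : dickson phi_nondeg gen_phi g ^ 7 = 1 := by rw [← map_pow, h, map_one]
  rcases Int.units_eq_one_or (dickson phi_nondeg gen_phi g) with e | e
  · exact e
  · rw [e] at h7; exact absurd h7 (by decide)

theorem f7_mem : f7 ∈ commutator (O phi) := mem_K_of_pow_seven f7_seven

theorem f7_v0 : (f7 : V8 ≃ₗ[ZMod 2] V8) v0 = v0 := by rw [f7_app]; decide

theorem not_commute_f7 {g : O phi} (hg : g ∈ commutator (O phi)) (h2 : g * g = 1)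
    (hc : g * f7 = f7 * g) : g = 1 := by
  set a : V8 ≃ₗ[ZMod 2] V8 := (g : V8 ≃ₗ[ZMod 2] V8) with ha
  have hcomm : ∀ y, a ((f7 : V8 ≃ₗ[ZMod 2] V8) y) = (f7 : V8 ≃ₗ[ZMod 2] V8) (a y) := fun y => by
    rw [ha, ← mul_app, ← Subgroup.coe_mul, hc]; rfl
  -- the plane of fixed points
  have hW : ∀ p : ZMod 2 × ZMod 2, (a (p, 0)).2 = 0 := fun p => by
    refine f7U_fixed _ ?_
    have h := hcomm (p, 0)
    rw [f7_app, f7U_zero, f7_app] at h
    exact (congrArg Prod.snd h).symm
  have hU : ∀ u : U6, (a (emb u)).1 = 0 := fun u => by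
    obtain ⟨b, rfl⟩ := f7U_surj u
    have he : emb (f7U b + b) = (f7 : V8 ≃ₗ[ZMod 2] V8) (emb b) + emb b := by
      rw [f7_app]; simp [emb]
    rw [he, map_add, hcomm, f7_app]
    simp [Prod.ext_iff, CharTwo.add_self_eq_zero]
  set m : U6 → U6 := fun u => (a (emb u)).2 with hm
  have ham : ∀ u, a (emb u) = emb (m u) := fun u => Prod.ext (hU u) rfl
  have hmadd : ∀ u w, m (u + w) = m u + m w := fun u w => by
    simp only [hm]
    rw [show emb (u + w) = emb u + emb w by simp [emb], map_add]
    rfl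
  have hmf : ∀ u, m (f7U u) = f7U (m u) := fun u => by
    have h := hcomm (emb u)
    rw [ham, f7_app, f7_app] at h
    exact congrArg Prod.snd ((show a (emb (f7U u)) = ((emb (m u)).1, f7U (emb (m u)).2) from h))
  have hmit : ∀ n u, m (f7U^[n] u) = f7U^[n] (m u) := fun n u => by
    induction n with
    | zero => rfl
    | succ n ih => rw [Function.iterate_succ_apply', hmf, ih, Function.iterate_succ_apply']
  have hmq : ∀ u, qU (m u) = qU u := fun u => by
    have h := O.map_app g (emb u)
    rwa [← ha, ham, phi_emb, phi_emb] at h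
  have hmform : ∀ u w, fU (m u) (m w) = fU u w := fun u w => by
    have h := O.polar_app g (emb u) (emb w)
    rwa [← ha, ham, ham, polar_emb, polar_emb, emb_snd, emb_snd] at h
  have hmm : ∀ u, m (m u) = u := fun u => by
    have h := apply_twice h2 (emb u)
    rw [← ha, ham, ham] at h
    exact congrArg Prod.snd h
  obtain ⟨i, hi⟩ := isometry_orbit (m g7) (hmq g7)
    (by rw [← hmf, hmform]) (by rw [← hmf, ← hmf, hmform])
    (by rw [← hmf, ← hmf, ← hmf, hmform])
  have hi0 : i.val = 0 := by
    refine orbit_twice i ?_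
    rw [hi, ← hmit, hi, hmm]
  rw [hi0, Function.iterate_zero_apply] at hi
  have hid : ∀ u, m u = u := by
    intro u
    have hb : ∀ n, m (f7U^[n] g7) = f7U^[n] g7 := fun n => by rw [hmit, ← hi]
    obtain ⟨b1, b2, b3, b4, b5, b6⟩ := g7_basis
    have hsm : ∀ (c : ZMod 2) (e : U6), m e = e → m (c • e) = c • e := by
      intro c e he
      rcases two_cases' c with rfl | rfl
      · simp only [zero_smul]
        have h0 := hmadd 0 0
        rw [add_zero] at h0
        exact left_eq_add.mp h0
      · simp [he]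
    rw [basis_expand u, hmadd, hmadd, hmadd, hmadd, hmadd, hsm _ _ ?_, hsm _ _ ?_, hsm _ _ ?_,
      hsm _ _ ?_, hsm _ _ ?_, hsm _ _ ?_]
    · rw [b6, hmadd, hmadd, hb, hb, hb]
    · rw [b5, hmadd, hmadd, hb, hb, hb]
    · rw [b4, hmadd, hmadd, hmadd, hb, hb, hb, hb]
    · rw [b3, hmadd, hmadd, hmadd, hb, hb, hb, hb]
    · rw [b2, hmadd, hmadd, hb, hb, hb]
    · rw [b1, hmadd, hmadd, hmadd, hb, hb, hb, hb]
  -- on the fixed plane `g` is the identity or a reflection
  have hform : ∀ p, phi (a (p, 0)) = phi ((p, 0) : V8) := fun p => O.map_app g _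
  have hlin : ∀ y : V8, a y = a (y.1, 0) + emb y.2 := fun y => by
    conv_lhs => rw [show y = (y.1, 0) + emb y.2 from Prod.ext (Prod.ext (by simp [emb]) (by simp [emb])) (by simp [emb])]
    rw [map_add, ham, hid]
  have hv : (a ((1, 0), 0)).1 = (1, 0) ∨ (a ((1, 0), 0)).1 = (0, 1) := by
    have h1 := hform (1, 0)
    have h3 : (a ((1, 0), 0)).2 = 0 := hW (1, 0)
    have h4 : a ((1, 0), 0) ≠ 0 := fun e =>
      absurd ((LinearEquiv.map_eq_zero_iff a).mp e) (by decide)
    generalize a ((1, 0), 0) = r at h1 h3 h4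
    obtain ⟨⟨c, d⟩, u⟩ := r
    simp only at h3
    subst h3
    rw [phi_apply, phi_apply] at h1
    revert c d
    decide
  have hb : a ((1, 0), 0) = ((a ((1, 0), 0)).1, 0) := Prod.ext rfl (hW (1, 0))
  have hb' : a ((0, 1), 0) = ((a ((0, 1), 0)).1, 0) := Prod.ext rfl (hW (0, 1))
  have hv' : phi (a ((0, 1), 0)) = 0 ∧
      polar (⇑phi) (a ((1, 0), 0)) (a ((0, 1), 0)) = 1 := by
    refine ⟨by rw [hform]; rw [phi_apply]; decide, ?_⟩
    rw [O.polar_app g, polar_phi]
    decide
  rw [hb'] at hv'
  rw [hb, phi_apply, polar_phi, qU_zero, add_zero, fU_zero_left, add_zero] at hv'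
  have hexp : ∀ p : ZMod 2 × ZMod 2,
      a (p, 0) = p.1 • a ((1, 0), 0) + p.2 • a ((0, 1), 0) := fun p => by
    rw [← map_smul, ← map_smul, ← map_add]
    congr 1
    simp
  rcases hv with e | e
  · refine O.ext_app fun y => ?_
    rw [← ha, hlin, hexp, hb, hb']
    rw [e] at hv' ⊢
    generalize (a ((0, 1), 0)).1 = r at hv'
    obtain ⟨rc, rd⟩ := r
    obtain ⟨hr1, hr2⟩ := hv'
    simp only [one_mul, mul_zero, add_zero] at hr1 hr2
    subst hr2
    rw [mul_one] at hr1
    subst hr1
    show _ = y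
    obtain ⟨⟨c, d⟩, u⟩ := y
    simp [emb]
  · exfalso
    have hphi : phi (((1, 1), 0) : V8) ≠ 0 := by rw [phi_apply]; decide
    apply rO_not_mem_K hphi
    have : rO phi (((1, 1), 0) : V8) = g := O.ext_app fun y => by
      rw [← ha, hlin, hexp, hb, hb', rO_app, polar_phi, phi_apply]
      rw [e] at hv' ⊢
      generalize (a ((0, 1), 0)).1 = r at hv'
      obtain ⟨rc, rd⟩ := r
      obtain ⟨hr1, hr2⟩ := hv'
      simp only [zero_mul, zero_add, mul_one] at hr1 hr2
      subst hr2
      rw [one_mul] at hr1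
      subst hr1
      obtain ⟨⟨c, d⟩, u⟩ := y
      simp [emb, qU_zero, fU_zero_left]
    rwa [this]

/-- No element of order seven centralises an involution of the commutator subgroup. -/
theorem seven_not_commute {g i : O phi} (h7 : g ^ 7 = 1) (h1 : g ≠ 1)
    (hi : i ∈ commutator (O phi)) (hi2 : i * i = 1) (hi1 : i ≠ 1) (hc : g * i = i * g) :
    False := by
  haveI : Fact (Nat.Prime 7) := ⟨by norm_num⟩
  haveI : Finite (O phi) := Nat.finite_of_card_ne_zero (by rw [card_O_eight]; norm_num)
  have hcard : ∀ x : O phi, x ^ 7 = 1 → x ≠ 1 →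
      Nat.card (Subgroup.zpowers x) = 7 ^ (Nat.card (O phi)).factorization 7 := fun x hx hx1 => by
    have h : (Nat.card (O phi)).factorization 7 = 1 := by
      rw [card_O_eight, show (348364800 : ℕ) = 7 * 49766400 by norm_num,
        Nat.factorization_mul (by norm_num) (by norm_num), Finsupp.add_apply,
        Nat.Prime.factorization_self (by norm_num),
        Nat.factorization_eq_zero_of_not_dvd (by norm_num)]
    rw [h, pow_one, Nat.card_zpowers, orderOf_eq_prime hx hx1]
  set P := Sylow.ofCard (Subgroup.zpowers g) (hcard g h7 h1) with hP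
  set P7 := Sylow.ofCard (Subgroup.zpowers f7) (hcard f7 f7_seven f7_ne) with hP7
  obtain ⟨k, hk⟩ := MulAction.exists_smul_eq (O phi) P P7
  have hmem : f7 ∈ (Subgroup.zpowers g).map (MulAut.conj k).toMonoidHom := by
    have hm : f7 ∈ (P7 : Subgroup (O phi)) := by
      rw [hP7, Sylow.coe_ofCard]; exact Subgroup.mem_zpowers f7
    rw [← hk] at hm
    rw [hP, Sylow.coe_subgroup_smul, Sylow.coe_ofCard] at hm
    exact hm
  obtain ⟨y, hy, hye⟩ := hmem
  obtain ⟨n, rfl⟩ := Subgroup.mem_zpowers_iff.mp hy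
  simp only [MulEquiv.coe_toMonoidHom, MulAut.conj_apply] at hye
  set i' := k * i * k⁻¹ with hi'
  have hc' : i' * f7 = f7 * i' := by
    rw [hi', ← hye, conj_mul, conj_mul]
    congr 2
    exact ((show Commute g i from hc).symm.zpow_right n).eq
  have h2' : i' * i' = 1 := by rw [hi', conj_mul, hi2, mul_one, mul_inv_cancel]
  have hK' : i' ∈ commutator (O phi) :=
    (inferInstance : (commutator (O phi)).Normal).conj_mem i hi k
  have := not_commute_f7 hK' h2' hc'
  rw [hi', conj_eq_one_iff] at this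
  exact hi1 this

end Cfsg.Agent.H73.Conway
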