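import Cfsg.Agent.H73.Conway.Reduce

/-!
Every involution of the centraliser has a conjugate in the centraliser not of rank four.
-/

set_option autoImplicit false
set_option linter.unusedSectionVars false
set_option linter.unusedVariables false

namespace Cfsg.Agent.H73.Conway

open QuadraticMap Cfsg.Agent.Orthogonal Cfsg.Agent.H92.ExtraForm Module

variable {G : Type*} [Group G] [Finite G] {z : G} {Q : Subgroup G}

theorem fP_add_left : ∀ p p' r : ZMod 2 × ZMod 2, fP (p + p') r = fP p r + fP p' r := by decide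

theorem fP_comm : ∀ p r : ZMod 2 × ZMod 2, fP p r = fP r p := by decide

theorem fP_zero_left : ∀ p : ZMod 2 × ZMod 2, fP 0 p = 0 := by decide

theorem InF.of_fix {a : U6} (e : a + sigN a = a) : InF a :=
  sigN_eq_zero.mp (add_eq_left.mp e)

theorem res_E (u a : U6) : res (E u) a = a := by
  rw [res, E_app]; simp [emb]

theorem res_form {g : O phi} (hg : (g : V8 ≃ₗ[ZMod 2] V8) v0 = v0) (a b : U6) :
    fU (res g a) (res g b) = fU a b := by
  have hp : ∀ a, polar (⇑phi) v0 ((g : V8 ≃ₗ[ZMod 2] V8) (emb a)) = 0 := fun a => by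
    rw [polar_fixed hg, polar_v0]; rfl
  rw [res, res, ← polar_of_perp (hp a) (hp b), O.polar_app, polar_emb, emb_snd]

namespace Pair

variable {h : Setup z Q} {s w : G} (P : Pair h s w)
include P

theorem res_mul {c d : G} (hc : c * z = z * c) (hcs : c * s = s * c) (hd : d * z = z * d)
    (hds : d * s = s * d) (a : U6) :
    res (h.ρ (c * d)) a = res (h.ρ c) (res (h.ρ d) a) := by
  have hy : polar (⇑phi) v0 ((h.ρ d : V8 ≃ₗ[ZMod 2] V8) (emb a)) = 0 := by
    rw [polar_fixed (P.rho_fix hd hds), polar_v0]; rfl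
  rw [res, h.ρ_mul _ _ hc hd, Subgroup.coe_mul, mul_app, P.res_spec hc hcs hy]
  rfl

theorem res_W {q b : G} (hq : InA Q s q) (hb : InB z Q w b) (a : U6) :
    res (h.ρ (q * b)) a = a := by
  rw [h.ρ_mul _ _ (P.zc hq) hb.2, h.ρ_Q hq.1, one_mul, P.rho_B hb, res_E]

/-- Conjugating `B` by a partner of `s`. -/
theorem flip_B {r b : G} (hr : r ∈ Q) (hπr : h.π r = f0) (hb : InB z Q w b) :
    InA Q s (r * b * r⁻¹ * b⁻¹) ∧ alpha h (r * b * r⁻¹ * b⁻¹) = theta h b := by
  set q' := r * b * r⁻¹ * b⁻¹ with hq'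
  have hq'Q : q' ∈ Q := by
    rw [hq', mul_assoc r b, mul_assoc r]
    exact mul_mem hr (h.norm b hb.2 _ (inv_mem hr))
  have hπq' : h.π q' = h.π r + (E (theta h b) : V8 ≃ₗ[ZMod 2] V8) f0 := by
    rw [hq', mul_assoc r b, mul_assoc r, h.π_mul _ hr _ (h.norm b hb.2 _ (inv_mem hr)),
      h.ρ_π b hb.2 _ (inv_mem hr), h.π_inv hr, hπr, P.rho_B hb]
  rw [hπr, E_f0] at hπq'
  exact ⟨⟨hq'Q, (P.commA hq'Q).mpr (by rw [hπq']; rfl)⟩, by rw [alpha, hπq']; simp [f0]⟩

/-- Conjugating `⟨z, s⟩` by a partner of `s`. -/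
theorem flip_tt {r : G} (hr : r ∈ Q) (hrs : r * s * r⁻¹ = s * z) (i j : ZMod 2) :
    r * tt z s i j * r⁻¹ = tt z s (i + j) j := by
  rcases two_cases' i with rfl | rfl <;> rcases two_cases' j with rfl | rfl <;>
    simp only [tt, zp_zero, zp_one, mul_one, one_mul, add_zero, zero_add,
      show (1 + 1 : ZMod 2) = 0 from rfl]
  · group
  · rw [hrs, h.le s P.hs]
  · rw [h.le r hr, mul_inv_cancel_right]
  · rw [← mul_assoc r z s, h.le r hr, mul_assoc z r s, mul_assoc z, hrs, h.le s P.hs,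
      ← mul_assoc, h.zz, one_mul]

theorem inv_eq_mul_A {k : G} (hk : InA Q s k) : k⁻¹ = k * tt z s (qU (alpha h k)) 0 := by
  refine inv_eq_of_mul_eq_one_right ?_
  rw [← mul_assoc, P.sq_A hk, P.tt_mul, CharTwo.add_self_eq_zero, add_zero]
  simp [tt, zp]

theorem inv_eq_mul_B {k : G} (hk : InB z Q w k) : k⁻¹ = k * tt z s 0 (qU (theta h k)) := by
  refine inv_eq_of_mul_eq_one_right ?_
  rw [← mul_assoc, P.sq_B hk, P.tt_mul, CharTwo.add_self_eq_zero, CharTwo.add_self_eq_zero]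
  simp [tt, zp]

/-- An involution of `C(z) ∩ C(s)` acting as the root involution has a conjugate not of rank
four. -/
theorem reduce_sig {x : G} (hxz : x * z = z * x) (hxs : x * s = s * x) (hxx : x * x = 1)
    (hres : ∀ a, res (h.ρ x) a = a + sigN a) :
    ∃ g, g * x * g⁻¹ * z = z * (g * x * g⁻¹) ∧ rk h (g * x * g⁻¹) ≠ 4 := by
  by_contra hno
  push Not at hno
  have hρ2 : h.ρ x * h.ρ x = 1 := by rw [← h.ρ_mul _ _ hxz hxz, hxx, h.ρ_one]
  have h4 : rk h x = 4 := by simpa using hno 1 (by simpa using hxz)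
  -- coefficients on `A` and `B`
  obtain ⟨m, p1, hA⟩ := P.coef_exists hxz hxs hres (S := InA Q s) (τ := alpha h)
    (fun a b ha hb => P.InA_mul ha hb) (fun a ha => P.InA_inv ha)
    (fun a b ha hb => P.alpha_mul ha.1 hb.1)
    (fun u => by obtain ⟨q, hq, hqπ⟩ := P.exists_A u; exact ⟨q, hq, by simp [alpha, hqπ]⟩)
    (fun a b ha hb e => P.eq_mul_tt_A ha hb e)
    (fun a ha => ⟨P.InA_conj hxz hxs ha, P.alpha_conj hxz hxs ha⟩)
    (fun a ha e => by rw [P.sq_A ha, e]; simp [tt, zp])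
    (fun a ha i j => (P.tt_comm_A ha i j).symm) hxx
  obtain ⟨p2, n, hB⟩ := P.coef_exists hxz hxs hres (S := InB z Q w) (τ := theta h)
    (fun a b ha hb => P.InB_mul ha hb) (fun a ha => P.InB_inv ha)
    (fun a b ha hb => P.theta_mul ha hb) P.exists_B
    (fun a b ha hb e => P.eq_mul_tt_B ha hb e)
    (fun a ha => ⟨P.InB_conj hxz hxs ha, P.theta_conj hxz hxs ha⟩)
    (fun a ha e => by rw [P.sq_B ha, e]; simp [tt, zp])
    (fun a ha i j => (P.tt_comm_B ha i j).symm) hxx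
  -- the first equation
  obtain ⟨k, hkA, hkinv, hkfix, hk⟩ := P.exists_inverted hxz hxs hxx
  have hkF : InF (alpha h k) := InF.of_fix (by rw [← hres, hkfix])
  have hp1 : p1 = cl (alpha h k) := by
    refine fP_inj _ _ fun c => ?_
    obtain ⟨q, hq, hqπ⟩ := P.exists_A (emP c)
    have hqa : alpha h q = emP c := by simp [alpha, hqπ]
    have hqF : InF (alpha h q) := by rw [hqa]; exact InF.emP c
    have e := hk q hq _ _ (hA q hq hqF)
    rwa [hkF.fU_eq hqF, hqa, cl_emP] at e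
  have hq1 : qP p1 = fP m p1 := by
    have e := (hA k hkA hkF).symm.trans (hkinv.trans (P.inv_eq_mul_A hkA))
    have e' := (P.tt_inj (mul_left_cancel e)).1
    rw [← hp1, hkF.qU_eq, ← hp1] at e'
    exact e'.symm
  have hp1ne : p1 ≠ 0 := by
    intro e0
    obtain ⟨q, hq, hqfix, i, hi⟩ := P.rank_four_witness hxz hxs hρ2 h4
    have hqF : InF (alpha h q) := InF.of_fix (by rw [← hres, hqfix])
    have e := (P.tt_inj (mul_left_cancel ((hA q hq hqF).symm.trans hi))).2
    rw [e0, fP_zero_left] at e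
    exact zero_ne_one e
  -- the second equation
  set x' := w⁻¹ * x * w with hx'
  have hx'z : x' * z = z * x' := P.conj_w_C hxz hxs
  have hx's : x' * s = s * x' := by
    rw [← P.w_z]
    calc w⁻¹ * x * w * (w⁻¹ * z * w) = w⁻¹ * (x * z) * w := by group
      _ = w⁻¹ * z * w * (w⁻¹ * x * w) := by rw [hxz]; group
  have hx'x : x' * x' = 1 := by
    calc w⁻¹ * x * w * (w⁻¹ * x * w) = w⁻¹ * (x * x) * w := by group
      _ = 1 := by rw [hxx]; group
  have hρ2' : h.ρ x' * h.ρ x' = 1 := by rw [← h.ρ_mul _ _ hx'z hx'z, hx'x, h.ρ_one]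
  have h4' : rk h x' = 4 := by
    have := hno w⁻¹ (by simpa using hx'z)
    simpa using this
  have back : ∀ q i j, x' * q * x'⁻¹ = q * tt z s i j →
      x * (w * q * w⁻¹) * x⁻¹ = w * q * w⁻¹ * tt z s j i := fun q i j e => by
    rw [← P.w_tt i j]
    calc x * (w * q * w⁻¹) * x⁻¹ = w * (x' * q * x'⁻¹) * w⁻¹ := by rw [hx']; group
      _ = _ := by rw [e]; group
  obtain ⟨k', hk'A, hk'inv, -, hk'⟩ := P.exists_inverted hx'z hx's hx'x
  set kB := w * k' * w⁻¹ with hkB
  have hkBB : InB z Q w kB := P.InB_of_A hk'A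
  have hkBinv : x * kB * x⁻¹ = kB⁻¹ := by
    calc x * kB * x⁻¹ = w * (x' * k' * x'⁻¹) * w⁻¹ := by rw [hkB, hx']; group
      _ = kB⁻¹ := by rw [hk'inv, hkB]; group
  have hkBF : InF (theta h kB) := InF.of_fix (by
    rw [← hres, ← P.theta_conj hxz hxs hkBB, hkBinv, P.theta_inv hkBB])
  have hp2 : p2 = cl (theta h kB) := by
    refine fP_inj _ _ fun c => ?_
    obtain ⟨b, hb, hbθ⟩ := P.exists_B (emP c)
    have hbF : InF (theta h b) := by rw [hbθ]; exact InF.emP c
    have hx'b : x' * (w⁻¹ * b * w) * x'⁻¹ =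
        w⁻¹ * b * w * tt z s (fP n (cl (theta h b))) (fP p2 (cl (theta h b))) := by
      rw [← P.tt_w]
      calc x' * (w⁻¹ * b * w) * x'⁻¹ = w⁻¹ * (x * b * x⁻¹) * w := by rw [hx']; group
        _ = _ := by rw [hB b hb hbF]; group
    have e := hk' _ (P.InA_of_B hb) _ _ hx'b
    rw [show k' = w⁻¹ * kB * w by rw [hkB]; group, P.kappa_form hkBB hb, hkBF.fU_eq hbF,
      hbθ, cl_emP] at e
    exact e
  have hq2 : qP p2 = fP n p2 := by
    have e := (hB kB hkBB hkBF).symm.trans (hkBinv.trans (P.inv_eq_mul_B hkBB))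
    have e' := (P.tt_inj (mul_left_cancel e)).2
    rw [← hp2, hkBF.qU_eq, ← hp2] at e'
    exact e'.symm
  have hp2ne : p2 ≠ 0 := by
    intro e0
    obtain ⟨q, hq, -, i, hi⟩ := P.rank_four_witness hx'z hx's hρ2' h4'
    have hbB := P.InB_of_A hq
    have e1' := back q i 1 hi
    have hbF : InF (theta h (w * q * w⁻¹)) := InF.of_fix (by
      rw [← hres, ← P.theta_conj hxz hxs hbB, e1', P.theta_mul hbB (P.tt_InB 1 i), P.theta_tt,
        add_zero])
    have e := (P.tt_inj (mul_left_cancel ((hB _ hbB hbF).symm.trans e1'))).1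
    rw [e0, fP_zero_left] at e
    exact zero_ne_one e
  -- the sum is not zero
  obtain ⟨r, hr, hπr, hrs⟩ := h.exists_flip P.hs P.hπ
  have hsum : m + n + p1 + p2 ≠ 0 := by
    intro e0
    set x1 := r⁻¹ * x * r with hx1
    have hx1z : x1 * z = z * x1 := h.mul_comm' (h.mul_comm' (h.inv_comm (h.le r hr)) hxz) (h.le r hr)
    have hx1s : x1 * s = s * x1 := by
      have hc : Commute x (r * s * r⁻¹) := by
        rw [hrs]; exact (show Commute x s from hxs).mul_right hxz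
      calc x1 * s = r⁻¹ * (x * (r * s * r⁻¹)) * r := by rw [hx1]; group
        _ = s * x1 := by rw [hc.eq, hx1]; group
    have hx1x : x1 * x1 = 1 := by
      calc r⁻¹ * x * r * (r⁻¹ * x * r) = r⁻¹ * (x * x) * r := by group
        _ = 1 := by rw [hxx]; group
    set x'' := w⁻¹ * x1 * w with hx''
    have hx''z : x'' * z = z * x'' := P.conj_w_C hx1z hx1s
    have hx''s : x'' * s = s * x'' := by
      rw [← P.w_z]
      calc w⁻¹ * x1 * w * (w⁻¹ * z * w) = w⁻¹ * (x1 * z) * w := by group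
        _ = w⁻¹ * z * w * (w⁻¹ * x1 * w) := by rw [hx1z]; group
    have hx''x : x'' * x'' = 1 := by
      calc w⁻¹ * x1 * w * (w⁻¹ * x1 * w) = w⁻¹ * (x1 * x1) * w := by group
        _ = 1 := by rw [hx1x]; group
    have hρ2'' : h.ρ x'' * h.ρ x'' = 1 := by rw [← h.ρ_mul _ _ hx''z hx''z, hx''x, h.ρ_one]
    have hgx : (w⁻¹ * r⁻¹) * x * (w⁻¹ * r⁻¹)⁻¹ = x'' := by rw [hx'', hx1]; group
    have h4'' : rk h x'' = 4 := by
      have := hno (w⁻¹ * r⁻¹) (by rw [hgx]; exact hx''z)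
      rwa [hgx] at this
    obtain ⟨q, hq, -, i, hi⟩ := P.rank_four_witness hx''z hx''s hρ2'' h4''
    set b := w * q * w⁻¹ with hb'
    have hbB : InB z Q w b := P.InB_of_A hq
    have e1' : x1 * b * x1⁻¹ = b * tt z s 1 i := by
      rw [← P.w_tt i 1]
      calc x1 * b * x1⁻¹ = w * (x'' * q * x''⁻¹) * w⁻¹ := by rw [hb', hx'']; group
        _ = _ := by rw [hi, hb']; group
    have hρ1 : h.ρ x1 = h.ρ x := by
      rw [hx1, h.ρ_mul _ _ (h.mul_comm' (h.inv_comm (h.le r hr)) hxz) (h.le r hr),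
        h.ρ_mul _ _ (h.inv_comm (h.le r hr)) hxz, h.ρ_Q hr, h.ρ_Q (inv_mem hr), one_mul, mul_one]
    have hbF : InF (theta h b) := InF.of_fix (by
      rw [← hres, ← hρ1, ← P.theta_conj hx1z hx1s hbB, e1', P.theta_mul hbB (P.tt_InB 1 i),
        P.theta_tt, add_zero])
    obtain ⟨hqA', hα'⟩ := P.flip_B hr hπr hbB
    set q' := r * b * r⁻¹ * b⁻¹ with hq'
    have hqF : InF (alpha h q') := by rw [hα']; exact hbF
    have e2' : x * (q' * b) * x⁻¹ = q' * b * tt z s (1 + i) i := by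
      rw [show q' * b = r * b * r⁻¹ by rw [hq']; group, ← P.flip_tt hr hrs 1 i]
      calc x * (r * b * r⁻¹) * x⁻¹ = r * (x1 * b * x1⁻¹) * r⁻¹ := by rw [hx1]; group
        _ = _ := by rw [e1']; group
    rw [P.conj_tt_mul (hA q' hqA' hqF) (hB b hbB hbF) (P.tt_comm_B hbB _ _).symm] at e2'
    obtain ⟨ea, eb⟩ := P.tt_inj (mul_left_cancel e2')
    rw [hα'] at ea eb
    have e := fP_zero_left (cl (theta h b))
    rw [← e0, fP_add_left, fP_add_left, fP_add_left] at e
    generalize fP m (cl (theta h b)) = a at ea e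
    generalize fP n (cl (theta h b)) = a' at eb e
    generalize fP p1 (cl (theta h b)) = a'' at eb e
    generalize fP p2 (cl (theta h b)) = a''' at ea e
    revert ea eb e
    clear hi e1' e2'
    revert i a a' a'' a'''
    decide
  -- the twisted element
  obtain ⟨q0, hq0, hq0π⟩ := P.exists_A (emP p2)
  have hq0α : alpha h q0 = emP p2 := by simp [alpha, hq0π]
  obtain ⟨b0, hb0, hb0θ⟩ := P.exists_B (emP p1)
  have hq0F : InF (alpha h q0) := by rw [hq0α]; exact InF.emP p2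
  have hb0F : InF (theta h b0) := by rw [hb0θ]; exact InF.emP p1
  set d := q0 * b0 with hd
  have hdz : d * z = z * d := h.mul_comm' (P.zc hq0) hb0.2
  have hds : d * s = s * d := ((show Commute q0 s from hq0.2).mul_left (P.sB hb0)).eq
  set y := x * d with hy
  have hyz : y * z = z * y := h.mul_comm' hxz hdz
  have hys : y * s = s * y := ((show Commute x s from hxs).mul_left hds).eq
  have hresy : ∀ a, res (h.ρ y) a = a + sigN a := fun a => by
    rw [hy, P.res_mul hxz hxs hdz hds, hd, P.res_W hq0 hb0, hres]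
  have hyy : y * y = tt z s (fP (m + n) p2) (fP (m + n) p1) := by
    have hxi : x⁻¹ = x := inv_eq_of_mul_eq_one_right hxx
    have e := P.conj_tt_mul (hA q0 hq0 hq0F) (hB b0 hb0 hb0F) (P.tt_comm_B hb0 _ _).symm
    rw [hxi, hq0α, hb0θ, cl_emP, cl_emP] at e
    have hsq := P.sq_AB hq0 hb0
    rw [hq0α, hb0θ, (InF.emP p2).fU_eq (InF.emP p1), (InF.emP p2).qU_eq, (InF.emP p1).qU_eq,
      cl_emP, cl_emP, hq2, hq1] at hsq
    calc y * y = x * d * x * d := by rw [hy]; group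
      _ = d * tt z s (fP m p2 + fP p2 p1) (fP p1 p2 + fP n p1) * d := by rw [hd, e]
      _ = d * d * tt z s (fP m p2 + fP p2 p1) (fP p1 p2 + fP n p1) := by
          rw [mul_assoc, ← ((show Commute q0 _ from P.tt_comm_A hq0 _ _).mul_left
            (P.tt_comm_B hb0 _ _)).eq, ← mul_assoc]
      _ = _ := by
          rw [hd, hsq, P.tt_mul, fP_comm p1 p2, fP_add_left, fP_add_left]
          congr 1 <;> ring_nf <;> simp [show (2 : ZMod 2) = 0 from rfl] <;> abel
  have hρy2 : h.ρ y * h.ρ y = 1 := by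
    rw [← h.ρ_mul _ _ hyz hyz, hyy, h.ρ_Q (P.tt_Q _ _)]
  have hρy1 : h.ρ y ≠ 1 := fun e => by
    have := (hresy ((0, 1), (0, 0), 0, 0)).symm.trans (eq_of_rho e _)
    exact absurd this (by decide)
  have hAy : ∀ q, InA Q s q → InF (alpha h q) →
      y * q * y⁻¹ = q * tt z s (fP (m + p1 + p2) (cl (alpha h q))) 0 := by
    intro q hq hF
    have hf := P.comm_AB hq hb0
    rw [hF.fU_eq hb0F, hb0θ, cl_emP] at hf
    have hg := P.comm_AA hq hq0
    rw [hF.fU_eq hq0F, hq0α, cl_emP] at hg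
    have e1' : b0 * q * b0⁻¹ = tt z s (fP (cl (alpha h q)) p1) (fP (cl (alpha h q)) p1) * q := by
      rw [← hf, show q * b0 * q⁻¹ * b0⁻¹ = (b0 * q * b0⁻¹ * q⁻¹)⁻¹ by group]
      obtain ⟨i, j, he⟩ := P.comm_mem hb0 hq
      rw [he]
      have : (tt z s i j)⁻¹ = tt z s i j := inv_eq_of_mul_eq_one_left (by
        rw [P.tt_mul, CharTwo.add_self_eq_zero, CharTwo.add_self_eq_zero]; simp [tt, zp])
      rw [this, ← he]; group
    have e2' : q0 * q * q0⁻¹ = q * tt z s (fP (cl (alpha h q)) p2) 0 := by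
      rw [hg, mul_assoc q q0, P.tt_comm_A hq0, ← mul_assoc, mul_inv_cancel_right]
    calc y * q * y⁻¹ = x * (q0 * (b0 * q * b0⁻¹) * q0⁻¹) * x⁻¹ := by rw [hy, hd]; group
      _ = (x * tt z s (fP (cl (alpha h q)) p1) (fP (cl (alpha h q)) p1) * x⁻¹) *
            ((x * q * x⁻¹) * (x * tt z s (fP (cl (alpha h q)) p2) 0 * x⁻¹)) := by
          rw [e1', ← mul_assoc q0, P.tt_comm_A hq0, mul_assoc _ q0 q, mul_assoc _ (q0 * q), e2']
          group
      _ = q * tt z s (fP (m + p1 + p2) (cl (alpha h q))) 0 := by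
          rw [P.tt_fix hxz hxs, P.tt_fix hxz hxs, hA q hq hF, ← mul_assoc, ← mul_assoc,
            ← P.tt_comm_A hq, mul_assoc q, P.tt_mul, mul_assoc q, P.tt_mul, fP_add_left,
            fP_add_left, fP_comm (cl (alpha h q)) p1, fP_comm (cl (alpha h q)) p2,
            CharTwo.add_self_eq_zero, add_zero]
          congr 2
          abel
  have hrk : rk h y = 2 := by
    rcases range_cases (h.ρ_mem _ hyz) hρy2 hρy1 with e | e
    · exact e
    · exfalso
      obtain ⟨q, hq, hqfix, i, hi⟩ := P.rank_four_witness hyz hys hρy2 e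
      have hqF : InF (alpha h q) := InF.of_fix (by rw [← hresy, hqfix])
      exact zero_ne_one (P.tt_inj (mul_left_cancel ((hAy q hq hqF).symm.trans hi))).2
  obtain ⟨a1, ha1, hb1, hsq1⟩ := P.root_like hyz hys hρy2 hρy1 hrk hresy
    (fun q hq hF => ⟨_, hAy q hq hF⟩)
  have hval : ∀ a, InF a → fU a1 a = fP (m + p1 + p2) (cl a) := fun a ha => by
    obtain ⟨q, hq, hqπ⟩ := P.exists_A a
    have hqa : alpha h q = a := by simp [alpha, hqπ]
    have hF : InF (alpha h q) := by rw [hqa]; exact ha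
    have e := (P.tt_inj (mul_left_cancel ((ha1 q hq hF).symm.trans (hAy q hq hF)))).1
    rwa [hqa] at e
  have ha1F : InF a1 := by
    constructor
    · rw [fU_comm, hval _ InF.e1, fP_comm]
      exact fP_zero_left _
    · rw [fU_comm, hval _ InF.e2, fP_comm]
      exact fP_zero_left _
  have hcl : cl a1 = m + p1 + p2 := fP_inj _ _ fun c => by
    have e := hval (emP c) (InF.emP c)
    rwa [ha1F.fU_eq (InF.emP c), cl_emP] at e
  have hcl' : cl a1 = n + p1 + p2 := fP_inj _ _ fun c => by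
    obtain ⟨b, hb, hbθ⟩ := P.exists_B (emP c)
    have hbF : InF (theta h b) := by rw [hbθ]; exact InF.emP c
    have hg := P.comm_BB hb hb0
    rw [hbF.fU_eq hb0F, hb0θ, hbθ, cl_emP, cl_emP] at hg
    have e1' : b0 * b * b0⁻¹ = b * tt z s 0 (fP c p1) := by
      rw [hg, mul_assoc b b0, P.tt_comm_B hb0, ← mul_assoc, mul_inv_cancel_right]
    have hf := P.comm_AB hq0 hb
    rw [hq0α, hbθ, (InF.emP p2).fU_eq (InF.emP c), cl_emP, cl_emP] at hf
    have e2' : q0 * b * q0⁻¹ = tt z s (fP p2 c) (fP p2 c) * b := by rw [← hf]; group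
    have hyb : y * b * y⁻¹ = b * tt z s 0 (fP (n + p1 + p2) c) := by
      calc y * b * y⁻¹ = x * (q0 * (b0 * b * b0⁻¹) * q0⁻¹) * x⁻¹ := by rw [hy, hd]; group
        _ = (x * tt z s (fP p2 c) (fP p2 c) * x⁻¹) *
              ((x * b * x⁻¹) * (x * tt z s 0 (fP c p1) * x⁻¹)) := by
            rw [e1', show q0 * (b * tt z s 0 (fP c p1)) * q0⁻¹ =
              (q0 * b * q0⁻¹) * (q0 * tt z s 0 (fP c p1) * q0⁻¹) by group, e2',
              P.tt_comm_A hq0, mul_inv_cancel_right]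
            group
        _ = b * tt z s 0 (fP (n + p1 + p2) c) := by
            rw [P.tt_fix hxz hxs, P.tt_fix hxz hxs, hB b hb hbF, ← mul_assoc, ← mul_assoc,
              ← P.tt_comm_B hb, mul_assoc b, P.tt_mul, mul_assoc b, P.tt_mul, hbθ, cl_emP,
              fP_add_left, fP_add_left, fP_comm c p1, CharTwo.add_self_eq_zero, add_zero]
            congr 2
            abel
    have e := hb1 b hb hbF _ _ hyb
    rw [hbθ, ha1F.fU_eq (InF.emP c), cl_emP] at e
    exact e.symm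
  have hmn : m = n := by
    have := hcl.symm.trans hcl'
    exact add_right_cancel (add_right_cancel this)
  have hne12 : p1 ≠ p2 := by
    rintro rfl
    apply hsum
    rw [hmn]
    clear * -
    revert n p1
    decide
  have hy1 : y * y = 1 := by
    rw [hyy, hmn]
    have : ∀ n p : ZMod 2 × ZMod 2, fP (n + n) p = 0 := by decide
    rw [this, this]
    simp [tt, zp]
  have hfin := hsq1 hy1
  rw [ha1F.qU_eq, hcl, triple m p1 p2 hq1 (by rw [hmn]; exact hq2) hp1ne hp2ne hne12] at hfin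
  exact one_ne_zero hfin

/-- The residual action of an involution with a good vector `v0` is normalised to the root
involution. -/
theorem reduce_good {x : G} (hxz : x * z = z * x) (hxs : x * s = s * x) (hxx : x * x = 1)
    (h4 : rk h x = 4)
    (hgood : ∀ y, polar (⇑phi) v0 y = 0 →
      phi ((h.ρ x : V8 ≃ₗ[ZMod 2] V8) y + y) = 0) :
    ∃ g, g * x * g⁻¹ * z = z * (g * x * g⁻¹) ∧ rk h (g * x * g⁻¹) ≠ 4 := by
  set g1 := h.ρ x with hg1
  have hg2 : g1 * g1 = 1 := by rw [hg1, ← h.ρ_mul _ _ hxz hxz, hxx, h.ρ_one]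
  have hgv : (g1 : V8 ≃ₗ[ZMod 2] V8) v0 = v0 := P.rho_fix hxz hxs
  -- the residual nilpotent map
  obtain ⟨a₁, a₂, hd1, hd2, hd12⟩ : ∃ a₁ a₂ : U6, res g1 a₁ + a₁ ≠ 0 ∧ res g1 a₂ + a₂ ≠ 0 ∧
      res g1 a₁ + a₁ ≠ res g1 a₂ + a₂ := by
    by_contra hno
    push Not at hno
    obtain ⟨d, hd⟩ : ∃ d, ∀ a, res g1 a + a = 0 ∨ res g1 a + a = d := by
      by_cases hz : ∀ a, res g1 a + a = 0
      · exact ⟨0, fun a => Or.inl (hz a)⟩
      · push Not at hz
        obtain ⟨a, ha⟩ := hz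
        exact ⟨_, fun b => Classical.or_iff_not_imp_left.mpr fun hb => (hno a b ha hb).symm⟩
    set e := (g1 : V8 ≃ₗ[ZMod 2] V8) f0 + f0 with he
    set S := Submodule.span (ZMod 2) (Set.range ![v0, emb d, e]) with hS
    have hmemS : ∀ i, ![v0, emb d, e] i ∈ S := fun i => Submodule.subset_span ⟨i, rfl⟩
    have hperp : ∀ y, polar (⇑phi) v0 y = 0 → (g1 : V8 ≃ₗ[ZMod 2] V8) y + y ∈ S := by
      intro y hy
      have hp : polar (⇑phi) v0 ((g1 : V8 ≃ₗ[ZMod 2] V8) y + y) = 0 := by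
        rw [polar_add_right, polar_fixed hgv, hy, add_zero]
      obtain ⟨c, hc⟩ := eq_emb_add hp
      rw [hc]
      refine add_mem ?_ (S.smul_mem c (hmemS 0))
      rw [Prod.snd_add, hg1, P.res_spec hxz hxs hy, ← hg1]
      rcases hd y.2 with e' | e' <;> rw [e']
      · exact zero_mem S
      · exact hmemS 1
    have hle : perp phi (fixSpace g1) ≤ S := by
      rw [← range_sub_eq_perp_fixSpace phi_nondeg g1]
      rintro - ⟨y, rfl⟩
      have hy : ((g1 : V8 ≃ₗ[ZMod 2] V8) : V8 →ₗ[ZMod 2] V8) y -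
          (LinearMap.id : V8 →ₗ[ZMod 2] V8) y =
          (g1 : V8 ≃ₗ[ZMod 2] V8) y + y := by rw [LinearMap.id_apply, sub_eq_add']; rfl
      rw [LinearMap.sub_apply, hy]
      obtain ⟨⟨c, d'⟩, u⟩ := y
      rcases two_cases' d' with rfl | rfl
      · exact hperp _ (by rw [polar_v0])
      · have h0 : (((c, 1), u) : V8) = ((c, 0), u) + f0 := by simp [f0]
        rw [h0, map_add, add_add_add_comm]
        exact add_mem (hperp _ (by rw [polar_v0])) (hmemS 2)
    have h3 := Submodule.finrank_mono hle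
    have h5 : finrank (ZMod 2) S ≤ 3 := by
      have := finrank_range_le_card (R := ZMod 2) ![v0, emb d, e]
      simpa [hS, Set.finrank] using this
    unfold rk at h4
    rw [← hg1] at h4
    omega
  have hNadd : ∀ (k : O phi) (a b : U6), res k (a + b) + (a + b) =
      res k a + a + (res k b + b) := fun k a b => by rw [res_add]; abel
  -- properties of residual maps of good elements
  have props : ∀ k : O phi, k * k = 1 → (k : V8 ≃ₗ[ZMod 2] V8) v0 = v0 →
      (∀ y, polar (⇑phi) v0 y = 0 → phi ((k : V8 ≃ₗ[ZMod 2] V8) y + y) = 0) →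
      (∀ a b, fU (res k a + a) b = fU a (res k b + b)) ∧ (∀ a, fU a (res k a + a) = 0) ∧
      (∀ a, res k (res k a + a) + (res k a + a) = 0) ∧
      (∀ a b, fU (res k a + a) (res k b + b) = 0) ∧ (∀ a, qU (res k a + a) = 0) := by
    intro k hk2 hkv hkg
    have hp : ∀ a, polar (⇑phi) v0 ((k : V8 ≃ₗ[ZMod 2] V8) (emb a)) = 0 := fun a => by
      rw [polar_fixed hkv, polar_v0]; rfl
    have hRR : ∀ a, res k (res k a) = a := fun a => by
      obtain ⟨c, hc⟩ := eq_emb_add (hp a)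
      have e := congrArg (fun y : V8 => ((k : V8 ≃ₗ[ZMod 2] V8) y).2) hc
      simp only [apply_twice hk2, map_add, map_smul, hkv, emb_snd] at e
      simpa [res, v0] using e.symm
    have hsym : ∀ a b, fU (res k a + a) b = fU a (res k b + b) := fun a b => by
      rw [fU_add_left, fU_add_right, ← res_form hkv a (res k b), hRR]
    have hNN : ∀ a, res k (res k a + a) + (res k a + a) = 0 := fun a => by
      rw [res_add, hRR, add_comm a, U6_add_self]
    have hq : ∀ a, qU (res k a + a) = 0 := fun a => by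
      have e := hkg (emb a) (by rw [polar_v0]; rfl)
      rw [phi_of_perp (by rw [polar_add_right, hp a, polar_v0]; rfl), Prod.snd_add] at e
      exact e
    refine ⟨hsym, fun a => ?_, hNN, fun a b => by rw [hsym, hNN, fU_zero_right], hq⟩
    have e := hq a
    rw [qU_add, fU_comm] at e
    rw [fU_add_right, fU_self, add_zero]
    obtain ⟨c, hc⟩ := eq_emb_add (hp a)
    have e2 := O.map_app k (emb a)
    rw [phi_of_perp (hp a), phi_emb] at e2
    rw [res] at e ⊢
    rw [e2, CharTwo.add_self_eq_zero, zero_add] at e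
    exact e
  obtain ⟨hsym, halt, hNN, hts, hqN⟩ := props g1 hg2 hgv hgood
  obtain ⟨r, hr, t, ht, hrt⟩ := move_sing _ (hqN a₁) hd1
  have hr0 := nsList_spec r hr
  have ht0 := nsList_spec t ht
  have hinj : Function.Injective (fun x => tU r (tU t x)) := fun x y e => by
    have e' := congrArg (fun x => tU t (tU r x)) e
    simpa only [tU_tU] using e'
  set d2' := tU r (tU t (res g1 a₂ + a₂)) with hd2'
  obtain ⟨r', hr', t', ht', hfix, hmove⟩ := move_sing_second d2'
    (by rw [hd2', qU_tU _ _ hr0, qU_tU _ _ ht0, hqN])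
    (by rw [hd2', ← hrt, tU_form _ _ _ hr0, tU_form _ _ _ ht0, hts])
    (fun e => hd2 (hinj (by simpa only [tU_zero] using e)))
    (fun e => hd12 (hinj (hrt.trans e.symm)))
  obtain ⟨c, hc, hcs, hcres⟩ := P.exists_M hr0 ht0
  obtain ⟨c', hc', hcs', hcres'⟩ := P.exists_M (nsList_spec r' hr') (nsList_spec t' ht')
  set cc := c' * c with hcc
  have hccz : cc * z = z * cc := h.mul_comm' hc' hc
  have hccs : cc * s = s * cc := ((show Commute c' s from hcs').mul_left hcs).eq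
  set x2 := cc * x * cc⁻¹ with hx2
  have hx2z : x2 * z = z * x2 := h.conj_comm hccz hxz
  have hx2s : x2 * s = s * x2 :=
    (((show Commute cc s from hccs).mul_left hxs).mul_left
      (show Commute cc s from hccs).inv_left).eq
  have hx2x : x2 * x2 = 1 := by rw [hx2, conj_mul, hxx, mul_one, mul_inv_cancel]
  by_cases h42 : rk h x2 = 4
  swap
  · exact ⟨cc, hx2z, h42⟩
  have hg22 : h.ρ x2 * h.ρ x2 = 1 := by rw [← h.ρ_mul _ _ hx2z hx2z, hx2x, h.ρ_one]
  have hgood2 : ∀ y, polar (⇑phi) v0 y = 0 →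
      phi ((h.ρ x2 : V8 ≃ₗ[ZMod 2] V8) y + y) = 0 := by
    intro y hy
    obtain ⟨y', rfl⟩ := (h.ρ cc : V8 ≃ₗ[ZMod 2] V8).surjective y
    rw [polar_fixed (P.rho_fix hccz hccs)] at hy
    rw [← mul_app, ← Subgroup.coe_mul, ← h.ρ_mul _ _ hx2z hccz,
      show x2 * cc = cc * x by rw [hx2]; group, h.ρ_mul _ _ hccz hxz, Subgroup.coe_mul, mul_app,
      ← map_add, O.map_app]
    exact hgood y' hy
  obtain ⟨hsym', halt', hNN', hts', hqN'⟩ := props _ hg22 (P.rho_fix hx2z hx2s) hgood2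
  have htr : ∀ a, res (h.ρ x2) (res (h.ρ cc) a) + res (h.ρ cc) a =
      res (h.ρ cc) (res g1 a + a) := fun a => by
    rw [res_add, hg1, ← P.res_mul hx2z hx2s hccz hccs, ← P.res_mul hccz hccs hxz hxs,
      show x2 * cc = cc * x by rw [hx2]; group]
  have hR : ∀ a, res (h.ρ cc) a = tU r' (tU t' (tU r (tU t a))) := fun a => by
    rw [hcc, P.res_mul hc' hcs' hc hcs, hcres, hcres']
  have hu := root_unique (fun a => res (h.ρ x2) a + a) (hNadd _) hsym' halt' hNN' hts' hqN'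
    ⟨res (h.ρ cc) a₁, by show _ + _ = e1; rw [htr, hR, hrt, hfix]⟩
    ⟨res (h.ρ cc) a₂, by show _ + _ = e2; rw [htr, hR, ← hd2', hmove]⟩
  obtain ⟨g, hg, hgne⟩ := P.reduce_sig hx2z hx2s hx2x fun a => by
    have e : res (h.ρ x2) a + a = sigN a := hu a
    calc res (h.ρ x2) a = res (h.ρ x2) a + a + a := by rw [add_assoc, U6_add_self, add_zero]
      _ = a + sigN a := by rw [e, add_comm]
  refine ⟨g * cc, ?_, ?_⟩
  · rwa [show g * cc * x * (g * cc)⁻¹ = g * x2 * g⁻¹ by rw [hx2]; group]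
  · rwa [show g * cc * x * (g * cc)⁻¹ = g * x2 * g⁻¹ by rw [hx2]; group]

/-- Every involution of the centraliser has a conjugate in the centraliser not of rank four. -/
theorem reduce {x : G} (hxz : x * z = z * x) (hxx : x * x = 1) :
    ∃ g, g * x * g⁻¹ * z = z * (g * x * g⁻¹) ∧ rk h (g * x * g⁻¹) ≠ 4 := by
  by_cases h4 : rk h x = 4
  swap
  · exact ⟨1, by simpa using hxz, by simpa using h4⟩
  have hg1 : h.ρ x ≠ 1 := by
    intro e
    unfold rk at h4
    have hsum := phi_nondeg.finrank_add_perp (fixSpace (h.ρ x))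
    have hfix : fixSpace (h.ρ x) = ⊤ := eq_top_iff.mpr fun y _ => mem_fixSpace.mpr (by rw [e]; rfl)
    rw [h4, hfix, finrank_top, finrank_V8] at hsum
    omega
  have hg2 : h.ρ x * h.ρ x = 1 := by rw [← h.ρ_mul _ _ hxz hxz, hxx, h.ρ_one]
  obtain ⟨v, hv, hv0, hvq, hgood⟩ := exists_good (h.ρ_mem _ hxz) hg2 hg1
  obtain ⟨k, hk, hkv⟩ := exists_K_map hv0 hvq
  obtain ⟨c, hc, rfl⟩ := h.ρ_surj k hk
  set x1 := c * x * c⁻¹ with hx1
  have hx1z : x1 * z = z * x1 := h.conj_comm hc hxz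
  have hx1x : x1 * x1 = 1 := by rw [hx1, conj_mul, hxx, mul_one, mul_inv_cancel]
  by_cases h41 : rk h x1 = 4
  swap
  · exact ⟨c, hx1z, h41⟩
  have hcomm : ∀ y, (h.ρ x1 : V8 ≃ₗ[ZMod 2] V8) ((h.ρ c : V8 ≃ₗ[ZMod 2] V8) y) =
      (h.ρ c : V8 ≃ₗ[ZMod 2] V8) ((h.ρ x : V8 ≃ₗ[ZMod 2] V8) y) := fun y => by
    rw [← mul_app, ← mul_app, ← Subgroup.coe_mul, ← Subgroup.coe_mul,
      ← h.ρ_mul _ _ hx1z hc, ← h.ρ_mul _ _ hc hxz, show x1 * c = c * x by rw [hx1]; group]
  rw [← range_sub_eq_perp_fixSpace phi_nondeg] at hv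
  obtain ⟨y0, hy0⟩ := hv
  simp only [LinearMap.sub_apply, LinearEquiv.coe_coe, LinearMap.id_apply, sub_eq_add'] at hy0
  obtain ⟨r, hr, hπr⟩ := h.π_surj ((h.ρ c : V8 ≃ₗ[ZMod 2] V8) y0)
  set k1 := x1 * r * x1⁻¹ * r⁻¹ with hk1
  have hk1Q : k1 ∈ Q := mul_mem (h.norm x1 hx1z r hr) (inv_mem hr)
  have hπk : h.π k1 = v0 := by
    rw [hk1, h.π_mul _ (h.norm x1 hx1z r hr) _ (inv_mem hr), h.π_inv hr, h.ρ_π x1 hx1z r hr, hπr,
      hcomm, ← map_add, hy0, hkv]
  have hx1s : x1 * s = s * x1 := by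
    have hkk : k1 * k1 = 1 := (h.sq_one_iff hk1Q).mpr (by rw [hπk, phi_v0])
    have hck : Commute x1 k1 := by
      show x1 * k1 = k1 * x1
      rw [← mul_inv_eq_iff_eq_mul]
      calc x1 * k1 * x1⁻¹ = (x1 * x1) * r * (x1 * x1)⁻¹ * (x1 * r * x1⁻¹)⁻¹ := by
            rw [hk1]; group
        _ = k1⁻¹ := by rw [hx1x, hk1]; group
        _ = k1 := inv_eq_of_mul_eq_one_right hkk
    rcases h.π_eq P.hs hk1Q (by rw [hπk, P.hπ]) with e | e <;> rw [e] at hck
    · exact hck.eq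
    · have e2 := hck.mul_right (show Commute x1 z from hx1z)
      rw [mul_assoc, h.zz, mul_one] at e2
      exact e2.eq
  obtain ⟨g, hg, hgne⟩ := P.reduce_good hx1z hx1s hx1x h41 fun y hy => by
    obtain ⟨y', rfl⟩ := (h.ρ c : V8 ≃ₗ[ZMod 2] V8).surjective y
    rw [← hkv, O.polar_app] at hy
    rw [hcomm, ← map_add, O.map_app]
    exact hgood y' hy
  refine ⟨g * c, ?_, ?_⟩
  · rwa [show g * c * x * (g * c)⁻¹ = g * x1 * g⁻¹ by rw [hx1]; group]
  · rwa [show g * c * x * (g * c)⁻¹ = g * x1 * g⁻¹ by rw [hx1]; group]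

end Pair

end Cfsg.Agent.H73.Conway
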