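import Cfsg.Agent.Orthogonal.StdForms
import Cfsg.Agent.Orthogonal.Eichler
import Cfsg.Agent.Orthogonal.Dickson
import Cfsg.Agent.Orthogonal.POmega
import Cfsg.Agent.Orthogonal.Order

/-!
The hyperbolic quadratic space of dimension eight over two elements as `(c, d), u`, with `u` in the
hyperbolic space of dimension six.
-/

set_option autoImplicit false

namespace Cfsg.Agent.H73.Conway

open QuadraticMap Cfsg.Agent.Orthogonal

/-- The six-dimensional space, as three hyperbolic planes. -/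
abbrev U6 : Type := (ZMod 2 × ZMod 2) × (ZMod 2 × ZMod 2) × ZMod 2 × ZMod 2

/-- The eight-dimensional space. -/
abbrev V8 : Type := (ZMod 2 × ZMod 2) × U6

/-- The form on `U6`. -/
def qU : U6 → ZMod 2 := fun u => u.1.1 * u.1.2 + u.2.1.1 * u.2.1.2 + u.2.2.1 * u.2.2.2

/-- Its polar form. -/
def fU : U6 → U6 → ZMod 2 := fun u w =>
  u.1.1 * w.1.2 + w.1.1 * u.1.2 + (u.2.1.1 * w.2.1.2 + w.2.1.1 * u.2.1.2) +
    (u.2.2.1 * w.2.2.2 + w.2.2.1 * u.2.2.2)

/-- The coordinate identification. -/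
def coordEquiv : V8 ≃ₗ[ZMod 2] (Fin 4 ⊕ Fin 4 → ZMod 2) where
  toFun v := Sum.elim ![v.1.1, v.2.1.1, v.2.2.1.1, v.2.2.2.1] ![v.1.2, v.2.1.2, v.2.2.1.2, v.2.2.2.2]
  invFun g := ((g (.inl 0), g (.inr 0)),
    (g (.inl 1), g (.inr 1)), (g (.inl 2), g (.inr 2)), g (.inl 3), g (.inr 3))
  map_add' v w := by
    funext i
    rcases i with i | i <;> fin_cases i <;> rfl
  map_smul' c v := by
    funext i
    rcases i with i | i <;> fin_cases i <;> rfl
  left_inv v := rfl
  right_inv g := by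
    funext i
    rcases i with i | i <;> fin_cases i <;> rfl

/-- The quadratic form. -/
def phi : QuadraticForm (ZMod 2) V8 :=
  (formPlus (ZMod 2) 4).comp coordEquiv.toLinearMap

theorem phi_apply (v : V8) : phi v = v.1.1 * v.1.2 + qU v.2 := by
  simp [phi, coordEquiv, formPlus_coe, Cfsg.quadFormPlus, qU, Fin.sum_univ_four]
  ring

theorem polar_qU (u w : U6) : qU (u + w) - qU u - qU w = fU u w := by
  simp only [qU, fU, Prod.fst_add, Prod.snd_add]
  ring

theorem polar_phi (v w : V8) :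
    polar (⇑phi) v w = v.1.1 * w.1.2 + w.1.1 * v.1.2 + fU v.2 w.2 := by
  rw [polar, phi_apply, phi_apply, phi_apply, ← polar_qU]
  simp only [Prod.fst_add, Prod.snd_add]
  ring

theorem phi_nondeg : Nondeg phi := by
  intro x hx
  apply coordEquiv.injective
  rw [map_zero]
  refine formPlus_nondeg (ZMod 2) 4 _ fun y => ?_
  have := hx (coordEquiv.symm y)
  simpa [phi, polar, map_add] using this

theorem finrank_V8 : Module.finrank (ZMod 2) V8 = 8 := by
  rw [coordEquiv.finrank_eq, Module.finrank_fintype_fun_eq_card]; rfl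

theorem two_eq_zero : (2 : ZMod 2) = 0 := rfl

theorem gen_phi : reflGroup phi = ⊤ :=
  reflGroup_eq_top phi_nondeg (Or.inr (by rw [finrank_V8]; norm_num))

/-- The kernel of the Dickson homomorphism. -/
theorem mem_K_iff (g : O phi) : g ∈ commutator (O phi) ↔ dickson phi_nondeg gen_phi g = 1 := by
  rw [commutator_eq_ker_dickson phi_nondeg gen_phi two_eq_zero, MonoidHom.mem_ker]

theorem rO_mul_mem_K {a b : V8} (ha : phi a ≠ 0) (hb : phi b ≠ 0) :
    rO phi a * rO phi b ∈ commutator (O phi) := by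
  rw [mem_K_iff, map_mul, dickson_rO _ _ ha, dickson_rO _ _ hb]; rfl

theorem rO_not_mem_K {a : V8} (ha : phi a ≠ 0) : rO phi a ∉ commutator (O phi) := by
  rw [mem_K_iff, dickson_rO _ _ ha]; decide

theorem card_O_eight : Nat.card (O phi) = 348364800 := by
  have h := card_O_plus 3 (formPlus (ZMod 2) 4) (formPlus_nondeg (ZMod 2) 4)
    (formPlus_frame (ZMod 2) 4) (formPlus_aniso (ZMod 2) 4) (finrank_formPlus (ZMod 2) 4)
  rw [Nat.card_congr (congrO (Q := phi) (Q' := formPlus (ZMod 2) 4) coordEquiv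
    (fun _ => rfl)).toEquiv, h, Nat.card_zmod]
  rfl

theorem card_K : Nat.card (commutator (O phi)) = 174182400 := by
  have h1 := index_commutator_eq_two phi_nondeg gen_phi two_eq_zero (by rw [finrank_V8]; norm_num)
  have h2 := Subgroup.card_mul_index (commutator (O phi))
  rw [h1, card_O_eight] at h2
  omega

theorem card_omega_eight :
    Nat.card (Cfsg.Omega (ZMod 2) (Cfsg.quadFormPlus 4 (ZMod 2))) = 174182400 := by
  rw [← formPlus_coe, Nat.card_congr (omegaEquiv (formPlus (ZMod 2) 4)).toEquiv, ← card_K]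
  refine Nat.card_congr ?_
  have e := congrO (Q := phi) (Q' := formPlus (ZMod 2) 4) coordEquiv (fun _ => rfl)
  refine ((e.subgroupMap _).trans (MulEquiv.subgroupCongr ?_)).toEquiv.symm
  simp only [commutator_def, Subgroup.map_commutator]
  rw [Subgroup.map_top_of_surjective _ e.surjective]

theorem card_O_minus_eight : Nat.card (O (formMinus (ZMod 2) 3 1 1)) = 394813440 := by
  rw [card_O_minus 3 (formMinus (ZMod 2) 3 1 1) (formMinus_nondeg 3 (by decide))
    (formMinus_frame (ZMod 2) 3 1 1) (formMinus_aniso (ZMod 2) 3 (by decide))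
    (finrank_formMinus (ZMod 2) 3), Nat.card_zmod]
  rfl

/-- The chosen singular vector. -/
def v0 : V8 := ((1, 0), 0)

/-- A partner. -/
def f0 : V8 := ((0, 1), 0)

/-- The embedding. -/
def emb (u : U6) : V8 := ((0, 0), u)

@[simp] theorem emb_snd (u : U6) : (emb u).2 = u := rfl

theorem v0_ne : v0 ≠ 0 := by decide

theorem phi_v0 : phi v0 = 0 := by rw [phi_apply]; decide

theorem polar_v0 (y : V8) : polar (⇑phi) v0 y = y.1.2 := by
  rw [polar_phi]; simp [v0, fU]

theorem phi_emb (u : U6) : phi (emb u) = qU u := by rw [phi_apply]; simp [emb]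

theorem polar_emb (u : U6) (y : V8) : polar (⇑phi) (emb u) y = fU u y.2 := by
  rw [polar_phi]; simp [emb]

theorem phi_of_perp {y : V8} (h : polar (⇑phi) v0 y = 0) : phi y = qU y.2 := by
  rw [polar_v0] at h; rw [phi_apply, h, mul_zero, zero_add]

theorem polar_of_perp {x y : V8} (hx : polar (⇑phi) v0 x = 0) (hy : polar (⇑phi) v0 y = 0) :
    polar (⇑phi) x y = fU x.2 y.2 := by
  rw [polar_v0] at hx hy; rw [polar_phi, hx, hy]; ring

theorem cases_of_snd {y : V8} (h : polar (⇑phi) v0 y = 0) (h2 : y.2 = 0) : y = 0 ∨ y = v0 := by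
  obtain ⟨⟨c, d⟩, u⟩ := y
  rw [polar_v0] at h
  simp only at h h2
  subst h h2
  revert c; decide

theorem eq_emb_add {y : V8} (h : polar (⇑phi) v0 y = 0) : ∃ c : ZMod 2, y = emb y.2 + c • v0 := by
  obtain ⟨⟨c, d⟩, u⟩ := y
  rw [polar_v0] at h
  simp only at h
  subst h
  exact ⟨c, by simp [emb, v0]⟩

end Cfsg.Agent.H73.Conway
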