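import Cfsg.Agent.H73.Conway.UPairs

/-!
Finite facts on the six-dimensional hyperbolic space over two elements.
-/

set_option autoImplicit false
set_option linter.unusedVariables false
set_option maxRecDepth 100000
set_option synthInstance.maxSize 4000
set_option synthInstance.maxHeartbeats 400000

namespace Cfsg.Agent.H73.Conway

theorem two_cases' : ∀ a : ZMod 2, a = 0 ∨ a = 1 := by decide

theorem U6_add_self : ∀ u : U6, u + u = 0 := by decide +kernel

theorem qU_zero : qU 0 = 0 := by decide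

theorem fU_self : ∀ u : U6, fU u u = 0 := by decide +kernel

theorem fU_comm (u w : U6) : fU u w = fU w u := by
  simp only [fU]; ring

theorem fU_add_left (u u' w : U6) : fU (u + u') w = fU u w + fU u' w := by
  simp only [fU, Prod.fst_add, Prod.snd_add]; ring

theorem fU_add_right (u w w' : U6) : fU u (w + w') = fU u w + fU u w' := by
  rw [fU_comm u, fU_add_left, fU_comm w, fU_comm w']

theorem fU_zero_left (u : U6) : fU 0 u = 0 := by simp [fU]

theorem fU_zero_right (u : U6) : fU u 0 = 0 := by simp [fU]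

theorem qU_add (u w : U6) : qU (u + w) = qU u + qU w + fU u w := by
  rw [← polar_qU]; ring

theorem fU_smul_left (c : ZMod 2) (u w : U6) : fU (c • u) w = c * fU u w := by
  rcases two_cases' c with rfl | rfl <;> simp [fU_zero_left]

theorem qU_smul (c : ZMod 2) (u : U6) : qU (c • u) = c * qU u := by
  rcases two_cases' c with rfl | rfl <;> simp [qU_zero]

theorem tU_add (r x y : U6) : tU r (x + y) = tU r x + tU r y := by
  rw [tU, tU, tU, fU_add_right, add_smul]; abel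

theorem tU_zero (r : U6) : tU r 0 = 0 := by rw [tU, fU_zero_right, zero_smul, add_zero]

theorem tU_tU (r x : U6) : tU r (tU r x) = x := by
  rw [tU, tU, fU_add_right, fU_comm r (fU r x • r), fU_smul_left, fU_self, mul_zero, add_zero,
    add_assoc, U6_add_self, add_zero]

theorem tU_form (r x y : U6) (hr : qU r = 1) : fU (tU r x) (tU r y) = fU x y := by
  simp only [tU, fU_add_left, fU_add_right, fU_smul_left, fU_comm x (fU r y • r),
    fU_comm r (fU r y • r), fU_self, fU_comm r x]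
  generalize fU x r = a, fU r y = b, fU x y = c
  revert a b c
  decide

theorem qU_tU (r x : U6) (hr : qU r = 1) : qU (tU r x) = qU x := by
  rw [tU, qU_add, qU_smul, fU_comm x, fU_smul_left, hr]
  generalize fU r x = a, qU x = b
  revert a b
  decide

/-- The first standard singular vector. -/
def e1 : U6 := ((1, 0), (0, 0), 0, 0)

/-- The second standard singular vector. -/
def e2 : U6 := ((0, 0), (1, 0), 0, 0)

/-- The standard non-orthogonal nonsingular pair. -/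
def a0 : U6 := ((0, 0), (0, 0), 1, 1)

/-- The standard non-orthogonal nonsingular pair. -/
def u0 : U6 := ((0, 0), (1, 1), 1, 0)

theorem move_sing : ∀ a : U6, qU a = 0 → a ≠ 0 →
    ∃ r ∈ nsList, ∃ s ∈ nsList, tU r (tU s a) = e1 := by decide +kernel

theorem move_sing_second : ∀ u : U6, qU u = 0 → fU e1 u = 0 → u ≠ 0 → u ≠ e1 →
    ∃ r ∈ nsList, ∃ s ∈ nsList, tU r (tU s e1) = e1 ∧ tU r (tU s u) = e2 := by decide +kernel

theorem move_first : ∀ a : U6, qU a = 1 →
    ∃ r ∈ nsList, ∃ s ∈ nsList, tU r (tU s a) = a0 := by decide +kernel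

theorem move_second : ∀ u : U6, qU u = 1 → fU a0 u = 1 →
    ∃ r ∈ nsList, ∃ s ∈ nsList, tU r (tU s a0) = a0 ∧ tU r (tU s u) = u0 := by decide +kernel

/-- Some image of a nonzero vector is not orthogonal to it. -/
theorem not_orth_image : ∀ u : U6, u ≠ 0 →
    ∃ r ∈ nsList, ∃ s ∈ nsList, fU u (tU r (tU s u)) = 1 := by decide +kernel

theorem repr_aux (p₁ p₂ p₃ p₄ p₅ p₆ : ZMod 2) (x : U6) :
    fU ((p₂, p₁), (p₄, p₃), p₆, p₅) x = x.1.1 * p₁ + x.1.2 * p₂ + x.2.1.1 * p₃ + x.2.1.2 * p₄ +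
      x.2.2.1 * p₅ + x.2.2.2 * p₆ := by
  simp only [fU]; ring

theorem basis_expand (x : U6) : x = x.1.1 • ((1, 0), (0, 0), 0, 0) + x.1.2 • ((0, 1), (0, 0), 0, 0) +
    x.2.1.1 • ((0, 0), (1, 0), 0, 0) + x.2.1.2 • ((0, 0), (0, 1), 0, 0) +
    x.2.2.1 • ((0, 0), (0, 0), 1, 0) + x.2.2.2 • ((0, 0), (0, 0), 0, 1) := by
  obtain ⟨⟨a, b⟩, ⟨c, d⟩, e, f⟩ := x
  simp

/-- Every linear functional is given by the polar form. -/
theorem exists_repr (g : U6 → ZMod 2) (hg : ∀ x y, g (x + y) = g x + g y) :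
    ∃ w : U6, ∀ x, g x = fU w x := by
  refine ⟨((g ((0, 1), (0, 0), 0, 0), g ((1, 0), (0, 0), 0, 0)),
    (g ((0, 0), (0, 1), 0, 0), g ((0, 0), (1, 0), 0, 0)),
    g ((0, 0), (0, 0), 0, 1), g ((0, 0), (0, 0), 1, 0)), fun x => ?_⟩
  have h0 : g 0 = 0 := by
    have := hg 0 0
    rw [add_zero] at this
    exact left_eq_add.mp this
  have hsm : ∀ (b : ZMod 2) (e : U6), g (b • e) = b * g e := by
    intro b e
    rcases two_cases' b with rfl | rfl <;> simp [h0]
  conv_lhs => rw [basis_expand x]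
  rw [hg, hg, hg, hg, hg, hsm, hsm, hsm, hsm, hsm, hsm, repr_aux]

theorem fU_inj (w w' : U6) (h : ∀ x, fU w x = fU w' x) : w = w' := by
  have h1 := h ((1, 0), (0, 0), 0, 0)
  have h2 := h ((0, 1), (0, 0), 0, 0)
  have h3 := h ((0, 0), (1, 0), 0, 0)
  have h4 := h ((0, 0), (0, 1), 0, 0)
  have h5 := h ((0, 0), (0, 0), 1, 0)
  have h6 := h ((0, 0), (0, 0), 0, 1)
  obtain ⟨⟨a, b⟩, ⟨c, d⟩, e, f⟩ := w
  obtain ⟨⟨a', b'⟩, ⟨c', d'⟩, e', f'⟩ := w'
  simp [fU] at h1 h2 h3 h4 h5 h6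
  simp [h1, h2, h3, h4, h5, h6]

/-- Two independent vectors take all pairs of values. -/
theorem pair_values {a u : U6} (ha : a ≠ 0) (hu : u ≠ 0) (hau : a ≠ u) (i j : ZMod 2) :
    ∃ x : U6, fU x a = i ∧ fU x u = j := by
  have key : ∀ p : U6, p ≠ 0 → ∃ x, fU x p = 1 := fun p hp => by
    by_contra hno
    push Not at hno
    refine hp (fU_inj p 0 fun x => ?_)
    rw [fU_zero_left, fU_comm, (two_cases' (fU x p)).resolve_right (hno x)]
  obtain ⟨xa, hxa⟩ := key a ha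
  obtain ⟨xu, hxu⟩ := key u hu
  obtain ⟨xd, hxd⟩ := key (a + u) (fun e => hau (by
    rw [← add_zero a, ← U6_add_self u, ← add_assoc, e, zero_add]))
  rw [fU_add_right] at hxd
  obtain ⟨p, hp⟩ : ∃ p, fU p a = 1 ∧ fU p u = 0 := by
    rcases two_cases' (fU xd a) with e | e <;> rw [e] at hxd
    · rcases two_cases' (fU xa u) with e' | e'
      · exact ⟨xa, hxa, e'⟩
      · exact ⟨xa + xd, by rw [fU_add_left, hxa, e, add_zero], by
          rw [fU_add_left, e', show fU xd u = 1 by simpa using hxd]; rfl⟩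
    · exact ⟨xd, e, by simpa using hxd⟩
  obtain ⟨r, hr⟩ : ∃ r, fU r a = 0 ∧ fU r u = 1 := by
    rcases two_cases' (fU xu a) with e | e
    · exact ⟨xu, e, hxu⟩
    · exact ⟨xu + p, by rw [fU_add_left, e, hp.1]; rfl, by rw [fU_add_left, hxu, hp.2, add_zero]⟩
  refine ⟨i • p + j • r, ?_, ?_⟩ <;>
    rw [fU_add_left, fU_smul_left, fU_smul_left] <;> simp [hp.1, hp.2, hr.1, hr.2]

/-- An element of order seven. -/
def f7U (u : U6) : U6 :=
  ((u.2.2.1, u.2.2.2 + u.1.2), (u.1.1 + u.2.2.1, u.1.2), u.2.1.1, u.2.1.2)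

theorem f7U_iter : ∀ u : U6, f7U^[7] u = u := by decide +kernel

theorem qU_f7U : ∀ u : U6, qU (f7U u) = qU u := by decide +kernel

theorem f7U_fixed : ∀ u : U6, f7U u = u → u = 0 := by decide +kernel

theorem f7U_surj : ∀ u : U6, ∃ b : U6, f7U b + b = u := by decide +kernel

/-- A vector generating `U6` under `f7U`. -/
def g7 : U6 := ((1, 1), (0, 0), 0, 0)

theorem isometry_orbit : ∀ y : U6, qU y = qU g7 →
    fU (f7U y) y = fU (f7U g7) g7 → fU (f7U (f7U y)) y = fU (f7U (f7U g7)) g7 →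
    fU (f7U (f7U (f7U y))) y = fU (f7U (f7U (f7U g7))) g7 →
    ∃ i : Fin 7, f7U^[i.val] g7 = y := by decide +kernel

theorem orbit_twice : ∀ i : Fin 7, f7U^[i.val] (f7U^[i.val] g7) = g7 → i.val = 0 := by
  decide +kernel

theorem g7_basis :
    ((1, 0), (0, 0), 0, 0) = f7U^[0] g7 + f7U^[1] g7 + f7U^[2] g7 + f7U^[4] g7 ∧
    ((0, 1), (0, 0), 0, 0) = f7U^[1] g7 + f7U^[2] g7 + f7U^[4] g7 ∧
    ((0, 0), (1, 0), 0, 0) = f7U^[1] g7 + f7U^[2] g7 + f7U^[3] g7 + f7U^[5] g7 ∧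
    ((0, 0), (0, 1), 0, 0) = f7U^[1] g7 + f7U^[3] g7 + f7U^[4] g7 + f7U^[5] g7 ∧
    (((0, 0), (0, 0), 1, 0) : U6) = f7U^[0] g7 + f7U^[1] g7 + f7U^[5] g7 ∧
    (((0, 0), (0, 0), 0, 1) : U6) = f7U^[0] g7 + f7U^[1] g7 + f7U^[3] g7 := by decide +kernel

end Cfsg.Agent.H73.Conway
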