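import Cfsg.Agent.H73.Conway.Space

/-!
Reflections of the six-dimensional hyperbolic space over two elements.
-/

set_option autoImplicit false
set_option maxRecDepth 100000
set_option synthInstance.maxSize 4000
set_option synthInstance.maxHeartbeats 400000

namespace Cfsg.Agent.H73.Conway

/-- Reflection on `U6`. -/
def tU (a x : U6) : U6 := x + fU a x • a

/-- The nonsingular vectors. -/
def nsList : List U6 :=
  [((0, 0), (0, 0), 1, 1),
    ((0, 0), (1, 1), 0, 0),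
    ((1, 1), (0, 0), 0, 0),
    ((0, 0), (0, 1), 1, 1),
    ((0, 0), (1, 0), 1, 1),
    ((0, 0), (1, 1), 0, 1),
    ((0, 0), (1, 1), 1, 0),
    ((0, 1), (0, 0), 1, 1),
    ((0, 1), (1, 1), 0, 0),
    ((1, 0), (0, 0), 1, 1),
    ((1, 0), (1, 1), 0, 0),
    ((1, 1), (0, 0), 0, 1),
    ((1, 1), (0, 0), 1, 0),
    ((1, 1), (0, 1), 0, 0),
    ((1, 1), (1, 0), 0, 0),
    ((0, 1), (0, 1), 1, 1),
    ((0, 1), (1, 0), 1, 1),
    ((0, 1), (1, 1), 0, 1),
    ((0, 1), (1, 1), 1, 0),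
    ((1, 0), (0, 1), 1, 1),
    ((1, 0), (1, 0), 1, 1),
    ((1, 0), (1, 1), 0, 1),
    ((1, 0), (1, 1), 1, 0),
    ((1, 1), (0, 1), 0, 1),
    ((1, 1), (0, 1), 1, 0),
    ((1, 1), (1, 0), 0, 1),
    ((1, 1), (1, 0), 1, 0),
    ((1, 1), (1, 1), 1, 1)]

theorem nsList_spec : ∀ a ∈ nsList, qU a = 1 := by decide +kernel

set_option maxHeartbeats 4000000 in
theorem moved_aux : ∀ x y : U6, y ≠ 0 → y ≠ x →
    ∃ a ∈ nsList, ∃ b ∈ nsList, tU a (tU b x) = x ∧ tU a (tU b y) ≠ y := by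
  decide +kernel

/-- What is fixed by the even stabiliser of `x` is `0` or `x`. -/
theorem fixed_by_stab (x y : U6)
    (h : ∀ a b : U6, qU a = 1 → qU b = 1 → tU a (tU b x) = x → tU a (tU b y) = y) :
    y = 0 ∨ y = x := by
  by_contra hne
  push Not at hne
  obtain ⟨a, ha, b, hb, hx, hy⟩ := moved_aux x y hne.1 hne.2
  exact hy (h a b (nsList_spec a ha) (nsList_spec b hb) hx)

end Cfsg.Agent.H73.Conway
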