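import Cfsg.Agent.H73.Conway.Sig

/-!
The elements `q b` of `W`, the centraliser in `W` of a standard involution and the elements
moving `s` to `s z`.
-/

set_option autoImplicit false
set_option linter.unusedSectionVars false
set_option linter.unusedVariables false

namespace Cfsg.Agent.H73.Conway

open QuadraticMap Cfsg.Agent.Orthogonal Cfsg.Agent.H92.ExtraForm

variable {G : Type*} [Group G] [Finite G] {z : G} {Q : Subgroup G}

/-- The elements of `W`. -/
def InW (z : G) (Q : Subgroup G) (s w g : G) : Prop :=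
  ∃ q b, InA Q s q ∧ InB z Q w b ∧ g = q * b

theorem fU_smul_right (c : ZMod 2) (u w : U6) : fU u (c • w) = c * fU u w := by
  rw [fU_comm, fU_smul_left, fU_comm]

theorem eq_of_add_zero_U {a b : U6} (e : a + b = 0) : a = b := by
  calc a = a + (b + b) := by rw [U6_add_self, add_zero]
    _ = b := by rw [← add_assoc, e, zero_add]

/-- A functional vanishing on the common kernel of two independent ones is a combination. -/
theorem span_of_ker {a u A B : U6} (ha : a ≠ 0) (hau : a ≠ u) (hu : u ≠ 0)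
    (H : ∀ a' u', fU a' (a + u) + fU u' a = 0 → fU a' u + fU u' (a + u) = 0 →
      fU a' A + fU u' B = 0) :
    ∃ l m : ZMod 2, A = l • (a + u) + m • u ∧ B = l • a + m • (a + u) := by
  have hau' : a + u ≠ 0 := fun e => hau (eq_of_add_zero_U e)
  have hne : a ≠ a + u := fun e => hu (left_eq_add.mp e)
  obtain ⟨p1, hp1a, hp1c⟩ := pair_values ha hau' hne 1 0
  obtain ⟨p2, hp2a, hp2c⟩ := pair_values ha hau' hne 0 1
  refine ⟨fU p1 B, fU p2 B, ?_, ?_⟩
  · refine fU_inj _ _ fun x => ?_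
    have e := H x (fU x (a + u) • p1 + fU x u • p2)
      (by rw [fU_add_left, fU_smul_left, fU_smul_left, hp1a, hp2a, mul_one, mul_zero, add_zero,
        CharTwo.add_self_eq_zero])
      (by rw [fU_add_left _ _ (a + u), fU_smul_left, fU_smul_left, hp1c, hp2c, mul_one, mul_zero,
        zero_add, CharTwo.add_self_eq_zero])
    rw [fU_add_left _ _ B, fU_smul_left, fU_smul_left] at e
    rw [fU_comm A x, CharTwo.add_eq_zero.mp e, fU_add_left, fU_smul_left, fU_smul_left,
      fU_comm (a + u) x, fU_comm u x]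
    ring
  · refine fU_inj _ _ fun x => ?_
    have e := H 0 (x + fU x a • p1 + fU x (a + u) • p2)
      (by rw [fU_zero_left, fU_add_left, fU_add_left, fU_smul_left, fU_smul_left, hp1a, hp2a,
        mul_one, mul_zero, add_zero, zero_add, CharTwo.add_self_eq_zero])
      (by rw [fU_zero_left, fU_add_left _ _ (a + u), fU_add_left _ _ (a + u), fU_smul_left,
        fU_smul_left, hp1c, hp2c, mul_one, mul_zero, add_zero, zero_add, CharTwo.add_self_eq_zero])
    rw [fU_zero_left, zero_add, fU_add_left, fU_add_left, fU_smul_left, fU_smul_left, add_assoc] at e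
    rw [fU_comm B x, CharTwo.add_eq_zero.mp e, fU_add_left, fU_smul_left, fU_smul_left,
      fU_comm a x, fU_comm (a + u) x]
    ring

namespace Pair

variable {h : Setup z Q} {s w : G} (P : Pair h s w)
include P

theorem inv_tt (i j : ZMod 2) : (tt z s i j)⁻¹ = tt z s i j :=
  inv_eq_of_mul_eq_one_left (by
    rw [P.tt_mul, CharTwo.add_self_eq_zero, CharTwo.add_self_eq_zero]; simp [tt, zp])

theorem W_comm_zs {g : G} (hg : InW z Q s w g) : g * z = z * g ∧ g * s = s * g := by
  obtain ⟨q, b, hq, hb, rfl⟩ := hg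
  exact ⟨h.mul_comm' (P.zc hq) hb.2, ((show Commute q s from hq.2).mul_left (P.sB hb)).eq⟩

theorem pair_unique {q b q' b' : G} (hq : InA Q s q) (hb : InB z Q w b) (hq' : InA Q s q')
    (hb' : InB z Q w b') (e : q * b = q' * b') :
    alpha h q = alpha h q' ∧ theta h b = theta h b' := by
  obtain ⟨h1, h2⟩ := P.eq_of_mem_inter (q := q'⁻¹ * q) (b := b' * b⁻¹)
    (mul_mem (inv_mem hq'.1) hq.1) (P.InB_mul hb' (P.InB_inv hb)) (by
      calc q'⁻¹ * q = q'⁻¹ * (q * b) * b⁻¹ := by group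
        _ = b' * b⁻¹ := by rw [e]; group)
  rw [P.alpha_mul (inv_mem hq'.1) hq.1, P.alpha_inv hq'.1] at h1
  rw [P.theta_mul hb' (P.InB_inv hb), P.theta_inv hb] at h2
  exact ⟨(eq_of_add_zero_U h1).symm, (eq_of_add_zero_U h2).symm⟩

theorem W_mul {g g' : G} (hg : InW z Q s w g) (hg' : InW z Q s w g') : InW z Q s w (g * g') := by
  obtain ⟨q, b, hq, hb, rfl⟩ := hg
  obtain ⟨q', b', hq', hb', rfl⟩ := hg'
  have e := P.comm_AB hq' hb
  refine ⟨q * (tt z s (fU (alpha h q') (theta h b)) (fU (alpha h q') (theta h b)) * q'), b * b',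
    P.InA_mul hq (P.InA_mul (P.tt_InA _ _) hq'), P.InB_mul hb hb', ?_⟩
  have e' : b * q' = tt z s (fU (alpha h q') (theta h b)) (fU (alpha h q') (theta h b)) * q' * b := by
    calc b * q' = (q' * b * q'⁻¹ * b⁻¹)⁻¹ * (q' * b) := by group
      _ = _ := by rw [e, P.inv_tt]; group
  calc q * b * (q' * b') = q * (b * q') * b' := by group
    _ = _ := by rw [e']; group

theorem W_one : InW z Q s w 1 :=
  ⟨1, 1, ⟨one_mem Q, by simp⟩, ⟨by simp, by simp⟩, (mul_one 1).symm⟩

theorem W_inv {g : G} (hg : InW z Q s w g) : InW z Q s w g⁻¹ := by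
  obtain ⟨q, b, hq, hb, rfl⟩ := hg
  rw [mul_inv_rev]
  exact P.W_mul ⟨1, b⁻¹, ⟨one_mem Q, by simp⟩, P.InB_inv hb, (one_mul _).symm⟩
    ⟨q⁻¹, 1, P.InA_inv hq, ⟨by simp, by simp⟩, (mul_one _).symm⟩

theorem W_pow_four {g : G} (hg : InW z Q s w g) : g ^ 4 = 1 := by
  obtain ⟨q, b, hq, hb, rfl⟩ := hg
  rw [show (q * b) ^ 4 = q * b * (q * b) * (q * b * (q * b)) by simp [pow_succ, mul_assoc],
    P.sq_AB hq hb, P.tt_mul, CharTwo.add_self_eq_zero, CharTwo.add_self_eq_zero]
  simp [tt, zp]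

/-- Commutation in `W` in coordinates. -/
theorem commute_W {q b q' b' : G} (hq : InA Q s q) (hb : InB z Q w b) (hq' : InA Q s q')
    (hb' : InB z Q w b') :
    q * b * (q' * b') = q' * b' * (q * b) ↔
      (fU (alpha h q) (alpha h q') + fU (alpha h q') (theta h b) +
        fU (alpha h q) (theta h b') = 0 ∧
       fU (alpha h q') (theta h b) + fU (alpha h q) (theta h b') +
        fU (theta h b) (theta h b') = 0) := by
  set c1 := fU (alpha h q') (theta h b) with hc1
  set c2 := fU (alpha h q) (theta h b') with hc2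
  have e1' : b * q' = tt z s c1 c1 * (q' * b) := by
    calc b * q' = (q' * b * q'⁻¹ * b⁻¹)⁻¹ * (q' * b) := by group
      _ = _ := by rw [P.comm_AB hq' hb, P.inv_tt, hc1]
  have e2' : q * b' = tt z s c2 c2 * (b' * q) := by
    calc q * b' = q * b' * q⁻¹ * b'⁻¹ * (b' * q) := by group
      _ = _ := by rw [P.comm_AB hq hb', hc2]
  have e3 : q * q' = q' * q * tt z s (fU (alpha h q) (alpha h q')) 0 := by
    rw [fU_comm]; exact P.comm_AA hq' hq
  have e4 : b * b' = b' * b * tt z s 0 (fU (theta h b) (theta h b')) := by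
    rw [fU_comm]; exact P.comm_BB hb' hb
  generalize fU (alpha h q) (alpha h q') = c3 at e3 ⊢
  generalize fU (theta h b) (theta h b') = c4 at e4 ⊢
  have ca : ∀ {g : G}, InA Q s g → ∀ i j, g * tt z s i j = tt z s i j * g :=
    fun hg i j => P.tt_comm_A hg i j
  have cb : ∀ {g : G}, InB z Q w g → ∀ i j, g * tt z s i j = tt z s i j * g :=
    fun hg i j => P.tt_comm_B hg i j
  have key : q * b * (q' * b') =
      q' * b' * (q * b) * tt z s (c3 + c1 + c2) (c1 + c2 + c4) := by
    calc q * b * (q' * b') = q * (b * q') * b' := by group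
      _ = q * tt z s c1 c1 * q' * (b * b') := by rw [e1']; group
      _ = tt z s c1 c1 * (q * q') * (b * b') := by rw [ca hq]; group
      _ = tt z s c1 c1 * (q' * q * tt z s c3 0) * (b' * b * tt z s 0 c4) := by rw [e3, e4]
      _ = tt z s c1 c1 * q' * (q * (tt z s c3 0 * b')) * b * tt z s 0 c4 := by group
      _ = tt z s c1 c1 * q' * (q * b') * tt z s c3 0 * b * tt z s 0 c4 := by
          rw [← cb hb']; group
      _ = tt z s c1 c1 * (q' * tt z s c2 c2) * (b' * q) * (tt z s c3 0 * b) * tt z s 0 c4 := by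
          rw [e2']; group
      _ = (tt z s c1 c1 * tt z s c2 c2) * (q' * b' * q * b) *
            (tt z s c3 0 * tt z s 0 c4) := by
          rw [ca hq', ← cb hb]; group
      _ = (q' * b' * q * b) * (tt z s (c1 + c2) (c1 + c2) * tt z s (c3 + 0) (0 + c4)) := by
          rw [P.tt_mul c1, P.tt_mul c3, ← mul_assoc (q' * b' * q * b),
            ((((show Commute q' _ from ca hq' (c1 + c2) (c1 + c2)).mul_left (cb hb' _ _)).mul_left
              (ca hq _ _)).mul_left (cb hb _ _)).eq]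
      _ = _ := by
          rw [P.tt_mul, add_zero, zero_add, ← mul_assoc (q' * b'), add_comm (c1 + c2) c3,
            add_assoc c3]
  rw [key]
  constructor
  · intro e
    have e' : tt z s (c3 + c1 + c2) (c1 + c2 + c4) = tt z s 0 0 := by
      rw [mul_eq_left.mp e]; simp [tt, zp]
    exact P.tt_inj e'
  · rintro ⟨h1, h2⟩
    rw [h1, h2]; simp [tt, zp]

theorem exists_A' (a : U6) : ∃ q, InA Q s q ∧ alpha h q = a := by
  obtain ⟨q, hq, hqπ⟩ := P.exists_A a
  exact ⟨q, hq, by simp [alpha, hqπ]⟩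

/-- A partner of `s` is an involution. -/
theorem flip_inv {r : G} (hr : r ∈ Q) (hπr : h.π r = f0) : r * r = 1 :=
  (h.sq_one_iff hr).mpr (by rw [hπr, phi_apply]; decide)

/-- Conjugating `W` by a partner of `s`. -/
theorem flip_W {r q b : G} (hr : r ∈ Q) (hπr : h.π r = f0) (hrs : r * s * r⁻¹ = s * z)
    (hq : InA Q s q) (hb : InB z Q w b) :
    ∃ q', InA Q s q' ∧ alpha h q' = alpha h q + theta h b ∧ r * (q * b) * r⁻¹ = q' * b := by
  obtain ⟨h1, h2⟩ := P.flip_B hr hπr hb
  have hrq : InA Q s (r * q * r⁻¹) := by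
    have hm := mul_mem (mul_mem hr hq.1) (inv_mem hr)
    refine ⟨hm, (P.commA hm).mpr ?_⟩
    rw [h.π_mul _ (mul_mem hr hq.1) _ (inv_mem hr), h.π_mul _ hr _ hq.1, h.π_inv hr,
      add_comm (h.π r), add_assoc, add_self', add_zero]
    exact (P.commA hq.1).mp hq.2
  have hα : alpha h (r * q * r⁻¹) = alpha h q := by
    rw [alpha, h.π_mul _ (mul_mem hr hq.1) _ (inv_mem hr), h.π_mul _ hr _ hq.1, h.π_inv hr,
      add_comm (h.π r), add_assoc, add_self', add_zero]
    rfl
  exact ⟨r * q * r⁻¹ * (r * b * r⁻¹ * b⁻¹), P.InA_mul hrq h1,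
    by rw [P.alpha_mul hrq.1 h1.1, hα, h2], by group⟩

/-- The action on `W` of an element moving `s` to `s z`. -/
theorem move_W {y q b : G} (hyz : y * z = z * y) (hys : y * s * y⁻¹ = s * z)
    (hq : InA Q s q) (hb : InB z Q w b) :
    ∃ q' b', InA Q s q' ∧ InB z Q w b' ∧ y * (q * b) * y⁻¹ = q' * b' ∧
      alpha h q' = res (h.ρ y) (alpha h q) + res (h.ρ y) (theta h b) ∧
      theta h b' = res (h.ρ y) (theta h b) := by
  obtain ⟨r, hr, hπr, hrs⟩ := h.exists_flip P.hs P.hπ
  set m := r⁻¹ * y with hm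
  have hrz := h.le r hr
  have hmz : m * z = z * m := h.mul_comm' (h.inv_comm hrz) hyz
  have hms : m * s = s * m := by
    rw [← mul_inv_eq_iff_eq_mul]
    calc m * s * m⁻¹ = r⁻¹ * (y * s * y⁻¹) * r := by rw [hm]; group
      _ = r⁻¹ * (r * s * r⁻¹) * r := by rw [hys, hrs]
      _ = s := by group
  have hρm : h.ρ m = h.ρ y := by
    rw [hm, h.ρ_mul _ _ (h.inv_comm hrz) hyz, h.ρ_Q (inv_mem hr), one_mul]
  obtain ⟨q', hq', hα, he⟩ := P.flip_W hr hπr hrs (P.InA_conj hmz hms hq) (P.InB_conj hmz hms hb)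
  rw [P.alpha_conj hmz hms hq, P.theta_conj hmz hms hb, hρm] at hα
  exact ⟨q', m * b * m⁻¹, hq', P.InB_conj hmz hms hb, by
    rw [← he, hm]; group, hα, by rw [P.theta_conj hmz hms hb, hρm]⟩

/-- The residual action of an element fixing a standard involution and moving `s` to `s z`. -/
theorem move_res {y q0 b0 : G} (hyz : y * z = z * y) (hys : y * s * y⁻¹ = s * z)
    (hq0 : InA Q s q0) (hb0 : InB z Q w b0) (hyx : y * (q0 * b0) = q0 * b0 * y) :
    res (h.ρ y) (theta h b0) = theta h b0 ∧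
      res (h.ρ y) (alpha h q0) = alpha h q0 + theta h b0 := by
  obtain ⟨q', b', hq', hb', he, hα, hθ⟩ := P.move_W hyz hys hq0 hb0
  rw [mul_inv_eq_iff_eq_mul.mpr hyx] at he
  obtain ⟨e1, e2⟩ := P.pair_unique hq0 hb0 hq' hb' he
  rw [hα] at e1
  rw [hθ] at e2
  refine ⟨e2.symm, ?_⟩
  rw [← e2] at e1
  conv_rhs => rw [e1]
  rw [add_assoc, U6_add_self, add_zero]

end Pair

end Cfsg.Agent.H73.Conway
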